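/-
The involution is conjugate to no other central involution of J.

* `U4_small_index` : SU(4,2) has no proper subgroup of index at most three;
* `Datum.le_J` : 2-subgroups of the centraliser invariant under enough inner elements lie in J;
* `Datum.conj_z_ne` : z is conjugate to no v i and to no z * v i;
* `no_section` : a simple section in which z is isolated and nontrivial is impossible;
* `IsoAt.conj` : transport along elements centralising z.
-/
import Cfsg.Agent.Lib.Fi23ByInvol.Setup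

set_option autoImplicit false
set_option linter.unusedSectionVars false
set_option linter.style.haveILetI false

namespace Cfsg.Agent.Fi23ByInvol

open Cfsg.Agent.ThreeTransSU Cfsg.Agent.U62Rec

universe u v

theorem k_scalar : ∀ s l : K, l ≠ 0 → l ≠ 1 → s * l = l ^ 2 * s → s = 0 := by decide +kernel

theorem fin3_val : ∀ i m : Fin 3, i + (m - i).val • (1 : Fin 3) = m := by decide

theorem U4_not_two : ¬ IsPGroup 2 (⊤ : Subgroup U4) := fun h => by
  haveI : Fact (Nat.Prime 2) := ⟨Nat.prime_two⟩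
  obtain ⟨n, hn⟩ := h.exists_card_eq
  rw [Subgroup.card_top, card_SU4] at hn
  have h5 : (5 : ℕ) ∣ 2 ^ n := by rw [← hn]; norm_num
  exact absurd ((Nat.prime_dvd_prime_iff_eq (by norm_num) Nat.prime_two).1
    ((Nat.prime_iff.1 (by norm_num : Nat.Prime 5)).dvd_of_dvd_pow h5)) (by norm_num)

theorem U4_small_index (S : Subgroup U4) (h : S.index ≤ 3) : S = ⊤ := by
  haveI := simple_U4
  rcases (IsSimpleGroup.eq_bot_or_eq_top_of_normal _ S.normalCore_normal) with hb | ht
  · exfalso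
    have hinj : Function.Injective (MulAction.toPermHom U4 (U4 ⧸ S)) := by
      rw [← MonoidHom.ker_eq_bot_iff, ← Subgroup.normalCore_eq_ker, hb]
    have hle := Nat.card_le_card_of_injective _ hinj
    rw [card_SU4, Nat.card_perm] at hle
    have : (Nat.card (U4 ⧸ S)).factorial ≤ Nat.factorial 3 := Nat.factorial_le h
    simp [Nat.factorial] at this
    omega
  · exact top_le_iff.1 (ht ▸ S.normalCore_le)

variable {G : Type u} [Group G] [Finite G] {z : G}

/-- Two involutions with product of twice odd order: a conjugate commuting with the second. -/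
theorem exists_commuting {a b : G} (ha : a * a = 1) (hb : b * b = 1)
    (ho : Odd (orderOf ((a * b) ^ 2))) : ∃ n : ℕ, Commute ((a * b) ^ n * a * ((a * b) ^ n)⁻¹) b := by
  obtain ⟨n, hn⟩ := ho
  refine ⟨n, ?_⟩
  have hai : a⁻¹ = a := inv_eq_of_mul_eq_one_right ha
  have hbi : b⁻¹ = b := inv_eq_of_mul_eq_one_right hb
  set r := a * b with hr
  have hinv : a * r * a = r⁻¹ := by
    rw [hr, mul_inv_rev, hai, hbi, show a * (a * b) * a = a * a * b * a by group, ha, one_mul]
  have hpow : ∀ k : ℕ, a * r ^ k * a = (r ^ k)⁻¹ := fun k => by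
    induction k with
    | zero => simp [ha]
    | succ k ih =>
      calc a * r ^ (k + 1) * a = a * r ^ k * (a * a) * r * a := by rw [ha, mul_one, pow_succ]; group
        _ = (a * r ^ k * a) * (a * r * a) := by group
        _ = (r ^ (k + 1))⁻¹ := by rw [ih, hinv, ← mul_inv_rev, ← pow_succ']
  set x := r ^ n * a * (r ^ n)⁻¹
  have hx : x = r ^ (2 * n + 1) * b := by
    have hb' : b = a * r := by rw [hr, ← mul_assoc, ha, one_mul]
    calc x = r ^ n * a * (a * r ^ n * a) := by rw [hpow]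
      _ = r ^ n * (a * a) * r ^ n * a := by group
      _ = r ^ (2 * n) * a := by rw [ha, mul_one, ← pow_add, two_mul]
      _ = r ^ (2 * n + 1) * b := by
        rw [pow_succ, hr]
        simp only [mul_assoc, hb, mul_one]
  have hx2 : x * x = 1 := by
    simp only [x]
    rw [show r ^ n * a * (r ^ n)⁻¹ * (r ^ n * a * (r ^ n)⁻¹) = r ^ n * (a * a) * (r ^ n)⁻¹ by group, ha,
      mul_one, mul_inv_cancel]
  have hxb : x * b * (x * b) = 1 := by
    rw [hx, mul_assoc (r ^ (2 * n + 1)) b b, hb, mul_one, ← pow_add,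
      show 2 * n + 1 + (2 * n + 1) = 2 * (2 * n + 1) by ring, pow_mul, ← hn, pow_orderOf_eq_one]
  calc x * b = (x * b)⁻¹ := (inv_eq_of_mul_eq_one_right hxb).symm
    _ = b * x := by rw [mul_inv_rev, hbi, inv_eq_of_mul_eq_one_right hx2]

theorem IsoAt.conj {x k : G} (h : IsoAt z x) (hk : Commute k z) : IsoAt z (k * x * k⁻¹) := fun m hm => by
  have h1 := h _ (commute_conj' k hm)
  have e : k * (k⁻¹ * m * k * z * (k⁻¹ * m * k)⁻¹ * z⁻¹) * k⁻¹ = m * z * m⁻¹ * z⁻¹ := by
    have hz : k * z * k⁻¹ = z := Datum.conj_fix.2 hk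
    calc k * (k⁻¹ * m * k * z * (k⁻¹ * m * k)⁻¹ * z⁻¹) * k⁻¹
        = m * (k * z * k⁻¹) * m⁻¹ * (k * z * k⁻¹)⁻¹ := by group
      _ = _ := by rw [hz]
  rw [← e]
  exact (orderOf_injective (MulAut.conj k).toMonoidHom (MulAut.conj k).injective _).symm ▸ h1

/-- No simple section sees z. -/
theorem no_section {S : Type v} [Group S] [Finite S] (hS : IsSimpleGroup S) (hc : Nat.card S ≠ 2)
    (Y : Subgroup G) (θ : Y →* S) (hθ : Function.Surjective θ) (hz2 : z * z = 1) (hzY : z ∈ Y)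
    (hne : θ ⟨z, hzY⟩ ≠ 1) (hodd : ∀ m ∈ Y, Odd (orderOf (m * z * m⁻¹ * z⁻¹))) : False := by
  haveI := hS
  set s := θ ⟨z, hzY⟩ with hs
  have hs2 : s * s = 1 := by
    rw [hs, ← map_mul, show (⟨z, hzY⟩ : Y) * ⟨z, hzY⟩ = 1 from Subtype.ext hz2, map_one]
  have hso : orderOf s = 2 := orderOf_eq_prime (by rw [pow_two, hs2]) hne
  have hiso : Cfsg.IsIsolatedInvolution s := by
    refine ⟨hso, fun g hg => ?_⟩
    obtain ⟨m, rfl⟩ := hθ g
    have h1 : Odd (orderOf (θ m * s * (θ m)⁻¹ * s⁻¹)) := by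
      refine (hodd m m.2).of_dvd_nat ?_
      have e : θ m * s * (θ m)⁻¹ * s⁻¹ = θ (m * ⟨z, hzY⟩ * m⁻¹ * ⟨z, hzY⟩⁻¹) := by
        simp only [hs, map_mul, map_inv]
      rw [e]
      refine (orderOf_map_dvd θ _).trans ?_
      rw [← Subgroup.orderOf_coe]
      rfl
    refine mul_inv_eq_one.1 (Datum.odd_eq_one (n := 1) ?_ h1)
    have ht : θ m * s * (θ m)⁻¹ * (θ m * s * (θ m)⁻¹) = 1 := by
      rw [show θ m * s * (θ m)⁻¹ * (θ m * s * (θ m)⁻¹) = θ m * (s * s) * (θ m)⁻¹ by group, hs2, mul_one,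
        mul_inv_cancel]
    rw [pow_one, pow_two, inv_eq_of_mul_eq_one_right hs2,
      show θ m * s * (θ m)⁻¹ * s * (θ m * s * (θ m)⁻¹ * s)
        = θ m * s * (θ m)⁻¹ * (s * (θ m * s * (θ m)⁻¹)) * s by group, hg.eq,
      show θ m * s * (θ m)⁻¹ * (θ m * s * (θ m)⁻¹ * s) * s
        = θ m * s * (θ m)⁻¹ * (θ m * s * (θ m)⁻¹) * (s * s) by group, ht, hs2, mul_one]
  have htop := centralizer_sup_oddCore hiso
  haveI : (Cfsg.oddCore S).Normal := Cores.pPrimeCore_normal 2 S
  have hO : Cfsg.oddCore S = ⊥ := by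
    refine (IsSimpleGroup.eq_bot_or_eq_top_of_normal _ inferInstance).resolve_right fun e => ?_
    have h2 : (Nat.card (Cfsg.oddCore S)).Coprime 2 := Cores.coprime_card_pPrimeCore 2
    rw [e, Subgroup.card_top] at h2
    exact (Nat.prime_two.coprime_iff_not_dvd.1 h2.symm) (hso ▸ orderOf_dvd_natCard s)
  rw [hO, sup_bot_eq] at htop
  have hcen : ∀ x : S, x * s = s * x := fun x =>
    Subgroup.mem_centralizer_singleton_iff.1 (htop ▸ Subgroup.mem_top x)
  haveI hn : (Subgroup.zpowers s).Normal := ⟨fun a ha g => by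
    obtain ⟨k, rfl⟩ := Subgroup.mem_zpowers_iff.1 ha
    rw [((show Commute g s from hcen g).zpow_right k).eq, mul_inv_cancel_right]
    exact Subgroup.zpow_mem_zpowers s k⟩
  rcases IsSimpleGroup.eq_bot_or_eq_top_of_normal _ hn with e | e
  · exact hne (Subgroup.mem_bot.1 (e ▸ Subgroup.mem_zpowers s))
  · exact hc (by rw [← Subgroup.card_top, ← e, Nat.card_zpowers, hso])

namespace Datum

variable (D : Datum z)

/-- The inner part as a subgroup. -/
def InS : Subgroup G where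
  carrier := {h | D.In h}
  one_mem' := D.In_one
  mul_mem' := fun ha hb => D.In_mul ha hb
  inv_mem' := fun ha => D.In_inv ha

/-- The map of the inner part. -/
def φhom : D.InS →* U4 where
  toFun h := D.φ h
  map_one' := D.φ_one
  map_mul' a b := D.φ_mul' a.2 b.2

theorem φhom_surj : Function.Surjective D.φhom := fun a => by
  obtain ⟨h, hz, hv, e⟩ := D.φ_surj a
  exact ⟨⟨h, hz, hv⟩, e⟩

theorem In_conj {x h : G} (hx : Commute x z) (hh : D.In h) : D.In (x * h * x⁻¹) := by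
  refine ⟨(hx.mul_left hh.1).mul_left hx.inv_left, fun i => ?_⟩
  obtain ⟨j, e⟩ := D.v_perm x⁻¹ hx.inv_left i
  have h2 := commute_conj x (hh.2 j)
  rwa [← e, inv_inv, show x * (x⁻¹ * D.v i * x) * x⁻¹ = D.v i by group] at h2

theorem J_two : IsPGroup 2 D.J := fun j => ⟨2, Subtype.ext (D.J_four j.2)⟩

theorem Zs_of_central {j : G} (hj : j ∈ D.J) (h : ∀ i ∈ D.J, Commute i j) : D.Zs j := by
  refine D.Zs_of_vec hj ?_
  by_contra hne
  obtain ⟨x, hx⟩ := B_nondeg hne
  have e := (D.B_iff (D.lift_mem x) hj).2 (h _ (D.lift_mem x))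
  rw [D.vec_lift] at e
  exact one_ne_zero (hx.symm.trans e)

theorem comm_z_pair : ∃ a b, a ∈ D.J ∧ b ∈ D.J ∧ a * b = b * a * z := by
  obtain ⟨x, y, hx, hy, -, -, e⟩ := D.J_pair D.z_mem
  exact ⟨x, y, hx, hy, e⟩

theorem c_pow_v (n : ℕ) (i : Fin 3) : D.c ^ n * D.v i * (D.c ^ n)⁻¹ = D.v (i + n • (1 : Fin 3)) := by
  induction n with
  | zero => simp
  | succ n ih =>
    rw [show D.c ^ (n + 1) * D.v i * (D.c ^ (n + 1))⁻¹ = D.c * (D.c ^ n * D.v i * (D.c ^ n)⁻¹) * D.c⁻¹ by
      rw [pow_succ']; group, ih, D.c_v, succ_nsmul, add_assoc]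

theorem exists_shift (i m : Fin 3) : ∃ k : G, Commute k z ∧ k * D.v i * k⁻¹ = D.v m :=
  ⟨D.c ^ (m - i).val, D.c_z.pow_left _, by rw [D.c_pow_v, fin3_val]⟩

/-- 2-subgroups of the centraliser invariant under preimages of all of SU(4,2) lie in J. -/
theorem le_J (P : Subgroup G) (hP : IsPGroup 2 P) (hPz : ∀ x ∈ P, Commute x z)
    (hS : ∀ a : U4, ∃ k, D.In k ∧ D.φ k = a ∧ ∀ x ∈ P, k * x * k⁻¹ ∈ P) : P ≤ D.J := by
  haveI := simple_U4
  set Q := (P.subgroupOf D.InS).map D.φhom with hQ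
  haveI hQn : Q.Normal := ⟨by
    rintro _ ⟨⟨x, hxI⟩, hxP, rfl⟩ a
    obtain ⟨k, hk, rfl, hkP⟩ := hS a
    exact ⟨⟨k, hk⟩ * ⟨x, hxI⟩ * ⟨k, hk⟩⁻¹, hkP x hxP, by rw [map_mul, map_mul, map_inv]; rfl⟩⟩
  have hQ2 : IsPGroup 2 Q := (hP.comap_of_injective D.InS.subtype D.InS.subtype_injective).map _
  have hbot : Q = ⊥ := (IsSimpleGroup.eq_bot_or_eq_top_of_normal _ hQn).resolve_right fun e =>
    U4_not_two (e ▸ hQ2)
  have hin : ∀ x ∈ P, D.In x → x ∈ D.J := fun x hx hI => by
    have : D.φhom ⟨x, hI⟩ = 1 := Subgroup.mem_bot.1 (hbot ▸ ⟨⟨x, hI⟩, hx, rfl⟩)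
    exact (D.φ_ker x hI.1 hI.2).1 this
  intro x hx
  by_contra hxJ
  have hxo : ¬ D.In x := fun h => hxJ (hin x hx h)
  have hxz := hPz x hx
  -- a fixed point
  obtain ⟨i, hi⟩ : ∃ i, Commute x (D.v i) := by
    by_contra! hno
    obtain ⟨n, hn⟩ := hP ⟨x, hx⟩
    have hn' : x ^ 2 ^ n = 1 := congrArg Subtype.val hn
    choose σ hσ using fun i => D.v_perm x hxz i
    have hnf : ∀ i, σ i ≠ i := fun i e => hno i (conj_fix.1 ((hσ i).trans (congrArg D.v e)))
    have hinj : ∀ i m, σ i = σ m → i = m := fun i m e =>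
      D.v_inj ((MulAut.conj x).injective ((hσ i).trans (e ▸ (hσ m).symm)))
    have key : ∀ a b c : Fin 3, a ≠ 0 → b ≠ 1 → c ≠ 2 → a ≠ b → b ≠ c → a ≠ c →
        (a = 1 ∧ b = 2 ∧ c = 0) ∨ (a = 2 ∧ b = 0 ∧ c = 1) := by decide
    obtain ⟨d, hd, hdne⟩ : ∃ d : Fin 3, (∀ i, σ i = i + d) ∧ d ≠ 0 := by
      rcases key (σ 0) (σ 1) (σ 2) (hnf 0) (hnf 1) (hnf 2) (fun e => absurd (hinj _ _ e) (by decide))
        (fun e => absurd (hinj _ _ e) (by decide)) (fun e => absurd (hinj _ _ e) (by decide)) with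
        ⟨e0, e1, e2⟩ | ⟨e0, e1, e2⟩
      · refine ⟨1, fun i => ?_, by decide⟩
        fin_cases i
        exacts [e0, e1, e2]
      · refine ⟨2, fun i => ?_, by decide⟩
        fin_cases i
        exacts [e0, e1, e2]
    have hpow : ∀ (k : ℕ) i, x ^ k * D.v i * (x ^ k)⁻¹ = D.v (i + k • d) := fun k => by
      induction k with
      | zero => intro i; simp
      | succ k ih =>
        intro i
        rw [show x ^ (k + 1) * D.v i * (x ^ (k + 1))⁻¹ = x * (x ^ k * D.v i * (x ^ k)⁻¹) * x⁻¹ by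
          rw [pow_succ']; group, ih, hσ, hd, succ_nsmul, add_assoc]
    have e := hpow (2 ^ n) 0
    rw [hn', one_mul, inv_one, mul_one, zero_add] at e
    have e2 : (2 ^ n) • d = 0 := (D.v_inj e).symm
    have key2 : ∀ a : Fin 3, a ≠ 0 → a + a ≠ 0 := by decide
    have h2 : ∀ m : ℕ, (2 ^ m) • d ≠ 0 := fun m => by
      induction m with
      | zero => rwa [pow_zero, one_nsmul]
      | succ m ih => rw [pow_succ, mul_two, add_nsmul]; exact key2 _ ih
    exact h2 n e2
  -- the action is scalar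
  have hT : ∀ a y, D.T x (act a y) = act a (D.T x y) := fun a y => by
    obtain ⟨k, hk, rfl, hkP⟩ := hS a
    have hr : k * x * k⁻¹ * x⁻¹ ∈ D.J := hin _ (mul_mem (hkP x hx) (inv_mem hx)) (by
      rw [show k * x * k⁻¹ * x⁻¹ = k * (x * k⁻¹ * x⁻¹) by group]
      exact D.In_mul hk (D.In_conj hxz (D.In_inv hk)))
    rw [← D.T_In hk, ← D.T_In hk, ← D.T_mul hxz hk.1, ← D.T_mul hk.1 hxz,
      show k * x = (k * x * k⁻¹ * x⁻¹) * (x * k) by group, D.T_mul (D.J_cent _ hr) (hxz.mul_left hk.1),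
      D.T_J hr]
  obtain ⟨s, hs⟩ := exists_scalar (AddMonoidHom.mk' (D.T x) (D.T_add hxz)) hT
  have hs' : ∀ y, D.T x y = s • y := hs
  have hp : p₀ ≠ 0 := std_pair.1.1
  have e := D.T_lam hxz hxo hi p₀
  rw [hs', hs', smul_smul, smul_smul] at e
  have hs0 : s = 0 := k_scalar _ _ D.lam0 D.lam1 (smul_left_injective K hp e)
  apply hp
  have e1 : D.T x⁻¹ (D.T x p₀) = p₀ := by rw [← D.T_mul hxz.inv_left hxz, inv_mul_cancel, D.T_one]
  rw [← e1, hs' p₀, hs0, zero_smul, D.T_zero hxz.inv_left]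

/-- Centralising u in the centraliser is centralising v. -/
theorem comm_u_iff {u h : G} {i : Fin 3} (hu : u = D.v i ∨ u = z * D.v i) (hh : Commute h z) :
    Commute h u ↔ Commute h (D.v i) := by
  rcases hu with rfl | rfl
  · exact Iff.rfl
  · refine ⟨fun h1 => ?_, fun h1 => hh.mul_right h1⟩
    have := hh.mul_right h1
    rwa [← mul_assoc, D.z_sq, one_mul] at this

/-- z is conjugate to no other central involution of J. -/
theorem conj_z_ne {u : G} {i : Fin 3} (hu : u = D.v i ∨ u = z * D.v i) (g : G) : g * z * g⁻¹ ≠ u := by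
  intro hg
  set k := g⁻¹ with hk
  have hku : k * u * k⁻¹ = z := by rw [← hg, hk]; group
  set w := k * z * k⁻¹ with hw
  let Cu : Subgroup G :=
    { carrier := {h | Commute h z ∧ Commute h u}
      one_mem' := ⟨Commute.one_left _, Commute.one_left _⟩
      mul_mem' := fun {a b} ha hb => ⟨ha.1.mul_left hb.1, ha.2.mul_left hb.2⟩
      inv_mem' := fun {a} ha => ⟨ha.1.inv_left, ha.2.inv_left⟩ }
  set L := Cu.map (MulAut.conj k).toMonoidHom with hL
  have hmem : ∀ h ∈ Cu, Commute (k * h * k⁻¹) z ∧ Commute (k * h * k⁻¹) w := fun h hh => by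
    refine ⟨?_, commute_conj k hh.1⟩
    rw [← hku]; exact commute_conj k hh.2
  -- J goes into J
  have hJL : ∀ j ∈ D.J, j ∈ Cu := fun j hj =>
    ⟨D.J_cent j hj, (D.comm_u_iff hu (D.J_cent j hj)).2 (D.v_comm i j hj)⟩
  have hsub : L ≤ Subgroup.centralizer ({z} : Set G) := by
    rintro _ ⟨h, hh, rfl⟩
    exact Subgroup.mem_centralizer_singleton_iff.2 (hmem h hh).1
  have hHcard : Nat.card (Subgroup.centralizer ({z} : Set G)) ≤ 3 * Nat.card L := by
    rw [hL, Subgroup.card_map_of_injective (MulAut.conj k).injective]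
    choose σ hσ using fun h : Subgroup.centralizer ({z} : Set G) =>
      D.v_perm h (Subgroup.mem_centralizer_singleton_iff.1 h.2) i
    have hd : ∀ h : Subgroup.centralizer ({z} : Set G), (D.c ^ (σ h - i).val)⁻¹ * h ∈ Cu := fun h => by
      have hz : Commute ((D.c ^ (σ h - i).val)⁻¹ * (h : G)) z :=
        (D.c_z.pow_left _).inv_left.mul_left (Subgroup.mem_centralizer_singleton_iff.1 h.2)
      refine ⟨hz, (D.comm_u_iff hu hz).2 (conj_fix.1 ?_)⟩
      rw [show (D.c ^ (σ h - i).val)⁻¹ * (h : G) * D.v i * ((D.c ^ (σ h - i).val)⁻¹ * (h : G))⁻¹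
          = (D.c ^ (σ h - i).val)⁻¹ * ((h : G) * D.v i * (h : G)⁻¹) * D.c ^ (σ h - i).val by group, hσ]
      have e := D.c_pow_v (σ h - i).val i
      rw [fin3_val] at e
      rw [← e]; group
    have hinj : Function.Injective fun h => ((σ h, ⟨_, hd h⟩) : Fin 3 × Cu) := fun a b e => by
      have e1 := congrArg Prod.fst e
      have e2 := congrArg (fun p => ((p.2 : Cu) : G)) e
      simp only at e1 e2
      rw [e1] at e2
      exact Subtype.ext (mul_left_cancel e2)
    have := Nat.card_le_card_of_injective _ hinj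
    rwa [Nat.card_prod, Nat.card_eq_fintype_card (α := Fin 3), Fintype.card_fin] at this
  have hIn : ∀ a : U4, ∃ x, D.In x ∧ D.φ x = a ∧ x ∈ L := by
    have hrel : L.relIndex D.InS ≤ 3 := by
      refine le_trans (Subgroup.relIndex_le_of_le_right
        (fun x hx => Subgroup.mem_centralizer_singleton_iff.2 (hx : D.In x).1) Subgroup.FiniteIndex.index_ne_zero) ?_
      have hm := (L.subgroupOf (Subgroup.centralizer ({z} : Set G))).card_mul_index
      rw [Cores.card_subgroupOf hsub] at hm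
      by_contra! h4
      have h5 : 4 * Nat.card L ≤ Nat.card L * (L.subgroupOf (Subgroup.centralizer ({z} : Set G))).index := by
        rw [mul_comm]; exact Nat.mul_le_mul_left _ h4
      have := Nat.card_pos (α := L)
      omega
    have htop : (L.subgroupOf D.InS).map D.φhom = ⊤ := by
      refine U4_small_index _ (le_trans (Nat.le_of_dvd ?_ (Subgroup.index_map_dvd _ D.φhom_surj)) hrel)
      exact Nat.pos_of_ne_zero Subgroup.FiniteIndex.index_ne_zero
    intro a
    obtain ⟨x, hxL, e⟩ := (htop ▸ Subgroup.mem_top a : a ∈ (L.subgroupOf D.InS).map D.φhom)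
    exact ⟨x, x.2, e, hxL⟩
  have hP : D.J.map (MulAut.conj k).toMonoidHom ≤ D.J := by
    refine D.le_J _ (D.J_two.map _) ?_ fun a => ?_
    · rintro _ ⟨j, hj, rfl⟩
      exact (hmem j (hJL j hj)).1
    · obtain ⟨x, hxI, hxa, h, hh, rfl⟩ := hIn a
      refine ⟨_, hxI, hxa, ?_⟩
      rintro _ ⟨j, hj, rfl⟩
      exact ⟨h * j * h⁻¹, D.J_norm h hh.1 j hj, by simp [mul_assoc]⟩
  obtain ⟨a, b, ha, hb, hab⟩ := D.comm_z_pair
  set A := k * a * k⁻¹
  set B' := k * b * k⁻¹
  have hA : A ∈ D.J := hP ⟨a, ha, rfl⟩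
  have hB : B' ∈ D.J := hP ⟨b, hb, rfl⟩
  have e : A * B' = B' * A * w := by
    calc A * B' = k * (a * b) * k⁻¹ := by simp only [A, B']; group
      _ = _ := by rw [hab]; simp only [A, B', w]; group
  rcases em (B (D.vec A) (D.vec B') = 0) with hB0 | hB0
  · rw [(D.comm_zero _ hA _ hB hB0).eq] at e
    exact D.z_ne (conj_eq_one_iff.1 (left_eq_mul.1 e))
  · rw [D.comm_ne _ hA _ hB hB0] at e
    have hwz : z = w := mul_left_cancel e
    have hkz : Commute k z := conj_fix.1 hwz.symm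
    have hzu : u = z := (MulAut.conj k).injective (show k * u * k⁻¹ = k * z * k⁻¹ by rw [hku, ← hw, ← hwz])
    rcases hu with rfl | rfl
    · exact D.v_z i hzu
    · exact D.v_one i (mul_eq_left.1 hzu)

end Datum

end Cfsg.Agent.Fi23ByInvol
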