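import Cfsg.Agent.Lib.Fi23ByInvol.Datum
import Cfsg.Agent.Lib.U62Rec.HypSimple
import Cfsg.Agent.S0815

/-!
Control of the 2-local subgroups, and the quotient by the central four-group (helper86).

* `control` : a subgroup controlling three classes of involutions is everything;
* `Datum.aut_equiv` : the quotient by the four-group is the automorphism group of PSU(6,2).
-/

set_option autoImplicit false
set_option linter.unusedSectionVars false

namespace Cfsg.Agent.Fi23ByInvol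

open Cfsg.Agent.ThreeTransSU Cfsg.Agent.U62Rec

/-- A subgroup controlling three classes of involutions is the whole group. -/
theorem control {G : Type*} [Group G] [Finite G] (N : Subgroup G) (Z V D : Set G)
    (hZ2 : ∀ a ∈ Z, a * a = 1) (hV2 : ∀ b ∈ V, b * b = 1) (_hdisj : Disjoint Z V)
    (cZ : ∀ g : G, ∀ x ∈ Z, g * x * g⁻¹ ∈ Z) (cV : ∀ g : G, ∀ x ∈ V, g * x * g⁻¹ ∈ V)
    (_cD : ∀ g : G, ∀ x ∈ D, g * x * g⁻¹ ∈ D)
    (uZ : ∀ a ∈ Z, a ∈ N → ∀ g, g * a * g⁻¹ ∈ N → g ∈ N)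
    (uV : ∀ a ∈ V, a ∈ N → ∀ g, g * a * g⁻¹ ∈ N → g ∈ N)
    (uD : ∀ a ∈ D, a ∈ N → ∀ g, g * a * g⁻¹ ∈ N → g ∈ N)
    (hprod : ∀ a ∈ Z, ∀ b ∈ V, a ∈ N → b ∈ N → Commute a b → b * a ∈ D)
    (cent : ∀ T : Subgroup G, T ≤ N → IsPGroup 2 T →
      ∃ a ∈ Z, ∃ b ∈ V, a ∈ N ∧ b ∈ N ∧ ∀ t ∈ T, Commute a t ∧ Commute b t) : N = ⊤ := by
  classical
  suffices H : ∀ n : ℕ, ∀ T : Subgroup G, T ≤ N → IsPGroup 2 T → Nat.card G - Nat.card T = n →
      Subgroup.normalizer (T : Set G) ≤ N by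
    refine eq_top_iff.2 (le_trans ?_ (H _ ⊥ bot_le IsPGroup.of_bot rfl))
    rw [Subgroup.normalizer_eq_top]
  intro n
  induction n using Nat.strong_induction_on with
  | _ n ih =>
  intro T hTN hT hn g hg
  have hgT : ∀ x ∈ T, g * x * g⁻¹ ∈ T := fun x hx => (Subgroup.mem_normalizer_iff.1 hg x).1 hx
  have hgT' : ∀ x ∈ T, g⁻¹ * x * g ∈ T := fun x hx => by
    refine (Subgroup.mem_normalizer_iff.1 hg _).2 ?_
    rwa [show g * (g⁻¹ * x * g) * g⁻¹ = x by group]
  by_cases hex : ∃ x ∈ T, x ∈ Z ∨ x ∈ V ∨ x ∈ D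
  · obtain ⟨x, hx, h⟩ := hex
    rcases h with h | h | h
    exacts [uZ x h (hTN hx) g (hTN (hgT x hx)), uV x h (hTN hx) g (hTN (hgT x hx)),
      uD x h (hTN hx) g (hTN (hgT x hx))]
  push Not at hex
  obtain ⟨a, ha, b, hb, haN, hbN, hab⟩ := cent T hTN hT
  obtain ⟨w, hw⟩ : ∃ w, w = g * b * g⁻¹ := ⟨_, rfl⟩
  have hwV : w ∈ V := hw ▸ cV g b hb
  have hwT : ∀ t ∈ T, Commute w t := fun t ht => by
    have h := commute_conj g (hab _ (hgT' t ht)).2
    rwa [← hw, show g * (g⁻¹ * t * g) * g⁻¹ = t by group] at h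
  have ha2 := hZ2 a ha
  have hw2 := hV2 w hwV
  have hai : a⁻¹ = a := inv_eq_of_mul_eq_one_right ha2
  have hwi : w⁻¹ = w := inv_eq_of_mul_eq_one_right hw2
  set d := a * w with hd
  have hdT : ∀ t ∈ T, Commute d t := fun t ht => (hab t ht).1.mul_left (hwT t ht)
  have hadk : ∀ k : ℕ, a * d ^ k * a⁻¹ = (d ^ k)⁻¹ := fun k => by
    rw [← conj_pow, ← inv_pow]
    congr 1
    rw [hd, mul_inv_rev, hai, hwi, ← mul_assoc, ha2, one_mul]
  have hwdk : ∀ k : ℕ, w * d ^ k * w⁻¹ = (d ^ k)⁻¹ := fun k => by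
    rw [← conj_pow, ← inv_pow]
    congr 1
    rw [hd, mul_inv_rev, hai, hwi, ← mul_assoc, mul_assoc (w * a), hw2, mul_one]
  have hconj : ∀ k : ℕ, d ^ k * a * (d ^ k)⁻¹ = d ^ (2 * k) * a := fun k => by
    rw [← hadk k, two_mul, pow_add]
    simp only [mul_assoc, hai]
    rw [← mul_assoc a a, ha2, one_mul]
  by_cases hodd : ∃ i, d ^ (2 * i + 1) ∈ T
  · exfalso
    obtain ⟨i, hi⟩ := hodd
    have e : d ^ i * a * (d ^ i)⁻¹ = d ^ (2 * i + 1) * w := by
      rw [hconj, pow_succ, hd, mul_assoc, mul_assoc a w w, hw2, mul_one]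
    have ht' := hgT' _ hi
    set t' := g⁻¹ * d ^ (2 * i + 1) * g with ht'd
    have hz' : t' * b ∈ Z := by
      have h := cZ g⁻¹ _ (cZ (d ^ i) a ha)
      rw [e, inv_inv] at h
      rwa [show g⁻¹ * (d ^ (2 * i + 1) * w) * g = t' * b by simp only [ht'd, hw]; group] at h
    have hbt : Commute b t' := (hab t' ht').2
    have hD := hprod _ hz' b hb (mul_mem (hTN ht') hbN) hbN (hbt.symm.mul_left (Commute.refl b))
    rw [← mul_assoc, hbt.eq, mul_assoc, hV2 b hb, mul_one] at hD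
    exact (hex t' ht').2.2 hD
  push Not at hodd
  have hex' : ∃ k, 0 < k ∧ d ^ k ∈ T := ⟨orderOf d, orderOf_pos d, by rw [pow_orderOf_eq_one]; exact one_mem T⟩
  obtain ⟨hm0, hmT⟩ := Nat.find_spec hex'
  obtain ⟨i, hi⟩ : ∃ i, Nat.find hex' = 2 * i := by
    rcases Nat.even_or_odd' (Nat.find hex') with ⟨i, h | h⟩
    · exact ⟨i, h⟩
    · exact absurd (h ▸ hmT) (hodd i)
  rw [hi] at hm0 hmT
  set u := d ^ i with hu
  have huT : u ∉ T := fun h => Nat.find_min hex' (show i < Nat.find hex' by omega) ⟨by omega, h⟩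
  have hu2 : u * u ∈ T := by rw [hu, ← pow_add, ← two_mul]; exact hmT
  have huN : u ∈ N := by
    refine uZ a ha haN u ?_
    rw [hu, hconj]
    exact mul_mem (hTN hmT) haN
  set T' := T ⊔ Subgroup.zpowers u with hT'
  have hnorm : Subgroup.zpowers u ≤ Subgroup.normalizer (T : Set G) :=
    Subgroup.zpowers_le.2 <| Subgroup.mem_normalizer_iff.2 fun t => by
      have key : ∀ t ∈ T, u * t * u⁻¹ = t := fun t ht => by
        rw [((hdT t ht).pow_left i).eq, mul_inv_cancel_right]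
      refine ⟨fun ht => (key t ht).symm ▸ ht, fun h => ?_⟩
      have h3 : Commute u⁻¹ (u * t * u⁻¹) := ((hdT _ h).pow_left i).inv_left
      have e : u * t * u⁻¹ = t := by
        calc u * t * u⁻¹ = (u * t * u⁻¹) * u⁻¹ * u := by group
          _ = u⁻¹ * (u * t * u⁻¹) * u := by rw [h3.eq]
          _ = t := by group
      rwa [e] at h
  have hT'N : T' ≤ N := sup_le hTN (Subgroup.zpowers_le.2 huN)
  have hzp : IsPGroup 2 (Subgroup.zpowers u) := by
    obtain ⟨k, hk⟩ := hT ⟨u * u, hu2⟩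
    have hk' : (u * u) ^ 2 ^ k = 1 := congrArg Subtype.val hk
    rintro ⟨x, hx⟩
    obtain ⟨j, rfl⟩ := Subgroup.mem_zpowers_iff.1 hx
    refine ⟨k + 1, Subtype.ext ?_⟩
    show (u ^ j) ^ 2 ^ (k + 1) = 1
    rw [← zpow_natCast, ← zpow_mul, mul_comm, zpow_mul, zpow_natCast, pow_succ', pow_mul, pow_two,
      hk', one_zpow]
  have hpT' : IsPGroup 2 T' := hT.to_sup_of_normal_left' hzp hnorm
  have hlt : Nat.card T < Nat.card T' := by
    have hle : T ≤ T' := le_sup_left
    refine lt_of_le_of_ne (Subgroup.card_le_of_le hle) fun e => huT ?_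
    rw [Subgroup.eq_of_le_of_card_ge hle e.ge]
    exact Subgroup.mem_sup_right (Subgroup.mem_zpowers u)
  have hIH : Subgroup.normalizer (T' : Set G) ≤ N :=
    ih _ (by have := Subgroup.card_le_card_group T'; omega) T' hT'N hpT' rfl
  have huinv : u⁻¹ ∈ T' := inv_mem (Subgroup.mem_sup_right (Subgroup.mem_zpowers u))
  have hwN : w ∈ N := by
    refine hIH (Subgroup.mem_normalizer_fintype fun x hx => ?_)
    have hle : T' ≤ T'.comap (MulAut.conj w).toMonoidHom := by
      refine sup_le (fun t ht => ?_) (Subgroup.zpowers_le.2 ?_)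
      · show w * t * w⁻¹ ∈ T'
        rw [(hwT t ht).eq, mul_inv_cancel_right]
        exact Subgroup.mem_sup_left ht
      · show w * u * w⁻¹ ∈ T'
        rw [hu, hwdk]
        exact huinv
    exact hle hx
  exact uV b hb hbN g (hw ▸ hwN)

namespace Datum

variable {G : Type*} [Group G] {z : G}

/-- The quotient by the four-group of the central involutions. -/
theorem aut_equiv [Finite G] (D : Datum z) (W : Subgroup G) [W.Normal]
    (hW : ∀ x, x ∈ W ↔ x = 1 ∨ ∃ i, x = D.v i) (hzc : ∀ i g, g * z * g⁻¹ ≠ z * D.v i)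
    {F : Type*} [Field F] [Fintype F] (hF : Fintype.card F = 4)
    (e : ((Subgroup.centralizer (W : Set G)).map (QuotientGroup.mk' W)) ≃* Cfsg.PSU 6 F 2) :
    Nonempty ((G ⧸ W) ≃* MulAut (Cfsg.PSU 6 F 2)) := by
  classical
  set C := Subgroup.centralizer (W : Set G) with hC
  set T := C.map (QuotientGroup.mk' W) with hT
  have hmemC : ∀ x, x ∈ C ↔ ∀ i, Commute x (D.v i) := fun x => by
    rw [hC, Subgroup.mem_centralizer_iff]
    refine ⟨fun h i => (h _ ((hW _).2 (Or.inr ⟨i, rfl⟩))).symm, fun h w hw => ?_⟩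
    rcases (hW w).1 hw with rfl | ⟨i, rfl⟩
    · simp
    · exact (h i).eq.symm
  have hIn : ∀ {x}, D.In x → x ∈ C := fun hx => (hmemC _).2 hx.2
  have hzC : z ∈ C := (hmemC z).2 fun i => (D.J_cent _ (D.v_mem i)).symm
  have hWC : W ≤ C := fun w hw => (hmemC w).2 fun i => by
    rcases (hW w).1 hw with rfl | ⟨k, rfl⟩
    · exact Commute.one_left _
    · exact D.v_comm i _ (D.v_mem k)
  have hWJ : W ≤ D.J := fun w hw => by
    rcases (hW w).1 hw with rfl | ⟨k, rfl⟩
    exacts [one_mem _, D.v_mem k]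
  have : C.Normal := hC ▸ Subgroup.normal_centralizer
  have : T.Normal := Subgroup.Normal.map inferInstance _ (QuotientGroup.mk'_surjective W)
  -- the action on the three involutions
  have hperm : ∀ g : G, ∀ i, ∃ k, g * D.v i * g⁻¹ = D.v k := fun g i => by
    rcases (hW _).1 (Subgroup.Normal.conj_mem inferInstance _ ((hW _).2 (Or.inr ⟨i, rfl⟩)) g) with h | h
    · exact absurd (conj_eq_one_iff.1 h) (D.v_one i)
    · exact h
  choose π hπ using hperm
  have πmul : ∀ g h i, π (g * h) i = π g (π h i) := fun g h i => D.v_inj (by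
    rw [← hπ, ← hπ, ← hπ h i]; group)
  have πone : ∀ i, π 1 i = i := fun i => D.v_inj (by rw [← hπ]; group)
  let ρ : G →* Equiv.Perm (Fin 3) :=
    { toFun := fun g => ⟨π g, π g⁻¹, fun i => by rw [← πmul, inv_mul_cancel, πone],
        fun i => by rw [← πmul, mul_inv_cancel, πone]⟩
      map_one' := Equiv.ext πone
      map_mul' := fun g h => Equiv.ext (πmul g h) }
  have hker : ρ.ker = C := by
    ext g
    rw [MonoidHom.mem_ker, hmemC]
    constructor
    · intro h i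
      have h' : π g i = i := congrArg (fun f : Equiv.Perm (Fin 3) => f i) h
      exact conj_fix.1 (by rw [hπ, h'])
    · intro h
      refine Equiv.ext fun i => D.v_inj ?_
      show D.v (π g i) = D.v i
      rw [← hπ, conj_fix.2 (h i)]
  have hρ : Nat.card ρ.range = 6 := by
    obtain ⟨o, hoz, ho0, ho1⟩ := D.outer
    have hoI : ¬ D.In o := fun h => ho1 (h.2 1)
    have hc0 : ρ D.c 0 = 1 ∧ ρ D.c 1 = 2 ∧ ρ D.c 2 = 0 :=
      ⟨D.v_inj ((hπ _ _).symm.trans (D.c_v 0)), D.v_inj ((hπ _ _).symm.trans (D.c_v 1)),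
        D.v_inj ((hπ _ _).symm.trans (D.c_v 2))⟩
    have ho' : ρ o 0 = 0 ∧ ρ o 1 = 2 :=
      ⟨D.v_inj ((hπ _ _).symm.trans (conj_fix.2 ho0)),
        D.v_inj ((hπ _ _).symm.trans (D.swap hoz hoI (i := 0) (m := 1) (k := 2) (by decide) (by decide)
          (by decide) ho0))⟩
    have hall : ∀ p q : Equiv.Perm (Fin 3), p 0 = 1 → p 1 = 2 → p 2 = 0 → q 0 = 0 → q 1 = 2 →
        ∀ r : Equiv.Perm (Fin 3), r = 1 ∨ r = p ∨ r = p * p ∨ r = q ∨ r = q * p ∨ r = q * (p * p) := by
      decide +kernel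
    have htop : ρ.range = ⊤ := eq_top_iff.2 fun r _ => by
      have hp : ρ D.c ∈ ρ.range := ⟨D.c, rfl⟩
      have hq : ρ o ∈ ρ.range := ⟨o, rfl⟩
      rcases hall (ρ D.c) (ρ o) hc0.1 hc0.2.1 hc0.2.2 ho'.1 ho'.2 r with h | h | h | h | h | h <;>
        rw [h]
      exacts [one_mem _, hp, mul_mem hp hp, hq, mul_mem hq hp, mul_mem hq (mul_mem hp hp)]
    rw [htop, Subgroup.card_top, Nat.card_perm, Nat.card_fin]
    rfl
  have hidx : T.index = 6 := by
    rw [hT, Subgroup.index_map_eq _ (QuotientGroup.mk'_surjective W) (by rw [QuotientGroup.ker_mk']; exact hWC),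
      ← hker, Subgroup.index_ker, hρ]
  have hcardQ : Nat.card (G ⧸ W) = 6 * Nat.card (Cfsg.PSU 6 F 2) := by
    rw [← T.index_mul_card, hidx, Nat.card_congr e.toEquiv]
  -- the socle is not abelian
  have hsimp : IsSimpleGroup (Cfsg.PSU 6 F 2) :=
    Unitary.isSimpleGroup_PSU (n := 6) (by rw [hF]; norm_num) (Or.inl (by norm_num))
  have : IsSimpleGroup T := MulEquiv.isSimpleGroup e
  have hcen : Subgroup.center T = ⊥ := by
    refine ((inferInstance : (Subgroup.center T).Normal).eq_bot_or_eq_top).resolve_right fun h => ?_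
    have hU : Subgroup.center U4 = ⊤ := eq_top_iff.2 fun x _ => Subgroup.mem_center_iff.2 fun y => by
      obtain ⟨a, ha1, ha2, hax⟩ := D.φ_surj x
      obtain ⟨b, hb1, hb2, hby⟩ := D.φ_surj y
      have haI : D.In a := ⟨ha1, ha2⟩
      have hbI : D.In b := ⟨hb1, hb2⟩
      have hat : (⟨_, ⟨a, hIn haI, rfl⟩⟩ : T) ∈ Subgroup.center T := by rw [h]; trivial
      have hcomm := Subgroup.mem_center_iff.1 hat ⟨_, ⟨b, hIn hbI, rfl⟩⟩
      have h2 : (b * a)⁻¹ * (a * b) ∈ W := by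
        rw [← QuotientGroup.eq]
        exact congrArg Subtype.val hcomm
      rw [← hax, ← hby, ← D.φ_mul' hbI haI, ← D.φ_mul' haI hbI]
      set w := (b * a)⁻¹ * (a * b) with hw
      have hwI : D.In w := D.J_In (hWJ h2)
      rw [show a * b = b * a * w by simp only [hw]; group, D.φ_mul' (D.In_mul hbI haI) hwI,
        D.φ_J (hWJ h2), mul_one]
    have hU' : (⊤ : Subgroup U4) = ⊥ := hU.symm.trans center_U4
    have := simple_U4
    exact absurd hU' top_ne_bot
  -- the conjugation action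
  set Φ : (G ⧸ W) →* MulAut T := MulAut.conjNormal with hΦ
  have hinj : Function.Injective Φ := by
    refine (injective_iff_map_eq_one Φ).2 fun q hq => ?_
    obtain ⟨m, rfl⟩ := QuotientGroup.mk'_surjective W q
    have hm : ∀ x ∈ C, m * x * m⁻¹ * x⁻¹ ∈ W := fun x hx => by
      have h1 : (QuotientGroup.mk' W m) * QuotientGroup.mk' W x * (QuotientGroup.mk' W m)⁻¹ =
          QuotientGroup.mk' W x := by
        have h := congrArg (fun f : MulAut T => ((f ⟨_, ⟨x, hx, rfl⟩⟩ : T) : G ⧸ W)) hq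
        simpa only [hΦ, MulAut.conjNormal_apply, MulAut.one_apply] using h
      rw [← QuotientGroup.ker_mk' W, MonoidHom.mem_ker, map_mul, map_mul, map_mul, map_inv, map_inv,
        h1, mul_inv_cancel]
    have hmz : Commute m z := by
      rcases (hW _).1 (hm z hzC) with h | ⟨i, h⟩
      · exact conj_fix.1 (mul_inv_eq_one.1 h)
      · refine absurd ?_ (hzc i m)
        rw [mul_inv_eq_iff_eq_mul.1 h]
        exact (D.J_cent _ (D.v_mem i)).eq
    have hTm : ∀ x, D.T m x = x := fun x => by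
      have hj := D.lift_mem x
      have hw := hm _ (hIn (D.J_In hj))
      show D.vec (m * D.lift x * m⁻¹) = x
      rw [show m * D.lift x * m⁻¹ = m * D.lift x * m⁻¹ * (D.lift x)⁻¹ * D.lift x by group,
        D.vec_mul _ (hWJ hw) _ hj, D.vec_lift]
      rcases (hW _).1 hw with e' | ⟨i, e'⟩ <;> rw [e']
      · rw [D.vec_one, zero_add]
      · rw [D.vec_v, zero_add]
    obtain ⟨n, hn, hn0⟩ : ∃ n < 3, Commute (D.c ^ n * m) (D.v 0) := by
      obtain ⟨k, hk⟩ := D.v_perm m hmz 0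
      have h3 : ∀ k : Fin 3, k = 0 ∨ k = 1 ∨ k = 2 := by decide
      rcases h3 k with rfl | rfl | rfl
      · exact ⟨0, by norm_num, conj_fix.1 (by rw [pow_zero, one_mul, hk])⟩
      · refine ⟨2, by norm_num, conj_fix.1 ?_⟩
        rw [pow_two, show D.c * D.c * m * D.v 0 * (D.c * D.c * m)⁻¹ =
          D.c * (D.c * (m * D.v 0 * m⁻¹) * D.c⁻¹) * D.c⁻¹ by group, hk, D.c_v, D.c_v]
        rfl
      · refine ⟨1, by norm_num, conj_fix.1 ?_⟩
        rw [pow_one, show D.c * m * D.v 0 * (D.c * m)⁻¹ = D.c * (m * D.v 0 * m⁻¹) * D.c⁻¹ by group, hk, D.c_v]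
        rfl
    have hTn : ∀ n : ℕ, ∀ x, D.T (D.c ^ n) x = D.lam ^ n • x := fun n => by
      induction n with
      | zero => intro x; rw [pow_zero, pow_zero, D.T_one, one_smul]
      | succ n ih =>
        intro x
        rw [pow_succ', D.T_mul D.c_z (D.c_z.pow_left n), ih, D.T_c, smul_smul, pow_succ']
    have hm'z : Commute (D.c ^ n * m) z := (D.c_z.pow_left n).mul_left hmz
    have hT' : ∀ x, D.T (D.c ^ n * m) x = D.lam ^ n • x := fun x => by
      rw [D.T_mul (D.c_z.pow_left n) hmz, hTm, hTn]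
    obtain ⟨p0, q0, f0, g0, hfr⟩ : ∃ p q f g, Frame p q f g := by
      obtain ⟨q, f, g, hfr⟩ := exists_frame_one std_pair.1
      exact ⟨_, q, f, g, hfr⟩
    have hI : D.In (D.c ^ n * m) := by
      by_contra ho
      have h := D.T_lam hm'z ho hn0 p0
      rw [hT', hT', smul_smul, smul_smul] at h
      have hk : ∀ l μ : K, l ≠ 0 → l ≠ 1 → μ ≠ 0 → μ * l ≠ l ^ 2 * μ := by decide +kernel
      exact hk D.lam (D.lam ^ n) D.lam0 D.lam1 (pow_ne_zero n D.lam0)
        (smul_left_injective K hfr.iso_p.1 h)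
    have hφ : D.φ (D.c ^ n * m) = 1 := by
      have h : D.φ (D.c ^ n * m) ∈ Subgroup.center U4 := Subgroup.mem_center_iff.2 fun y =>
        act_ext fun x => by rw [act_mul, act_mul, ← D.T_In hI, hT', ← D.T_In hI, hT', act_smul]
      rwa [center_U4, Subgroup.mem_bot] at h
    have hn0' : n = 0 := by
      have h1 : D.lam ^ n • p0 = (1 : K) • p0 := by
        rw [← hT', D.T_In hI, hφ, act_one, one_smul]
      have h2 := smul_left_injective K hfr.iso_p.1 h1
      obtain ⟨h3, h4, -⟩ := k_double D.lam D.lam0 D.lam1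
      rcases n with - | - | - | n
      · rfl
      · exact absurd (by simpa using h2) D.lam1
      · exact absurd h2 h4
      · omega
    subst hn0'
    rw [pow_zero, one_mul] at hI hφ
    have hmT : QuotientGroup.mk' W m ∈ T := ⟨m, hIn hI, rfl⟩
    have hmc : (⟨_, hmT⟩ : T) ∈ Subgroup.center T := Subgroup.mem_center_iff.2 fun y => by
      refine Subtype.ext ?_
      have h := congrArg (fun f : MulAut T => ((f y : T) : G ⧸ W)) hq
      simp only [hΦ, MulAut.conjNormal_apply, MulAut.one_apply] at h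
      exact (mul_inv_eq_iff_eq_mul.1 h).symm
    rw [hcen, Subgroup.mem_bot] at hmc
    exact congrArg Subtype.val hmc
  have : Fact (Nat.Prime 2) := ⟨Nat.prime_two⟩
  have hAut : Nat.card (MulAut T) = 6 * Nat.card (Cfsg.PSU 6 F 2) := by
    rw [Nat.card_congr (MulAut.congr e).toEquiv,
      S0815.result (F := F) 2 1 le_rfl (q := 2) rfl (by rw [hF]; norm_num) 6 (by norm_num) (by norm_num)]
    rfl
  have hfin : Finite (MulAut T) := inferInstance
  have hbij : Function.Bijective Φ :=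
    (Nat.bijective_iff_injective_and_card _).2 ⟨hinj, by rw [hcardQ, hAut]⟩
  exact ⟨(MulEquiv.ofBijective Φ hbij).trans (MulAut.congr e)⟩

end Datum

end Cfsg.Agent.Fi23ByInvol
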