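/-
The unitary space of dimension four over the field with four elements, for the characterisation of Fi23 by
the centraliser of a 2-central involution: trace orthogonals, semilinear involutive isometries, and elements
commuting with the involutions of SU(4,2).

* `B_ker`, `B_ker_pair` : hyperplanes for the trace form;
* `Semi σ` : a semilinear involutive isometry; `Semi.small`, `Semi.sing_not_two`, `Semi.exists_frame`;
* `eq_of_fix_two`, `eq_of_fix_three` : pointwise stabilisers; `exists_diag_odd`, `levi_spec`, `rot_spec` :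
  elements commuting with a transvection, a product of two, or a semilinear involution.
-/
import Cfsg.Agent.Lib.U62Rec.OutNat

set_option autoImplicit false
set_option linter.unusedSectionVars false
set_option linter.constructorNameAsVariable false

namespace Cfsg.Agent.Fi23ByInvol

open Cfsg.Agent.ThreeTransSU Cfsg.Agent.U62Rec Cfsg.Agent.U62Cover

theorem k_om : om ≠ 0 ∧ om ≠ 1 ∧ om ^ 2 ≠ 1 ∧ om + om ^ 2 = 1 := by decide +kernel
theorem k_tr_val : ∀ c : K, c + c ^ 2 = 0 ∨ c + c ^ 2 = 1 := by decide +kernel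
theorem k_pair : ∀ α β : K, ∃ a b c d : K, a * α + b * β + (a * α + b * β) ^ 2 = 0 ∧
    c * α + d * β + (c * α + d * β) ^ 2 = 0 ∧ a * d ^ 2 + b * c ^ 2 + (a * d ^ 2 + b * c ^ 2) ^ 2 ≠ 0 := by
  decide +kernel
theorem k_recon : ∀ c d : K, om ^ 2 * (c + d) + (om * c + om ^ 2 * d) = c := by decide +kernel
theorem k_double : ∀ w : K, w ≠ 0 → w ≠ 1 → w ^ 2 ≠ 0 ∧ w ^ 2 ≠ 1 ∧ w ^ 2 ≠ w := by decide +kernel
theorem k_ker_beta : ∀ w b : K, w ≠ 0 → w ≠ 1 → w * b = w ^ 2 * b → b = 0 := by decide +kernel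
theorem k_fix_scal : ∀ w c : K, w ≠ 1 → w * c = c → c = 0 := by decide +kernel
theorem k_two : (1 : K) + 1 = 0 := k_add_self 1

/-! ### The trace form -/

theorem hl_sum (a b : K) (u v y : V4) : hf (a • u + b • v) y = a * hf u y + b * hf v y := by
  rw [hl, sl, sl]

theorem B_add (x y a : V4) : B (x + y) a = B x a + B y a := by
  have hp : ∀ u v : K, (u + v) + (u + v) ^ 2 = (u + u ^ 2) + (v + v ^ 2) := by decide +kernel
  simp only [B, hl]
  exact hp _ _

theorem B_add' (a x y : V4) : B a (x + y) = B a x + B a y := by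
  rw [B_comm, B_add, B_comm x, B_comm y]

theorem B_zero (a : V4) : B a 0 = 0 := by simp [B, h0r, U62Rec.sq_zero]

theorem B_zero' (a : V4) : B 0 a = 0 := by simp [B, h0l, U62Rec.sq_zero]

theorem B_self (a : V4) : B a a = 0 := by
  have hp : ∀ c : K, c ^ 2 = c → c + c ^ 2 = 0 := by decide +kernel
  exact hp _ ((herm cardK).self_fixed a)

theorem B_val (x a : V4) : B x a = 0 ∨ B x a = 1 := k_tr_val _

theorem B_nondeg {a : V4} (ha : a ≠ 0) : ∃ x, B x a = 1 := by
  obtain ⟨x, hx⟩ := exists_hf_one cardK ha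
  refine ⟨om • x, ?_⟩
  simp only [B, sl, hx, mul_one]
  exact k_om.2.2.2

theorem B_ker {a b : V4} (h : ∀ x, B x a = 0 → B x b = 0) : b = 0 ∨ b = a := by
  by_cases hb : b = 0
  · exact Or.inl hb
  refine Or.inr ?_
  by_contra hne
  have hab : a + b ≠ 0 := fun e => hne (veq e).symm
  obtain ⟨y, hy⟩ := B_nondeg hb
  have hya : B y a = 1 := (B_val y a).resolve_left fun e => by rw [h y e] at hy; exact zero_ne_one hy
  obtain ⟨x, hx⟩ := B_nondeg hab
  rw [B_add'] at hx
  rcases B_val x a with e | e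
  · rw [e, h x e, add_zero] at hx
    exact zero_ne_one hx
  · have h1 : B (x + y) a = 0 := by rw [B_add, e, hya]; exact k_two
    have h2 := h _ h1
    rw [B_add, hy] at h2
    rw [e, k_eq_of_add _ _ h2, k_two] at hx
    exact zero_ne_one hx

/-- The space is not spanned by two vectors. -/
theorem small_span {r s : V4} (h : ∀ x : V4, ∃ α β : K, x = α • r + β • s) : False := by
  have hc := Fintype.card_le_of_surjective (fun c : K × K => c.1 • r + c.2 • s) fun x => by
    obtain ⟨α, β, e⟩ := h x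
    exact ⟨(α, β), e.symm⟩
  simp only [Fintype.card_fun, Fintype.card_prod, Fintype.card_fin, cardK] at hc
  omega

/-- The orthogonal of a vector for the trace form is not totally isotropic. -/
theorem B_ker_pair (a : V4) : ∃ x y, B x a = 0 ∧ B y a = 0 ∧ B x y ≠ 0 := by
  by_cases ha : a = 0
  · subst ha
    obtain ⟨q, f, g, hfr⟩ := exists_frame_one std_pair.1
    obtain ⟨x, hx⟩ := B_nondeg hfr.iso_f.1
    exact ⟨x, f, B_zero x, B_zero f, by rw [hx]; exact one_ne_zero⟩
  by_contra! h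
  have h2 : ∀ x, B x a = 0 → x = 0 ∨ x = a := fun x hx => B_ker fun y hy => h y x hy hx
  obtain ⟨x0, hx0⟩ := B_nondeg ha
  refine small_span (r := a) (s := x0) fun x => ?_
  rcases B_val x a with e | e
  · rcases h2 x e with rfl | rfl
    · exact ⟨0, 0, by simp⟩
    · exact ⟨1, 0, by simp⟩
  · rcases h2 (x + x0) (by rw [B_add, e, hx0]; exact k_two) with e' | e'
    · exact ⟨0, 1, by rw [veq e']; simp⟩
    · refine ⟨1, 1, ?_⟩
      rw [one_smul, one_smul, ← e', add_assoc, vv, add_zero]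

/-- Two vectors orthogonal to `p` and to `s`, not to one another. -/
theorem pair_perp {p q f g : V4} (hfr : Frame p q f g) (s : V4) :
    ∃ x y, hf x p = 0 ∧ hf y p = 0 ∧ B x s = 0 ∧ B y s = 0 ∧ B x y ≠ 0 := by
  obtain ⟨a, b, c, d, h1, h2, h3⟩ := k_pair (hf q s) (hf g s)
  refine ⟨a • q + b • g, c • q + d • g, ?_, ?_, ?_, ?_, ?_⟩
  · simp [hl_sum, hfr.qp, hfr.gp]
  · simp [hl_sum, hfr.qp, hfr.gp]
  · simp only [B, hl_sum]; exact h1
  · simp only [B, hl_sum]; exact h2
  · simp only [B, hl_sum, hr, sr, hfr.qq, hfr.qg, hfr.gq, hfr.gg, mul_zero, mul_one, zero_add, add_zero]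
    rw [show c ^ 2 * b + d ^ 2 * a = a * d ^ 2 + b * c ^ 2 by ring]
    exact h3

/-- A subgroup of index two meets every line. -/
theorem exists_scale (s e : V4) : ∃ c : K, c ≠ 0 ∧ B (c • e) s = 0 := by
  have hp : ∀ t : K, ∃ c : K, c ≠ 0 ∧ c * t + (c * t) ^ 2 = 0 := by decide +kernel
  obtain ⟨c, hc, h⟩ := hp (hf e s)
  exact ⟨c, hc, by simp only [B, sl]; exact h⟩

/-! ### Semilinear involutive isometries -/

/-- A semilinear involutive isometry. -/
structure Semi (σ : V4 → V4) : Prop where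
  add : ∀ x y, σ (x + y) = σ x + σ y
  smul : ∀ (k : K) x, σ (k • x) = k ^ 2 • σ x
  herm : ∀ x y, hf (σ x) (σ y) = hf x y ^ 2
  invol : ∀ x, σ (σ x) = x

namespace Semi

variable {σ : V4 → V4} (S : Semi σ)
include S

theorem zero : σ 0 = 0 := by
  have := S.add 0 0
  rw [add_zero] at this
  exact left_eq_add.1 this

theorem fix_R (x : V4) : σ (x + σ x) = x + σ x := by rw [S.add, S.invol]; exact add_comm _ _

theorem fix_smul {c : K} {w : V4} (hc : c ^ 2 = c) (hw : σ w = w) : σ (c • w) = c • w := by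
  rw [S.smul, hc, hw]

theorem fix_add {u w : V4} (hu : σ u = u) (hw : σ w = w) : σ (u + w) = u + w := by rw [S.add, hu, hw]

theorem real {u w : V4} (hu : σ u = u) (hw : σ w = w) : hf u w ^ 2 = hf u w := by
  conv_rhs => rw [← hu, ← hw, S.herm]

theorem recon (x : V4) : x = om ^ 2 • (x + σ x) + (om • x + σ (om • x)) := by
  funext i
  simp only [S.smul, Pi.add_apply, Pi.smul_apply, smul_eq_mul]
  exact (k_recon _ _).symm

theorem q_add {u w : V4} (hu : σ u = u) (hw : σ w = w) : hf (u + w) (u + w) = hf u u + hf w w := by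
  simp only [hl, hr]
  rw [hs u w, S.real hu hw]
  linear_combination hf u w * two_eq_zero cardK

/-- Images of a hyperplane under the commutator map fill more than two points. -/
theorem small {a : V4} (h : ∀ x, B x a = 0 → x + σ x = 0 ∨ x + σ x = a) : False := by
  by_cases ha : a = 0
  · subst ha
    refine small_span (r := 0) (s := 0) fun x => ⟨0, 0, ?_⟩
    have h1 : ∀ y, y + σ y = 0 := fun y => (h y (B_zero y)).elim id id
    rw [S.recon x, h1, h1]
    simp
  obtain ⟨x0, hx0⟩ := B_nondeg ha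
  refine small_span (r := a) (s := x0 + σ x0) fun x => ?_
  have key : ∀ y, ∃ α β : K, y + σ y = α • a + β • (x0 + σ x0) := fun y => by
    rcases B_val y a with e | e
    · rcases h y e with e' | e'
      · exact ⟨0, 0, by rw [e']; simp⟩
      · exact ⟨1, 0, by rw [e']; simp⟩
    · have e2 : B (y + x0) a = 0 := by rw [B_add, e, hx0]; exact k_two
      have e3 : y + σ y = (y + x0 + σ (y + x0)) + (x0 + σ x0) := by
        rw [S.add]
        refine (veq ?_).symm
        calc _ = (y + y) + (σ y + σ y) + ((x0 + x0) + (σ x0 + σ x0)) := by abel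
          _ = 0 := by simp [vv]
      rcases h _ e2 with e' | e'
      · exact ⟨0, 1, by rw [e3, e']; simp⟩
      · exact ⟨1, 1, by rw [e3, e']; simp⟩
  obtain ⟨α, β, e1⟩ := key x
  obtain ⟨α', β', e2⟩ := key (om • x)
  refine ⟨om ^ 2 * α + α', om ^ 2 * β + β', ?_⟩
  conv_lhs => rw [S.recon x, e1, e2]
  simp only [smul_add, smul_smul, add_smul]
  abel

/-- The singular fixed vectors are not orthogonal to an orthogonal pair. -/
theorem sing_not_two {p q : V4} (hpq : OrthPair p q)
    (h : ∀ w, σ w = w → hf w w = 0 → hf w p = 0 ∧ hf w q = 0) : False := by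
  obtain ⟨f, g, hfr⟩ := U62Rec.exists_frame hpq
  obtain ⟨P, Q, hPQ⟩ : ∃ P Q : K, ∀ w, σ w = w → ∃ c : K, hf w p = c * P ∧ hf w q = c * Q := by
    by_cases he : ∃ e, σ e = e ∧ hf e e ≠ 0
    · obtain ⟨e, he, hee⟩ := he
      refine ⟨hf e p, hf e q, fun w hw => ?_⟩
      rcases k_cases _ (S.real hw hw) with e0 | e1
      · obtain ⟨h1, h2⟩ := h w hw e0
        exact ⟨0, by simp [h1], by simp [h2]⟩
      · have h0 : hf (w + e) (w + e) = 0 := by
          rw [S.q_add hw he, e1, (k_cases _ (S.real he he)).resolve_left hee]; exact k_two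
        obtain ⟨h1, h2⟩ := h _ (S.fix_add hw he) h0
        rw [hl] at h1 h2
        exact ⟨1, by rw [one_mul]; exact k_eq_of_add _ _ h1, by rw [one_mul]; exact k_eq_of_add _ _ h2⟩
    · push Not at he
      exact ⟨0, 0, fun w hw => ⟨0, by simp [(h w hw (he w hw)).1], by simp [(h w hw (he w hw)).2]⟩⟩
  have key : ∀ x, ∃ c : K, hf x p = c * P ∧ hf x q = c * Q := fun x => by
    obtain ⟨c, c1, c2⟩ := hPQ _ (S.fix_R x)
    obtain ⟨d, d1, d2⟩ := hPQ _ (S.fix_R (om • x))
    refine ⟨om ^ 2 * c + d, ?_, ?_⟩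
    · conv_lhs => rw [S.recon x, hl, sl, c1, d1]
      ring
    · conv_lhs => rw [S.recon x, hl, sl, c2, d2]
      ring
  obtain ⟨c, c1, c2⟩ := key f
  obtain ⟨d, d1, d2⟩ := key g
  rw [hfr.fp] at c1
  rw [hfr.fq] at c2
  rw [hfr.gq] at d2
  rcases mul_eq_zero.1 c2.symm with e | e
  · rw [e, zero_mul] at c1; exact one_ne_zero c1
  · rw [e, mul_zero] at d2; exact one_ne_zero d2

/-- If every fixed vector is singular, a fixed vector lies in a frame of fixed vectors. -/
theorem exists_frame {q : V4} (hq0 : q ≠ 0) (hq : σ q = q) (hsing : ∀ w, σ w = w → hf w w = 0) :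
    ∃ p f g, Frame p q f g ∧ σ p = p ∧ σ f = f ∧ σ g = g := by
  have dual : ∀ u, u ≠ 0 → σ u = u → ∃ w, σ w = w ∧ hf w u = 1 := fun u hu hfix => by
    obtain ⟨x, hx⟩ := exists_hf_one cardK hu
    refine ⟨om • x + σ (om • x), S.fix_R _, ?_⟩
    have h2 : hf (σ (om • x)) u = om ^ 2 := by
      conv_lhs => rw [← hfix, S.herm, sl, hx, mul_one]
    rw [hl, sl, hx, mul_one, h2]
    exact k_om.2.2.2
  obtain ⟨g, hgf, hgq⟩ := dual q hq0 hq
  have hqq := hsing q hq
  have hgg := hsing g hgf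
  have hqg := hs1 hgq
  set π : V4 → V4 := fun w => w + hf w g • q + hf w q • g with hπ
  have πfix : ∀ w, σ w = w → σ (π w) = π w := fun w hw => by
    refine S.fix_add (S.fix_add hw (S.fix_smul ?_ hq)) (S.fix_smul ?_ hgf)
    exacts [S.real hw hgf, S.real hw hq]
  have πq : ∀ w, hf (π w) q = 0 := fun w => by
    simp only [hπ, hl, sl, hqq, hgq, mul_zero, mul_one, add_zero]
    exact k_add_self _
  have πg : ∀ w, hf (π w) g = 0 := fun w => by
    simp only [hπ, hl, sl, hqg, hgg, mul_zero, mul_one, add_zero]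
    exact k_add_self _
  obtain ⟨w0, hw0, hp0⟩ : ∃ w, σ w = w ∧ π w ≠ 0 := by
    by_contra! hall
    refine small_span (r := q) (s := g) fun x => ?_
    have key : ∀ w, σ w = w → w = hf w g • q + hf w q • g := fun w hw => by
      have := hall w hw
      simp only [hπ, add_assoc] at this
      exact veq this
    refine ⟨om ^ 2 * hf (x + σ x) g + hf (om • x + σ (om • x)) g,
      om ^ 2 * hf (x + σ x) q + hf (om • x + σ (om • x)) q, ?_⟩
    conv_lhs => rw [S.recon x, key _ (S.fix_R x), key _ (S.fix_R (om • x))]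
    simp only [smul_add, smul_smul, add_smul]
    abel
  set p := π w0
  have hpf := πfix w0 hw0
  obtain ⟨f0, hf0, hf0p⟩ := dual p hp0 hpf
  have hqp : hf q p = 0 := hs0 (πq w0)
  have hgp : hf g p = 0 := hs0 (πg w0)
  refine ⟨p, π f0, g, ⟨hsing p hpf, hqq, hsing _ (πfix f0 hf0), hgg, πq w0, πg f0, ?_, hgq, πq f0, hgp⟩,
    hpf, πfix f0 hf0, hgf⟩
  simp only [hπ, hl, sl, hf0p, hqp, hgp, mul_zero, add_zero]

end Semi

/-! ### Images of hyperplanes -/

theorem two_small {p q a : V4} (hpq : OrthPair p q)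
    (h : ∀ x, B x a = 0 → R (t4 p * t4 q) x = 0 ∨ R (t4 p * t4 q) x = a) : False := by
  obtain ⟨f, g, hfr⟩ := U62Rec.exists_frame hpq
  obtain ⟨c, hc, hcB⟩ := exists_scale a f
  obtain ⟨d, hd, hdB⟩ := exists_scale a g
  have hRf : R (t4 p * t4 q) (c • f) = c • p := by
    rw [R_two hpq, sl, sl, hfr.fp, hfr.fq, mul_one, mul_zero, zero_smul, add_zero]
  have hRg : R (t4 p * t4 q) (d • g) = d • q := by
    rw [R_two hpq, sl, sl, hfr.gp, hfr.gq, mul_one, mul_zero, zero_smul, zero_add]
  have h1 := (h _ hcB).resolve_left fun e => smul_ne_zero hc hfr.iso_p.1 (hRf ▸ e)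
  have h2 := (h _ hdB).resolve_left fun e => smul_ne_zero hd hfr.iso_q.1 (hRg ▸ e)
  rw [hRf] at h1
  rw [hRg] at h2
  refine hpq.2.2.2 (d⁻¹ * c) ?_
  rw [mul_smul, h1, ← h2, smul_smul, inv_mul_cancel₀ hd, one_smul]

theorem tv_small {q a : V4} (hq : Iso q) (h : ∀ x, B x a = 0 → R (t4 q) x = 0 ∨ R (t4 q) x = a) :
    ∃ μ : K, a = μ • q := by
  obtain ⟨p, f, g, hfr⟩ := exists_frame_one hq
  obtain ⟨c, hc, hcB⟩ := exists_scale a f
  refine ⟨c, ?_⟩
  have hR : R (t4 q) (c • f) = c • q := by rw [R_one hq, sl, hfr.fp, mul_one]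
  exact (hR ▸ (h _ hcB).resolve_left fun e => smul_ne_zero hc hq.1 (hR ▸ e)).symm

/-! ### Pointwise stabilisers -/

section stab
variable {p q f g : V4} (hfr : Frame p q f g)
include hfr

theorem hf_fix {u : U4} {e : V4} (h : act u e = e) (x : V4) : hf (act u x) e = hf x e := by
  conv_lhs => rw [← h, act_hf]

theorem eq_of_fix_three {u : U4} (hp : act u p = p) (hq : act u q = q) (hg : act u g = g) :
    u = 1 ∨ u = t4 p := by
  have e := hfr.expand (act u f)
  rw [hf_fix hfr hp, hf_fix hfr hq, hf_fix hfr hg, hfr.fp, hfr.fq, hfr.fg, zero_smul, zero_smul, add_zero,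
    add_zero, one_smul] at e
  have hh := (hfr.act u).ff
  rw [e] at hh
  simp only [hl, hr, sl, sr, hfr.pp, hfr.pf, hfr.fp, hfr.ff, mul_zero, mul_one, zero_add, add_zero] at hh
  rcases k_tr_zero _ (by linear_combination hh) with e' | e'
  · left
    rw [e', zero_smul, zero_add] at e
    exact hfr.ext (by rw [hp, act_one]) (by rw [hq, act_one]) (by rw [e, act_one]) (by rw [hg, act_one])
  · right
    rw [e', one_smul] at e
    refine hfr.ext ?_ ?_ ?_ ?_
    · rw [hp, act_tv_of_orth cardK hfr.pp hfr.pp]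
    · rw [hq, act_tv_of_orth cardK hfr.pp hfr.qp]
    · rw [e, act_tv cardK hfr.pp, hfr.fp, one_smul, add_comm]
    · rw [hg, act_tv_of_orth cardK hfr.pp hfr.gp]

theorem act_of_fix_two {u : U4} (hp : act u p = p) (hq : act u q = q) :
    act u f = hf (act u f) f • p + hf (act u f) g • q + f ∧
      act u g = hf (act u g) f • p + hf (act u g) g • q + g := by
  constructor
  · conv_lhs => rw [hfr.expand (act u f)]
    rw [hf_fix hfr hp f, hf_fix hfr hq f, hfr.fp, hfr.fq, one_smul, zero_smul, add_zero]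
  · conv_lhs => rw [hfr.expand (act u g)]
    rw [hf_fix hfr hp g, hf_fix hfr hq g, hfr.gp, hfr.gq, one_smul, zero_smul, add_zero]

theorem sq_of_fix_two {u : U4} (hp : act u p = p) (hq : act u q = q) : u * u = 1 := by
  obtain ⟨e1, e2⟩ := act_of_fix_two hfr hp hq
  have key : ∀ (a b : K) (x : V4), act u x = a • p + b • q + x → act u (act u x) = x := fun a b x e => by
    rw [e, act_add, act_add, act_smul, act_smul, hp, hq, e, ← add_assoc, vv, zero_add]
  refine hfr.ext ?_ ?_ ?_ ?_ <;> rw [act_mul, act_one]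
  · rw [hp, hp]
  · rw [hq, hq]
  · exact key _ _ f e1
  · exact key _ _ g e2

variable {x : U4} {w : K} (hw0 : w ≠ 0) (hw1 : w ≠ 1) (xp : act x p = w • p) (xq : act x q = w ^ 2 • q)
include hw0 hw1 xp xq

theorem diag_dual : hf (act x f) p = w ∧ hf (act x f) q = 0 ∧ hf (act x g) p = 0 ∧ hf (act x g) q = w ^ 2 := by
  have h1 := (hfr.act x).fp
  have h2 := (hfr.act x).fq
  have h3 := (hfr.act x).gp
  have h4 := (hfr.act x).gq
  rw [xp, sr] at h1 h3
  rw [xq, sr] at h2 h4
  rw [k_sq_sq] at h2 h4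
  refine ⟨?_, (mul_eq_zero.1 h2).resolve_left hw0, (mul_eq_zero.1 h3).resolve_left (k_double w hw0 hw1).1, ?_⟩
  · have hp : ∀ a b : K, a ^ 2 * b = 1 → b = a := by decide +kernel
    exact hp _ _ h1
  · have hp : ∀ a b : K, a * b = 1 → b = a ^ 2 := by decide +kernel
    exact hp _ _ h4

theorem diag_fpf {v : V4} (hv : act x v = v) : v = 0 := by
  obtain ⟨d1, d2, d3, d4⟩ := diag_dual hfr hw0 hw1 xp xq
  have e := hfr.expand v
  set a := hf v f
  set b := hf v g
  set c := hf v p
  set d := hf v q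
  have hx : act x v = a • (w • p) + b • (w ^ 2 • q) + c • act x f + d • act x g := by
    conv_lhs => rw [e]
    simp only [act_add, act_smul, xp, xq]
  have hc : c = 0 := by
    have h1 : hf (act x v) p = w * c := by
      rw [hx]; simp only [hl, sl, hfr.pp, hfr.qp, d1, d3, mul_zero, add_zero, zero_add]; ring
    rw [hv] at h1
    exact k_fix_scal w c hw1 h1.symm
  have hd : d = 0 := by
    have h1 : hf (act x v) q = w ^ 2 * d := by
      rw [hx]; simp only [hl, sl, hfr.pq, hfr.qq, d2, d4, mul_zero, add_zero, zero_add]; ring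
    rw [hv] at h1
    exact k_fix_scal _ d (k_double w hw0 hw1).2.1 h1.symm
  rw [hc, hd, zero_smul, zero_smul, add_zero, add_zero] at e hx
  have ha : a = 0 := by
    have h1 : hf (act x v) f = w * a := by
      rw [hx]; simp only [hl, sl, hfr.pf, hfr.qf, mul_zero, mul_one, add_zero]; ring
    rw [hv] at h1
    exact k_fix_scal w a hw1 h1.symm
  have hb : b = 0 := by
    have h1 : hf (act x v) g = w ^ 2 * b := by
      rw [hx]; simp only [hl, sl, hfr.pg, hfr.qg, mul_zero, mul_one, zero_add]; ring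
    rw [hv] at h1
    exact k_fix_scal _ b (k_double w hw0 hw1).2.1 h1.symm
  rw [e, ha, hb]
  simp

theorem eq_of_fix_two {u : U4} (hp : act u p = p) (hq : act u q = q) (hc : Commute u x) :
    u = 1 ∨ u = t4 p ∨ u = t4 q ∨ u = t4 p * t4 q := by
  obtain ⟨d1, d2, d3, d4⟩ := diag_dual hfr hw0 hw1 xp xq
  obtain ⟨e1, e2⟩ := act_of_fix_two hfr hp hq
  set α := hf (act u f) f
  set β := hf (act u f) g
  set γ := hf (act u g) f
  set δ := hf (act u g) g
  have hβ : β = 0 := by
    have h1 : hf (act u (act x f)) g = hf (act x (act u f)) g := by rw [← act_mul, ← act_mul, hc.eq]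
    have hxf := hfr.expand (act x f)
    rw [d1, d2, zero_smul, add_zero] at hxf
    rw [e1, act_add, act_add, act_smul, act_smul, xp, xq, hxf] at h1
    simp only [act_add, act_smul, hp, hq, e1, hl, sl, hfr.pg, hfr.qg, hfr.fg, mul_zero, mul_one, add_zero,
      zero_add] at h1
    exact k_ker_beta w β hw0 hw1 (by linear_combination h1)
  have hγ : γ = 0 := by
    have h1 := (hfr.act u).fg
    rw [e1, e2] at h1
    simp only [hl, hr, sl, sr, hβ, hfr.pp, hfr.pq, hfr.pg, hfr.qp, hfr.qq, hfr.qg, hfr.fp, hfr.fq, hfr.fg,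
      mul_zero, mul_one, zero_mul, add_zero, zero_add] at h1
    exact pow_eq_zero_iff two_ne_zero |>.1 h1
  have hα : α = 0 ∨ α = 1 := by
    have h1 := (hfr.act u).ff
    rw [e1] at h1
    simp only [hl, hr, sl, sr, hβ, zero_smul, h0l, h0r, hfr.pp, hfr.pf, hfr.fp, hfr.ff, mul_zero, mul_one,
      add_zero, zero_add] at h1
    exact k_tr_zero _ (by linear_combination h1)
  have hδ : δ = 0 ∨ δ = 1 := by
    have h1 := (hfr.act u).gg
    rw [e2] at h1
    simp only [hl, hr, sl, sr, hγ, zero_smul, h0l, h0r, hfr.qq, hfr.qg, hfr.gq, hfr.gg, mul_zero, mul_one,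
      add_zero, zero_add] at h1
    exact k_tr_zero _ (by linear_combination h1)
  rw [hβ, zero_smul, add_zero] at e1
  rw [hγ, zero_smul, zero_add] at e2
  have fp : ∀ y, hf y p = 0 → act (t4 p) y = y := fun y hy => act_tv_of_orth cardK hfr.pp hy
  have fq : ∀ y, hf y q = 0 → act (t4 q) y = y := fun y hy => act_tv_of_orth cardK hfr.qq hy
  have tf : act (t4 p) f = p + f := by rw [act_tv cardK hfr.pp, hfr.fp, one_smul, add_comm]
  have tg : act (t4 q) g = q + g := by rw [act_tv cardK hfr.qq, hfr.gq, one_smul, add_comm]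
  rcases hα with a0 | a1 <;> rcases hδ with d0 | d1'
  · left
    rw [a0, zero_smul, zero_add] at e1
    rw [d0, zero_smul, zero_add] at e2
    exact hfr.ext (by rw [hp, act_one]) (by rw [hq, act_one]) (by rw [e1, act_one]) (by rw [e2, act_one])
  · refine Or.inr (Or.inr (Or.inl ?_))
    rw [a0, zero_smul, zero_add] at e1
    rw [d1', one_smul] at e2
    exact hfr.ext (by rw [hp, fq p hfr.pq]) (by rw [hq, fq q hfr.qq]) (by rw [e1, fq f hfr.fq]) (by rw [e2, tg])
  · refine Or.inr (Or.inl ?_)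
    rw [a1, one_smul] at e1
    rw [d0, zero_smul, zero_add] at e2
    exact hfr.ext (by rw [hp, fp p hfr.pp]) (by rw [hq, fp q hfr.qp]) (by rw [e1, tf]) (by rw [e2, fp g hfr.gp])
  · refine Or.inr (Or.inr (Or.inr ?_))
    rw [a1, one_smul] at e1
    rw [d1', one_smul] at e2
    refine hfr.ext ?_ ?_ ?_ ?_ <;> rw [act_mul]
    · rw [hp, fq p hfr.pq, fp p hfr.pp]
    · rw [hq, fq q hfr.qq, fp q hfr.qp]
    · rw [e1, fq f hfr.fq, tf]
    · rw [e2, tg, act_add, fp q hfr.qp, fp g hfr.gp]

end stab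

/-! ### Commuting elements -/

section elts
variable {p q f g : V4} (hfr : Frame p q f g)
include hfr

theorem commute_diag {x : U4} {w : K} (hw0 : w ≠ 0) (xp : act x p = w • p) (xq : act x q = w ^ 2 • q) :
    Commute x (t4 p) ∧ Commute x (t4 q) :=
  ⟨commute_tv hfr.iso_p hw0 xp, commute_tv hfr.iso_q (pow_ne_zero 2 hw0) xq⟩

/-- An element of odd order scaling the two centres oppositely. -/
theorem exists_diag_odd : ∃ (x : U4) (w : K), w ≠ 0 ∧ w ≠ 1 ∧ act x p = w • p ∧ act x q = w ^ 2 • q ∧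
    Odd (orderOf x) := by
  obtain ⟨x0, h1, h2⟩ := hfr.exists_diag k_om.1
  have key : ∀ k : ℕ, ∃ w : K, w ≠ 0 ∧ w ≠ 1 ∧ act (x0 ^ 2 ^ k) p = w • p ∧
      act (x0 ^ 2 ^ k) q = w ^ 2 • q := by
    intro k
    induction k with
    | zero => exact ⟨om, k_om.1, k_om.2.1, by rw [pow_zero, pow_one, h1], by rw [pow_zero, pow_one, h2]⟩
    | succ k ih =>
      obtain ⟨w, w0, w1, a, b⟩ := ih
      refine ⟨w ^ 2, (k_double w w0 w1).1, (k_double w w0 w1).2.1, ?_, ?_⟩
      · rw [pow_succ 2, pow_mul, pow_two, act_mul, a, act_smul, a, smul_smul, ← pow_two]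
      · rw [pow_succ 2, pow_mul, pow_two, act_mul, b, act_smul, b, smul_smul, ← pow_two]
  obtain ⟨k, m, hm, e⟩ := Nat.exists_eq_two_pow_mul_odd (orderOf_pos x0).ne'
  obtain ⟨w, w0, w1, a, b⟩ := key k
  refine ⟨x0 ^ 2 ^ k, w, w0, w1, a, b, ?_⟩
  rw [orderOf_pow_of_dvd (by positivity) (by rw [e]; exact dvd_mul_right _ _), e,
    Nat.mul_div_cancel_left _ (by positivity)]
  exact hm

/-- A Levi element of the transvection with centre `p`, moving the second pair. -/
theorem levi_spec : Commute (t4 q * t4 g) (t4 p) ∧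
    ∀ a b : K, ∃ y, hf y p = 0 ∧ R (t4 q * t4 g) y = a • q + b • g := by
  refine ⟨Commute.mul_left (tv_comm cardK hfr.qq hfr.pp hfr.pq)
    (tv_comm cardK hfr.gg hfr.pp hfr.pg), fun a b => ⟨b • q + (a + b) • g, ?_, ?_⟩⟩
  · simp [hl, sl, hfr.qp, hfr.gp]
  · have hg : R (t4 q * t4 g) g = q := by
      rw [R, act_mul, act_tv_self cardK hfr.gg, act_tv cardK hfr.qq, hfr.gq, one_smul, ← add_assoc, vv, zero_add]
    have hq : R (t4 q * t4 g) q = q + g := by
      rw [R, act_mul, act_tv cardK hfr.gg, hfr.qg, one_smul, act_add, act_tv_self cardK hfr.qq,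
        act_tv cardK hfr.qq, hfr.gq, one_smul]
      calc q + (q + (g + q)) = (q + q) + (q + g) := by abel
        _ = q + g := by rw [vv, zero_add]
    rw [R_add, R_smul, R_smul, hg, hq, smul_add, add_smul]
    calc b • q + b • g + (a • q + b • q) = (b • q + b • q) + (a • q + b • g) := by abel
      _ = a • q + b • g := by rw [vv, zero_add]

/-- The element of order three fixing nothing on both hyperbolic planes. -/
theorem rot_spec : ∃ x : U4, act x p = f ∧ act x f = p + f ∧ act x q = g ∧ act x g = q + g ∧ x ^ 3 = 1 ∧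
    ∀ v, act x v = v → v = 0 := by
  set x := t4 p * t4 f * (t4 q * t4 g) with hx
  have fp : ∀ {e : V4}, hf e e = 0 → ∀ {y : V4}, hf y e = 0 → act (t4 e) y = y :=
    fun he _ h => act_tv_of_orth cardK he h
  have xp : act x p = f := by
    rw [hx, act_mul, act_mul, act_mul, fp hfr.gg hfr.pg, fp hfr.qq hfr.pq, act_tv cardK hfr.ff, hfr.pf,
      one_smul, act_add, act_tv_self cardK hfr.pp, act_tv cardK hfr.pp, hfr.fp, one_smul]
    calc p + (f + p) = (p + p) + f := by abel
      _ = f := by rw [vv, zero_add]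
  have xf : act x f = p + f := by
    rw [hx, act_mul, act_mul, act_mul, fp hfr.gg hfr.fg, fp hfr.qq hfr.fq, act_tv_self cardK hfr.ff,
      act_tv cardK hfr.pp, hfr.fp, one_smul, add_comm]
  have xq : act x q = g := by
    rw [hx, act_mul, act_mul, act_mul, act_tv cardK hfr.gg, hfr.qg, one_smul, act_add,
      act_tv_self cardK hfr.qq, act_tv cardK hfr.qq, hfr.gq, one_smul,
      show q + (g + q) = g by rw [add_comm g q, ← add_assoc, vv, zero_add],
      fp hfr.ff hfr.gf, fp hfr.pp hfr.gp]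
  have xg : act x g = q + g := by
    rw [hx, act_mul, act_mul, act_mul, act_tv_self cardK hfr.gg, act_tv cardK hfr.qq, hfr.gq, one_smul,
      add_comm g q, act_add, act_add, fp hfr.ff hfr.qf, fp hfr.ff hfr.gf, fp hfr.pp hfr.qp, fp hfr.pp hfr.gp]
  have hpf : act x (p + f) = p := by
    rw [act_add, xp, xf, add_comm p f, ← add_assoc, vv, zero_add]
  have hqg : act x (q + g) = q := by
    rw [act_add, xq, xg, add_comm q g, ← add_assoc, vv, zero_add]
  clear_value x
  clear hx fp
  refine ⟨x, xp, xf, xq, xg, ?_, fun v hv => ?_⟩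
  · rw [show x ^ 3 = x * (x * x) by rw [pow_succ, pow_two, mul_assoc]]
    refine hfr.ext ?_ ?_ ?_ ?_ <;> rw [act_mul, act_mul, act_one]
    · rw [xp, xf, hpf]
    · rw [xq, xg, hqg]
    · rw [xf, hpf, xp]
    · rw [xg, hqg, xq]
  · have e := hfr.expand v
    have e1 : act x v = hf v f • f + hf v g • g + hf v p • (p + f) + hf v q • (q + g) := by
      conv_lhs => rw [e]
      simp only [act_add, act_smul, xp, xf, xq, xg]
    rw [hv] at e1
    have c1 := congrArg (fun z => hf z p) e1
    have c2 := congrArg (fun z => hf z f) e1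
    have c3 := congrArg (fun z => hf z q) e1
    have c4 := congrArg (fun z => hf z g) e1
    simp only [hl, sl, hfr.fp, hfr.gp, hfr.pp, hfr.qp, hfr.pf, hfr.qf, hfr.ff, hfr.gf, hfr.pq, hfr.qq, hfr.fq,
      hfr.gq, hfr.pg, hfr.qg, hfr.fg, hfr.gg, mul_zero, mul_one, add_zero, zero_add] at c1 c2 c3 c4
    have hf0 : hf v f = 0 := left_eq_add.1 (by linear_combination c1 : hf v p = hf v p + hf v f)
    have hg0 : hf v g = 0 := left_eq_add.1 (by linear_combination c3 : hf v q = hf v q + hf v g)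
    rw [e, hf0, hg0, show hf v p = 0 by rw [← c2, hf0], show hf v q = 0 by rw [← c4, hg0]]
    simp

end elts

end Cfsg.Agent.Fi23ByInvol
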