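/-
The centraliser data of an involution of the type of the 2-central involutions of Fi23.

* `Datum z` : the group J, its coordinates, the three central involutions, the element of order three;
* `Datum.T`, `T_semi` : the action of the centraliser on the coordinates; outer involutions are semilinear;
* `lift_two`, `lift_sing`, `tv_lines`, `tv_pair`, `J_pair` : elements of J centralising an involution;
* `lift_exact` : odd elements centralising an involution exactly.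
-/
import Cfsg.Agent.Lib.Fi23ByInvol.Space

set_option autoImplicit false
set_option linter.unusedSectionVars false

namespace Cfsg.Agent.Fi23ByInvol

open Cfsg.Agent.ThreeTransSU Cfsg.Agent.U62Rec

theorem k_span : ∀ l k : K, l ≠ 0 → l ≠ 1 → k = 0 ∨ k = 1 ∨ k = l ∨ k = 1 + l := by decide +kernel
theorem k_lam : ∀ l : K, l ≠ 0 → l * l ^ 2 = 1 := k_cube
theorem k_one_add : ∀ l : K, (1 + l) ^ 2 = 1 + l ^ 2 := by decide +kernel
theorem fin3 : ∀ i m : Fin 3, i ≠ m → ∃ k, k ≠ i ∧ k ≠ m ∧ ∀ n, n = i ∨ n = m ∨ n = k := by decide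
theorem fin3_next : ∀ i m : Fin 3, i + 1 ≠ i ∧ (i ≠ m → m = i + 1 ∨ m = i + 2) := by decide

universe u

/-- The data. -/
structure Datum {G : Type u} [Group G] (z : G) where
  /-- The largest normal 2-subgroup of the centraliser. -/
  J : Subgroup G
  /-- The coordinates. -/
  vec : G → V4
  /-- The map of the inner part. -/
  φ : G → U4
  /-- The three central involutions. -/
  v : Fin 3 → G
  /-- The element of order three. -/
  c : G
  /-- Its eigenvalue. -/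
  lam : K
  z_sq : z * z = 1
  z_ne : z ≠ 1
  z_mem : z ∈ J
  J_cent : ∀ j ∈ J, Commute j z
  J_norm : ∀ h, Commute h z → ∀ j ∈ J, h * j * h⁻¹ ∈ J
  v_mem : ∀ i, v i ∈ J
  v_one : ∀ i, v i ≠ 1
  v_z : ∀ i, v i ≠ z
  v_inj : Function.Injective v
  v_sq : ∀ i, v i * v i = 1
  v_prod : v 0 * v 1 * v 2 = 1
  v_comm : ∀ i, ∀ j ∈ J, Commute j (v i)
  v_perm : ∀ h, Commute h z → ∀ i, ∃ k, h * v i * h⁻¹ = v k
  vec_mul : ∀ i ∈ J, ∀ j ∈ J, vec (i * j) = vec i + vec j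
  vec_surj : ∀ x : V4, ∃ j ∈ J, vec j = x
  vec_ker : ∀ j ∈ J, vec j = 0 → j = 1 ∨ j = z ∨ ∃ i, j = v i ∨ j = z * v i
  vec_z : vec z = 0
  vec_v : ∀ i, vec (v i) = 0
  sq_one : ∀ j ∈ J, hf (vec j) (vec j) = 0 → j * j = 1
  sq_z : ∀ j ∈ J, hf (vec j) (vec j) ≠ 0 → j * j = z
  comm_zero : ∀ i ∈ J, ∀ j ∈ J, B (vec i) (vec j) = 0 → Commute i j
  comm_ne : ∀ i ∈ J, ∀ j ∈ J, B (vec i) (vec j) ≠ 0 → i * j = j * i * z
  φ_mul : ∀ g h, Commute g z → (∀ i, Commute g (v i)) → Commute h z → (∀ i, Commute h (v i)) →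
    φ (g * h) = φ g * φ h
  φ_ker : ∀ h, Commute h z → (∀ i, Commute h (v i)) → (φ h = 1 ↔ h ∈ J)
  φ_surj : ∀ x : U4, ∃ h, Commute h z ∧ (∀ i, Commute h (v i)) ∧ φ h = x
  vec_conj : ∀ h, Commute h z → (∀ i, Commute h (v i)) → ∀ j ∈ J, vec (h * j * h⁻¹) = act (φ h) (vec j)
  c_z : Commute c z
  c_v : ∀ i, c * v i * c⁻¹ = v (i + 1)
  lam0 : lam ≠ 0
  lam1 : lam ≠ 1
  c_vec : ∀ j ∈ J, vec (c * j * c⁻¹) = lam • vec j
  c_norm : ∀ h, Commute h z → h * c * h⁻¹ * c⁻¹ ∈ J ∨ h * c * h⁻¹ * c ∈ J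
  outer : ∃ o, Commute o z ∧ Commute o (v 0) ∧ ¬ Commute o (v 1)

namespace Datum

variable {G : Type u} [Group G] {z : G} (D : Datum z)

/-- The inner part. -/
def In (h : G) : Prop := Commute h z ∧ ∀ i, Commute h (D.v i)

/-- The eight central elements. -/
def Zs (x : G) : Prop := x = 1 ∨ x = z ∨ ∃ i, x = D.v i ∨ x = z * D.v i

theorem v_inv (i : Fin 3) : (D.v i)⁻¹ = D.v i := inv_eq_of_mul_eq_one_right (D.v_sq i)

theorem J_In {j : G} (hj : j ∈ D.J) : D.In j := ⟨D.J_cent j hj, fun i => D.v_comm i j hj⟩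

theorem In_one : D.In 1 := ⟨Commute.one_left _, fun _ => Commute.one_left _⟩

theorem In_mul {g h : G} (hg : D.In g) (hh : D.In h) : D.In (g * h) :=
  ⟨hg.1.mul_left hh.1, fun i => (hg.2 i).mul_left (hh.2 i)⟩

theorem In_inv {g : G} (hg : D.In g) : D.In g⁻¹ := ⟨hg.1.inv_left, fun i => (hg.2 i).inv_left⟩

theorem In_pow {g : G} (hg : D.In g) (n : ℕ) : D.In (g ^ n) :=
  ⟨hg.1.pow_left n, fun i => (hg.2 i).pow_left n⟩

theorem vec_one : D.vec 1 = 0 := by
  have h := D.vec_mul 1 (one_mem _) 1 (one_mem _)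
  rw [mul_one] at h
  exact left_eq_add.1 h

theorem vec_inv {j : G} (hj : j ∈ D.J) : D.vec j⁻¹ = D.vec j := by
  refine veq ?_
  rw [← D.vec_mul _ (inv_mem hj) _ hj, inv_mul_cancel, D.vec_one]

theorem Zs_mem {x : G} (hx : D.Zs x) : x ∈ D.J ∧ D.vec x = 0 := by
  rcases hx with rfl | rfl | ⟨i, rfl | rfl⟩
  · exact ⟨one_mem _, D.vec_one⟩
  · exact ⟨D.z_mem, D.vec_z⟩
  · exact ⟨D.v_mem i, D.vec_v i⟩
  · exact ⟨mul_mem D.z_mem (D.v_mem i), by rw [D.vec_mul _ D.z_mem _ (D.v_mem i), D.vec_z, D.vec_v, add_zero]⟩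

theorem Zs_comm {x h : G} (hx : D.Zs x) (hh : D.In h) : Commute h x := by
  rcases hx with rfl | rfl | ⟨i, rfl | rfl⟩
  · exact Commute.one_right _
  · exact hh.1
  · exact hh.2 i
  · exact hh.1.mul_right (hh.2 i)

theorem Zs_sq {x : G} (hx : D.Zs x) : x * x = 1 :=
  D.sq_one x (D.Zs_mem hx).1 (by rw [(D.Zs_mem hx).2, h0l])

theorem Zs_of_vec {x : G} (hx : x ∈ D.J) (h : D.vec x = 0) : D.Zs x := D.vec_ker x hx h

theorem Zs_conj {x h : G} (hx : D.Zs x) (hh : Commute h z) : D.Zs (h * x * h⁻¹) := by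
  have hz : h * z * h⁻¹ = z := by rw [hh.eq, mul_inv_cancel_right]
  rcases hx with rfl | rfl | ⟨i, rfl | rfl⟩
  · exact Or.inl (by group)
  · exact Or.inr (Or.inl hz)
  · obtain ⟨k, e⟩ := D.v_perm h hh i
    exact Or.inr (Or.inr ⟨k, Or.inl e⟩)
  · obtain ⟨k, e⟩ := D.v_perm h hh i
    refine Or.inr (Or.inr ⟨k, Or.inr ?_⟩)
    calc h * (z * D.v i) * h⁻¹ = (h * z * h⁻¹) * (h * D.v i * h⁻¹) := by group
      _ = z * D.v k := by rw [hz, e]

theorem vec_eq {i j : G} (hi : i ∈ D.J) (hj : j ∈ D.J) (h : D.vec i = D.vec j) : D.Zs (i⁻¹ * j) := by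
  refine D.Zs_of_vec (mul_mem (inv_mem hi) hj) ?_
  rw [D.vec_mul _ (inv_mem hi) _ hj, D.vec_inv hi, h, vv]

theorem J_four {j : G} (hj : j ∈ D.J) : j ^ 4 = 1 := by
  have h : j * j = 1 ∨ j * j = z := by
    by_cases e : hf (D.vec j) (D.vec j) = 0
    · exact Or.inl (D.sq_one j hj e)
    · exact Or.inr (D.sq_z j hj e)
  rw [show j ^ 4 = j * j * (j * j) by simp only [pow_succ, pow_zero, one_mul, mul_assoc]]
  rcases h with e | e <;> rw [e]
  · exact mul_one 1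
  · exact D.z_sq

theorem odd_eq_one {x : G} {n : ℕ} (h : x ^ 2 ^ n = 1) (ho : Odd (orderOf x)) : x = 1 :=
  orderOf_eq_one_iff.1 (Nat.Coprime.eq_one_of_dvd
    ((Nat.coprime_two_right.2 ho).pow_right n) (orderOf_dvd_of_pow_eq_one h))

theorem odd_J {r : G} (hr : r ∈ D.J) (ho : Odd (orderOf r)) : r = 1 :=
  odd_eq_one (n := 2) (D.J_four hr) ho

theorem odd_sq {r : G} (hr : r * r ∈ D.J) (ho : Odd (orderOf r)) : r = 1 :=
  odd_eq_one (n := 3) (by rw [show r ^ 2 ^ 3 = (r * r) ^ 4 by rw [← pow_two, ← pow_mul]; rfl, D.J_four hr]) ho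

/-! ### The permutation of the central involutions -/

theorem v_third {i m k : Fin 3} (h1 : k ≠ i) (h2 : k ≠ m) (h3 : i ≠ m) : D.v i * D.v m = D.v k := by
  have e2 : D.v 0 * D.v 1 = D.v 2 := by rw [← D.v_inv 2]; exact eq_inv_of_mul_eq_one_left D.v_prod
  have hc := fun a b => (D.v_comm a (D.v b) (D.v_mem b)).eq
  have e1 : D.v 0 * D.v 2 = D.v 1 := by rw [← e2, ← mul_assoc, D.v_sq, one_mul]
  have e0 : D.v 1 * D.v 2 = D.v 0 := by rw [← e2, hc 1 0, ← mul_assoc, D.v_sq, one_mul]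
  fin_cases i <;> fin_cases m <;> fin_cases k <;> simp at h1 h2 h3 <;>
    first
      | exact e2
      | exact e1
      | exact e0
      | (rw [hc]; first | exact e2 | exact e1 | exact e0)

theorem In_of_two {h : G} (hz : Commute h z) {i m : Fin 3} (hne : i ≠ m) (hi : Commute h (D.v i))
    (hm : Commute h (D.v m)) : D.In h := by
  obtain ⟨k, h1, h2, hall⟩ := fin3 i m hne
  refine ⟨hz, fun n => ?_⟩
  rcases hall n with rfl | rfl | rfl
  exacts [hi, hm, D.v_third h1 h2 hne ▸ hi.mul_right hm]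

theorem conj_fix {h x : G} : h * x * h⁻¹ = x ↔ Commute h x :=
  ⟨fun e => mul_inv_eq_iff_eq_mul.1 e, fun e => mul_inv_eq_iff_eq_mul.2 e.eq⟩

/-- An outer element with a fixed point exchanges the other two. -/
theorem swap {h : G} (hz : Commute h z) (ho : ¬ D.In h) {i m k : Fin 3} (h1 : k ≠ i) (h2 : k ≠ m)
    (h3 : i ≠ m) (hi : Commute h (D.v i)) : h * D.v m * h⁻¹ = D.v k := by
  obtain ⟨n, e⟩ := D.v_perm h hz m
  have hni : n ≠ i := fun e' => h3 (by
    apply D.v_inj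
    subst e'
    exact (MulAut.conj h).injective ((conj_fix.2 hi).trans e.symm))
  have hnm : n ≠ m := fun e' => ho (D.In_of_two hz h3 hi (conj_fix.1 (e' ▸ e)))
  obtain ⟨k', -, -, hall⟩ := fin3 i m h3
  rcases hall n with e' | e' | e'
  · exact absurd e' hni
  · exact absurd e' hnm
  · rcases hall k with e'' | e'' | e''
    · exact absurd e'' h1
    · exact absurd e'' h2
    · rw [e, e', e'']

theorem fix_unique {h : G} (hz : Commute h z) (ho : ¬ D.In h) {i m : Fin 3} (hi : Commute h (D.v i))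
    (hm : Commute h (D.v m)) : i = m := by
  by_contra hne
  exact ho (D.In_of_two hz hne hi hm)

theorem exists_fix {h : G} (hz : Commute h z) (h2 : h * h = 1) : ∃ i, Commute h (D.v i) := by
  obtain ⟨k, e⟩ := D.v_perm h hz 0
  by_cases hk : k = 0
  · exact ⟨0, conj_fix.1 (hk ▸ e)⟩
  obtain ⟨n, n1, n2, -⟩ := fin3 0 k (Ne.symm hk)
  have hinv : h⁻¹ = h := inv_eq_of_mul_eq_one_right h2
  have e' : h * D.v k * h⁻¹ = D.v 0 := by
    rw [← e, show h * (h * D.v 0 * h⁻¹) * h⁻¹ = h * h * D.v 0 * (h * h)⁻¹ by group, h2]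
    group
  refine ⟨n, conj_fix.1 ?_⟩
  rw [← D.v_third n1 n2 (Ne.symm hk),
    show h * (D.v 0 * D.v k) * h⁻¹ = (h * D.v 0 * h⁻¹) * (h * D.v k * h⁻¹) by group, e, e']
  exact (D.v_comm 0 _ (D.v_mem k)).eq

/-- Two commuting outer involutions fix the same point, and their product is inner. -/
theorem outer_pair {g h : G} (gz : Commute g z) (hz : Commute h z) (g2 : g * g = 1) (go : ¬ D.In g)
    (ho : ¬ D.In h) (hc : Commute g h) {i : Fin 3} (hi : Commute h (D.v i)) :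
    Commute g (D.v i) ∧ D.In (g * h) := by
  obtain ⟨k, e⟩ := D.v_perm g gz i
  have hk : Commute h (D.v k) := by
    rw [← e]
    exact (hc.symm.mul_right hi).mul_right hc.symm.inv_right
  have hki := D.fix_unique hz ho hi hk
  have gi : Commute g (D.v i) := conj_fix.1 (hki ▸ e)
  obtain ⟨m, hm⟩ : ∃ m : Fin 3, m ≠ i := ⟨i + 1, (fin3_next i i).1⟩
  obtain ⟨n, n1, n2, -⟩ := fin3 i m (Ne.symm hm)
  refine ⟨gi, D.In_of_two (gz.mul_left hz) (Ne.symm hm) (gi.mul_left hi) (conj_fix.1 ?_)⟩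
  have hinv : g⁻¹ = g := inv_eq_of_mul_eq_one_right g2
  have e2 := D.swap gz go n1 n2 (Ne.symm hm) gi
  rw [show g * h * D.v m * (g * h)⁻¹ = g * (h * D.v m * h⁻¹) * g⁻¹ by group,
    D.swap hz ho n1 n2 (Ne.symm hm) hi, ← e2,
    show g * (g * D.v m * g⁻¹) * g⁻¹ = g * g * D.v m * (g * g)⁻¹ by group, g2]
  group

/-! ### The action on coordinates -/

/-- A lift of a vector. -/
noncomputable def lift (x : V4) : G := (D.vec_surj x).choose

theorem lift_mem (x : V4) : D.lift x ∈ D.J := (D.vec_surj x).choose_spec.1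

theorem vec_lift (x : V4) : D.vec (D.lift x) = x := (D.vec_surj x).choose_spec.2

/-- The action of an element of the centraliser. -/
noncomputable def T (h : G) (x : V4) : V4 := D.vec (h * D.lift x * h⁻¹)

theorem T_vec {h j : G} (hz : Commute h z) (hj : j ∈ D.J) : D.T h (D.vec j) = D.vec (h * j * h⁻¹) := by
  have hl := D.lift_mem (D.vec j)
  have hζ := D.Zs_conj (D.vec_eq hl hj (D.vec_lift _)) hz
  rw [show h * j * h⁻¹ = h * D.lift (D.vec j) * h⁻¹ * (h * ((D.lift (D.vec j))⁻¹ * j) * h⁻¹) by group,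
    D.vec_mul _ (D.J_norm h hz _ hl) _ (D.Zs_mem hζ).1, (D.Zs_mem hζ).2, add_zero]
  rfl

theorem T_add {h : G} (hz : Commute h z) (x y : V4) : D.T h (x + y) = D.T h x + D.T h y := by
  conv_lhs => rw [← D.vec_lift x, ← D.vec_lift y, ← D.vec_mul _ (D.lift_mem x) _ (D.lift_mem y)]
  rw [D.T_vec hz (mul_mem (D.lift_mem x) (D.lift_mem y)),
    show h * (D.lift x * D.lift y) * h⁻¹ = h * D.lift x * h⁻¹ * (h * D.lift y * h⁻¹) by group,
    D.vec_mul _ (D.J_norm h hz _ (D.lift_mem x)) _ (D.J_norm h hz _ (D.lift_mem y))]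
  rfl

theorem T_zero {h : G} (hz : Commute h z) : D.T h 0 = 0 := by
  have h1 := D.T_add hz 0 0
  rw [add_zero] at h1
  exact left_eq_add.1 h1

theorem T_mul {g h : G} (gz : Commute g z) (hz : Commute h z) (x : V4) :
    D.T (g * h) x = D.T g (D.T h x) := by
  rw [show D.T h x = D.vec (h * D.lift x * h⁻¹) from rfl, D.T_vec gz (D.J_norm h hz _ (D.lift_mem x)), T]
  congr 1
  group

theorem T_In {h : G} (hh : D.In h) (x : V4) : D.T h x = act (D.φ h) x := by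
  rw [T, D.vec_conj h hh.1 hh.2 _ (D.lift_mem x), D.vec_lift]

theorem φ_J {j : G} (hj : j ∈ D.J) : D.φ j = 1 := (D.φ_ker j (D.J_In hj).1 (D.J_In hj).2).2 hj

theorem T_J {j : G} (hj : j ∈ D.J) (x : V4) : D.T j x = x := by
  rw [D.T_In (D.J_In hj), D.φ_J hj, act_one]

theorem T_one (x : V4) : D.T 1 x = x := D.T_J (one_mem _) x

theorem φ_mul' {g h : G} (hg : D.In g) (hh : D.In h) : D.φ (g * h) = D.φ g * D.φ h :=
  D.φ_mul g h hg.1 hg.2 hh.1 hh.2

theorem φ_one : D.φ 1 = 1 := D.φ_J (one_mem _)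

theorem φ_pow {h : G} (hh : D.In h) : ∀ n : ℕ, D.φ (h ^ n) = D.φ h ^ n
  | 0 => by rw [pow_zero, pow_zero, D.φ_one]
  | n + 1 => by rw [pow_succ, pow_succ, D.φ_mul' (D.In_pow hh n) hh, φ_pow hh n]

theorem φ_sq {h : G} (hh : D.In h) (h2 : h * h = 1) : D.φ h * D.φ h = 1 := by
  rw [← D.φ_mul' hh hh, h2, D.φ_one]

theorem mem_J_of_T {h : G} (hh : D.In h) (hT : ∀ x, D.T h x = x) : h ∈ D.J := by
  rw [← D.φ_ker h hh.1 hh.2]
  exact act_ext fun x => by rw [← D.T_In hh, hT, act_one]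

theorem fix_of_comm {h j : G} (hz : Commute h z) (hj : j ∈ D.J) (hc : Commute j h) :
    D.T h (D.vec j) = D.vec j := by
  rw [D.T_vec hz hj, conj_fix.2 hc.symm]

theorem conj_J_iff {g i j : G} : Commute (g * i * g⁻¹) (g * j * g⁻¹) ↔ Commute i j := by
  constructor <;> intro h
  · have := commute_conj g⁻¹ h
    simpa [mul_assoc] using this
  · exact commute_conj g h

theorem B_iff {i j : G} (hi : i ∈ D.J) (hj : j ∈ D.J) : B (D.vec i) (D.vec j) = 0 ↔ Commute i j := by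
  refine ⟨D.comm_zero i hi j hj, fun h => by_contra fun hne => D.z_ne ?_⟩
  have e := D.comm_ne i hi j hj hne
  rw [← h.eq] at e
  exact left_eq_mul.1 e

theorem T_B {h : G} (hz : Commute h z) (x y : V4) : B (D.T h x) (D.T h y) = B x y := by
  have h1 := D.B_iff (D.lift_mem x) (D.lift_mem y)
  rw [D.vec_lift, D.vec_lift] at h1
  have h2 := (D.B_iff (D.J_norm h hz _ (D.lift_mem x)) (D.J_norm h hz _ (D.lift_mem y))).trans conj_J_iff
  rw [← h1] at h2
  rcases B_val x y with e | e <;> rw [e] at h2 ⊢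
  · exact h2.2 rfl
  · exact (B_val _ _).resolve_left fun e' => one_ne_zero (h2.1 e')

theorem T_q {h : G} (hz : Commute h z) (x : V4) : hf (D.T h x) (D.T h x) = hf x x := by
  set j := D.lift x
  have hj := D.lift_mem x
  have hm := D.J_norm h hz j hj
  obtain e | e : hf x x = 0 ∨ hf x x = 1 := k_cases _ ((herm cardK).self_fixed x)
  · rw [e]
    by_contra hne
    refine D.z_ne ?_
    rw [← D.sq_z _ hm hne, show h * j * h⁻¹ * (h * j * h⁻¹) = h * (j * j) * h⁻¹ by group,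
      D.sq_one j hj (by rw [D.vec_lift]; exact e)]
    group
  · rw [e]
    refine (k_cases _ ((herm cardK).self_fixed _)).resolve_left fun e' => D.z_ne ?_
    have h1 := D.sq_one _ hm e'
    rw [show h * j * h⁻¹ * (h * j * h⁻¹) = h * (j * j) * h⁻¹ by group,
      D.sq_z j hj (by rw [D.vec_lift, e]; exact one_ne_zero), hz.eq, mul_inv_cancel_right] at h1
    exact h1

theorem T_c (x : V4) : D.T D.c x = D.lam • x := by
  rw [T, D.c_vec _ (D.lift_mem x), D.vec_lift]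

theorem T_c_inv (x : V4) : D.T D.c⁻¹ x = D.lam ^ 2 • x := by
  have h : D.lam • D.T D.c⁻¹ x = x := by
    rw [← D.T_c, ← D.T_mul D.c_z D.c_z.inv_left, mul_inv_cancel, D.T_one]
  conv_rhs => rw [← h, smul_smul, mul_comm, k_lam _ D.lam0, one_smul]

/-- Outer elements with a fixed point conjugate the scalar. -/
theorem T_lam {h : G} (hz : Commute h z) (ho : ¬ D.In h) {i : Fin 3} (hi : Commute h (D.v i)) (x : V4) :
    D.T h (D.lam • x) = D.lam ^ 2 • D.T h x := by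
  rcases D.c_norm h hz with hJ | hJ
  · refine absurd ?_ ho
    refine D.In_of_two hz (fin3_next i i).1.symm hi (conj_fix.1 ?_)
    have hj := (D.v_comm (i + 1) _ hJ)
    have e1 : h * D.c * h⁻¹ * D.v i * (h * D.c * h⁻¹)⁻¹ = h * D.v (i + 1) * h⁻¹ := by
      rw [← D.c_v i]
      calc h * D.c * h⁻¹ * D.v i * (h * D.c * h⁻¹)⁻¹
          = h * D.c * (h⁻¹ * D.v i * h) * D.c⁻¹ * h⁻¹ := by group
        _ = h * (D.c * D.v i * D.c⁻¹) * h⁻¹ := by rw [mul_assoc h⁻¹, ← hi.eq, inv_mul_cancel_left]; group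
    have e2 : h * D.c * h⁻¹ * D.v i * (h * D.c * h⁻¹)⁻¹ = D.v (i + 1) := by
      calc h * D.c * h⁻¹ * D.v i * (h * D.c * h⁻¹)⁻¹
          = h * D.c * h⁻¹ * D.c⁻¹ * (D.c * D.v i * D.c⁻¹) * (h * D.c * h⁻¹ * D.c⁻¹)⁻¹ := by group
        _ = D.v (i + 1) := by rw [D.c_v i, hj.eq, mul_inv_cancel_right]
    exact e1.symm.trans e2
  · have e : h * D.c = (h * D.c * h⁻¹ * D.c) * (D.c⁻¹ * h) := by group
    rw [← D.T_c, ← D.T_mul hz D.c_z, e,
      D.T_mul (D.J_cent _ hJ) (D.c_z.inv_left.mul_left hz), D.T_J hJ, D.T_mul D.c_z.inv_left hz, D.T_c_inv]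

theorem T_semi {h : G} (hz : Commute h z) (ho : ¬ D.In h) (h2 : h * h = 1) : Semi (D.T h) := by
  obtain ⟨i, hi⟩ := D.exists_fix hz h2
  have hsm : ∀ (k : K) x, D.T h (k • x) = k ^ 2 • D.T h x := fun k x => by
    rcases k_span D.lam k D.lam0 D.lam1 with rfl | rfl | rfl | rfl
    · rw [zero_smul, D.T_zero hz, U62Rec.sq_zero, zero_smul]
    · rw [one_smul, one_pow, one_smul]
    · exact D.T_lam hz ho hi x
    · rw [add_smul, one_smul, D.T_add hz, D.T_lam hz ho hi, k_one_add, add_smul, one_smul]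
  refine ⟨D.T_add hz, hsm, fun x y => ?_, fun x => by rw [← D.T_mul hz hz, h2, D.T_one]⟩
  have h1 := D.T_B hz x y
  have h3 := D.T_B hz (om • x) y
  simp only [B] at h1
  simp only [B, hsm, sl] at h3
  exact k_anti _ _ (by rw [h1]) (by rw [h3])

/-! ### Centralisers in J -/

variable {h : G}

theorem lift_R (hz : Commute h z) (h2 : h * h = 1) {x : V4} (hq : hf (x + D.T h x) (x + D.T h x) = 0) :
    ∃ w ∈ D.J, Commute w h ∧ D.vec w = x + D.T h x := by
  set j := D.lift x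
  have hj := D.lift_mem x
  have hm := D.J_norm h hz j hj
  have hinv : h⁻¹ = h := inv_eq_of_mul_eq_one_right h2
  set w := h * j * h⁻¹ * j⁻¹
  have hw : w ∈ D.J := mul_mem hm (inv_mem hj)
  have hv : D.vec w = x + D.T h x := by
    rw [D.vec_mul _ hm _ (inv_mem hj), D.vec_inv hj, D.vec_lift, add_comm]
    rfl
  refine ⟨w, hw, (conj_fix.1 ?_).symm, hv⟩
  have hwi : w⁻¹ = w := inv_eq_of_mul_eq_one_right (D.sq_one w hw (hv ▸ hq))
  conv_rhs => rw [← hwi]
  calc h * w * h⁻¹ = h * h * j * h⁻¹ * j⁻¹ * h⁻¹ := by simp only [w]; group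
    _ = w⁻¹ := by
      simp only [w, mul_inv_rev, inv_inv, h2, one_mul, hinv]
      group

theorem lift_two {p q : V4} (hh : D.In h) (h2 : h * h = 1) (hpq : OrthPair p q) (hφ : D.φ h = t4 p * t4 q)
    (a b : K) : ∃ j ∈ D.J, Commute j h ∧ D.vec j = a • p + b • q := by
  obtain ⟨f, g, hfr⟩ := U62Rec.exists_frame hpq
  have e : a • f + b • g + D.T h (a • f + b • g) = a • p + b • q := by
    rw [D.T_In hh, hφ]
    show R (t4 p * t4 q) _ = _
    rw [R_two hpq]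
    simp [hl_sum, hfr.fp, hfr.fq, hfr.gp, hfr.gq]
  obtain ⟨w, hw, hc, hv⟩ := D.lift_R hh.1 h2 (x := a • f + b • g) (by
    rw [e]
    simp [hl_sum, hr, sr, hfr.pp, hfr.pq, hfr.qp, hfr.qq])
  exact ⟨w, hw, hc, hv.trans e⟩

theorem lift_sing (hz : Commute h z) (ho : ¬ D.In h) (h2 : h * h = 1) {w : V4} (hw : D.T h w = w)
    (hq : hf w w = 0) : ∃ j ∈ D.J, Commute j h ∧ D.vec j = w := by
  have S := D.T_semi hz ho h2
  have e : om • w + D.T h (om • w) = w := by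
    rw [S.smul, hw, ← add_smul, k_om.2.2.2, one_smul]
  obtain ⟨j, hj, hc, hv⟩ := D.lift_R hz h2 (x := om • w) (by rwa [e])
  exact ⟨j, hj, hc, hv.trans e⟩

theorem J_pair (hh : h ∈ D.J) : ∃ x y, x ∈ D.J ∧ y ∈ D.J ∧ Commute x h ∧ Commute y h ∧ x * y = y * x * z := by
  obtain ⟨a, b, ha, hb, hab⟩ := B_ker_pair (D.vec h)
  refine ⟨D.lift a, D.lift b, D.lift_mem a, D.lift_mem b, D.comm_zero _ (D.lift_mem a) h hh ?_,
    D.comm_zero _ (D.lift_mem b) h hh ?_, D.comm_ne _ (D.lift_mem a) _ (D.lift_mem b) ?_⟩ <;>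
  simp only [D.vec_lift] <;> assumption

/-- For a transvection the commutators with elements orthogonal to the centre lie in `{1, z}`. -/
theorem tv_comm_z {p q f g : V4} (hfr : Frame p q f g) (hh : D.In h) (h2 : h * h = 1)
    (hφ : D.φ h = t4 p) {j : G} (hj : j ∈ D.J) (hp : hf (D.vec j) p = 0) :
    h * j * h⁻¹ * j⁻¹ = 1 ∨ h * j * h⁻¹ * j⁻¹ = z := by
  set r : G → G := fun j => h * j * h⁻¹ * j⁻¹ with hr'
  have rZ : ∀ j ∈ D.J, hf (D.vec j) p = 0 → D.Zs (r j) := fun j hj hp => by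
    refine D.Zs_of_vec (mul_mem (D.J_norm h hh.1 j hj) (inv_mem hj)) ?_
    rw [D.vec_mul _ (D.J_norm h hh.1 j hj) _ (inv_mem hj), D.vec_inv hj, D.vec_conj h hh.1 hh.2 j hj, hφ,
      act_tv_of_orth cardK hfr.pp hp, vv]
  have rmul : ∀ i ∈ D.J, ∀ j ∈ D.J, hf (D.vec j) p = 0 → r (i * j) = r i * r j := fun i hi j hj hp => by
    have e : r (i * j) = h * i * h⁻¹ * r j * i⁻¹ := by simp only [hr']; group
    rw [e, mul_assoc _ (r j), ← ((D.Zs_comm (rZ j hj hp) (D.J_In (inv_mem hi))).eq)]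
    simp only [hr']
    group
  have hz1 : ∀ a b : G, (a = 1 ∨ a = z) → (b = 1 ∨ b = z) → (a * b = 1 ∨ a * b = z) := by
    rintro a b (rfl | rfl) (rfl | rfl) <;> simp [D.z_sq]
  obtain ⟨hxc, hR⟩ := levi_spec hfr
  -- the part on the second pair
  have hplane : ∀ a b : K, ∀ j ∈ D.J, D.vec j = a • q + b • g → r j = 1 ∨ r j = z := by
    intro a b j hj hv
    obtain ⟨y, hy, hRy⟩ := hR a b
    obtain ⟨k, hkz, hkv, hk⟩ := D.φ_surj (t4 q * t4 g)
    have hkI : D.In k := ⟨hkz, hkv⟩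
    set i := D.lift y
    have hi := D.lift_mem y
    have hi' := D.J_norm k hkz i hi
    have hvy : D.vec (k * i * k⁻¹) = act (t4 q * t4 g) y := by rw [D.vec_conj k hkz hkv i hi, hk, D.vec_lift]
    have hyp' : hf (D.vec (k * i * k⁻¹)) p = 0 := by
      have : act (t4 q * t4 g) p = p := by
        rw [act_mul, act_tv_of_orth cardK hfr.gg hfr.pg, act_tv_of_orth cardK hfr.qq hfr.pq]
      rw [hvy]
      conv_lhs => rw [← this, act_hf, hy]
    have hwI : D.In (k⁻¹ * h * k * h⁻¹) := D.In_mul (D.In_mul (D.In_mul (D.In_inv hkI) hh) hkI) (D.In_inv hh)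
    have hwJ : k⁻¹ * h * k * h⁻¹ ∈ D.J := by
      rw [← D.φ_ker _ hwI.1 hwI.2]
      have e1 : D.φ (k⁻¹ * h * k * h⁻¹) * D.φ h = D.φ (k⁻¹) * (D.φ h * D.φ k) := by
        rw [← D.φ_mul' hwI hh, ← D.φ_mul' hh hkI, ← D.φ_mul' (D.In_inv hkI) (D.In_mul hh hkI)]
        congr 1; group
      rw [hφ, hk, show t4 p * (t4 q * t4 g) = (t4 q * t4 g) * t4 p from hxc.eq.symm, ← mul_assoc, ← hk,
        ← D.φ_mul' (D.In_inv hkI) hkI, inv_mul_cancel, D.φ_one, one_mul] at e1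
      exact mul_right_cancel (e1.trans (one_mul _).symm)
    set w := k⁻¹ * h * k * h⁻¹ with hw
    obtain ⟨ζ, hζ, hwi⟩ : ∃ ζ, (ζ = 1 ∨ ζ = z) ∧ w * i * w⁻¹ = i * ζ := by
      by_cases e : B (D.vec w) (D.vec i) = 0
      · exact ⟨1, Or.inl rfl, by rw [(D.comm_zero w hwJ i hi e).eq, mul_inv_cancel_right, mul_one]⟩
      · exact ⟨z, Or.inr rfl, by
          rw [D.comm_ne w hwJ i hi e, mul_assoc (i * w), ← (D.J_cent _ (inv_mem hwJ)).eq, ← mul_assoc,
            mul_inv_cancel_right]⟩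
    have hZi := rZ i hi (by rw [D.vec_lift]; exact hy)
    have hζI : D.In ζ := by
      rcases hζ with rfl | rfl
      exacts [D.In_one, D.J_In D.z_mem]
    have hki : r (k * i * k⁻¹) = r i * ζ := by
      have e1 : h * i * h⁻¹ = r i * i := by simp only [hr']; group
      have hcr : Commute k (r i) := D.Zs_comm hZi hkI
      have hcw : Commute w (r i) := D.Zs_comm hZi (D.J_In hwJ)
      have hkζ : Commute k ζ := by
        rcases hζ with rfl | rfl
        exacts [Commute.one_right _, hkz]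
      calc r (k * i * k⁻¹) = k * w * (h * i * h⁻¹) * w⁻¹ * k⁻¹ * (k * i * k⁻¹)⁻¹ := by
            simp only [hr', hw]; group
        _ = r i * (k * (w * i * w⁻¹) * k⁻¹) * (k * i * k⁻¹)⁻¹ := by
            rw [e1, show k * w * (r i * i) = k * (w * r i) * i by group, hcw.eq,
              show k * (r i * w) * i = (k * r i) * (w * i) by group, hcr.eq]
            group
        _ = r i * ((k * i * k⁻¹) * (k * ζ * k⁻¹)) * (k * i * k⁻¹)⁻¹ := by rw [hwi]; group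
        _ = r i * ζ := by
            rw [conj_fix.2 hkζ]
            rcases hζ with rfl | rfl
            · rw [mul_one, mul_inv_cancel_right, mul_one]
            · rw [mul_assoc (r i), (D.J_cent _ hi').eq, mul_inv_cancel_right]
    set e := k * i * k⁻¹ * i with he
    have heJ : e ∈ D.J := mul_mem hi' hi
    have hre : r e = 1 ∨ r e = z := by
      rw [rmul _ hi' i hi (by rw [D.vec_lift]; exact hy), hki, (D.Zs_comm hZi hζI).symm.eq, mul_assoc,
        D.Zs_sq hZi, mul_one]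
      exact hζ
    have hve : D.vec e = a • q + b • g := by
      rw [D.vec_mul _ hi' _ hi, hvy, D.vec_lift, ← hRy, R, add_comm]
    have hd : D.Zs (e⁻¹ * j) := D.vec_eq heJ hj (by rw [hve, hv])
    have : r j = r e * r (e⁻¹ * j) := by
      conv_lhs => rw [show j = e * (e⁻¹ * j) by group]
      exact rmul _ heJ _ (D.Zs_mem hd).1 (by rw [(D.Zs_mem hd).2, h0l])
    rw [this, show r (e⁻¹ * j) = 1 by simp only [hr']; rw [conj_fix.2 (D.Zs_comm hd hh), mul_inv_cancel],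
      mul_one]
    exact hre
  obtain ⟨w, hwJ, hwc, hwv⟩ := D.lift_R hh.1 h2 (x := hf (D.vec j) f • f) (by
    rw [D.T_In hh, hφ]; exact R_iso (by rw [← hφ, D.φ_sq hh h2]) _)
  have hwp : D.vec w = hf (D.vec j) f • p := by
    rw [hwv, D.T_In hh, hφ]
    show R (t4 p) _ = _
    rw [R_one hfr.iso_p, sl, hfr.fp, mul_one]
  have hjw : D.vec (w⁻¹ * j) = hf (D.vec j) g • q + hf (D.vec j) q • g := by
    rw [D.vec_mul _ (inv_mem hwJ) _ hj, D.vec_inv hwJ, hwp]
    nth_rewrite 2 [hfr.expand (D.vec j)]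
    rw [hp, zero_smul, add_zero, ← add_assoc, ← add_assoc, vv, zero_add]
  have e : r j = r w * r (w⁻¹ * j) := by
    conv_lhs => rw [show j = w * (w⁻¹ * j) by group]
    exact rmul _ hwJ _ (mul_mem (inv_mem hwJ) hj) (by rw [hjw]; simp [hl_sum, hfr.qp, hfr.gp])
  show r j = 1 ∨ r j = z
  rw [e, show r w = 1 by simp only [hr']; rw [conj_fix.2 hwc.symm, mul_inv_cancel], one_mul]
  exact hplane _ _ _ (mul_mem (inv_mem hwJ) hj) hjw

/-- Two elements orthogonal to the centre, neither commuting with the transvection, have commuting product. -/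
theorem tv_product {p q f g : V4} (hfr : Frame p q f g) (hh : D.In h) (h2 : h * h = 1)
    (hφ : D.φ h = t4 p) {i j : G} (hi : i ∈ D.J) (hj : j ∈ D.J) (hip : hf (D.vec i) p = 0)
    (hjp : hf (D.vec j) p = 0) (hci : ¬ Commute i h) (hcj : ¬ Commute j h) : Commute (i * j) h := by
  have key : ∀ {j}, j ∈ D.J → hf (D.vec j) p = 0 → ¬ Commute j h → h * j * h⁻¹ = z * j := fun hj hp hc =>
    mul_inv_eq_iff_eq_mul.1 ((D.tv_comm_z hfr hh h2 hφ hj hp).resolve_left fun e =>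
      hc (conj_fix.1 (mul_inv_eq_one.1 e)).symm)
  refine (conj_fix.1 ?_).symm
  rw [show h * (i * j) * h⁻¹ = (h * i * h⁻¹) * (h * j * h⁻¹) by group, key hi hip hci, key hj hjp hcj,
    ← mul_assoc, mul_assoc z i z, (D.J_cent i hi).eq, ← mul_assoc, D.z_sq, one_mul]

/-- Every vector orthogonal to the centre has a multiple lifting into the centraliser. -/
theorem tv_lines {p q f g : V4} (hfr : Frame p q f g) (hh : D.In h) (h2 : h * h = 1)
    (hφ : D.φ h = t4 p) {e : V4} (he : hf e p = 0) :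
    ∃ c : K, c ≠ 0 ∧ ∃ j ∈ D.J, Commute j h ∧ D.vec j = c • e := by
  by_cases h1 : Commute (D.lift e) h
  · exact ⟨1, one_ne_zero, D.lift e, D.lift_mem e, h1, by rw [D.vec_lift, one_smul]⟩
  by_cases h2' : Commute (D.lift (om • e)) h
  · exact ⟨om, k_om.1, D.lift (om • e), D.lift_mem _, h2', D.vec_lift _⟩
  refine ⟨1 + om, fun e0 => k_om.2.1 (k_eq_of_add _ _ e0).symm, D.lift e * D.lift (om • e),
    mul_mem (D.lift_mem _) (D.lift_mem _), D.tv_product hfr hh h2 hφ (D.lift_mem e) (D.lift_mem _)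
      (by rw [D.vec_lift, he]) (by rw [D.vec_lift, sl, he, mul_zero]) h1 h2', ?_⟩
  rw [D.vec_mul _ (D.lift_mem _) _ (D.lift_mem _), D.vec_lift, D.vec_lift, add_smul, one_smul]

/-- The centraliser of a transvection element in J is not abelian. -/
theorem tv_pair {p q f g : V4} (hfr : Frame p q f g) (hh : D.In h) (h2 : h * h = 1)
    (hφ : D.φ h = t4 p) : ∃ x y, x ∈ D.J ∧ y ∈ D.J ∧ Commute x h ∧ Commute y h ∧ x * y = y * x * z := by
  obtain ⟨a, ha, x, hx, hxh, hxv⟩ := D.tv_lines hfr hh h2 hφ hfr.qp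
  obtain ⟨b, hb, y, hy, hyh, hyv⟩ := D.tv_lines hfr hh h2 hφ hfr.gp
  by_cases hab : B (D.vec x) (D.vec y) = 0
  swap
  · exact ⟨x, y, hx, hy, hxh, hyh, D.comm_ne x hx y hy hab⟩
  have hk : ∀ a b : K, a ≠ 0 → b ≠ 0 → a * b ^ 2 + (a * b ^ 2) ^ 2 = 0 →
      a = b ∧ om * a * b ^ 2 + (om * a * b ^ 2) ^ 2 ≠ 0 ∧ a * (om * b) ^ 2 + (a * (om * b) ^ 2) ^ 2 ≠ 0 ∧
      om * b * a ^ 2 + (om * b * a ^ 2) ^ 2 ≠ 0 := by decide +kernel
  have hB : a * b ^ 2 + (a * b ^ 2) ^ 2 = 0 := by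
    simp only [B, hxv, hyv, sl, sr, hfr.qg, mul_one] at hab
    linear_combination hab
  obtain ⟨-, k1, k2, k3⟩ := hk a b ha hb hB
  by_cases hx' : Commute (D.lift ((om * a) • q)) h
  · refine ⟨D.lift ((om * a) • q), y, D.lift_mem _, hy, hx', hyh, D.comm_ne _ (D.lift_mem _) y hy ?_⟩
    simp only [B, D.vec_lift, hyv, sl, sr, hfr.qg, mul_one]
    exact fun e => k1 (by linear_combination e)
  by_cases hy' : Commute (D.lift ((om * b) • g)) h
  · refine ⟨x, D.lift ((om * b) • g), hx, D.lift_mem _, hxh, hy', D.comm_ne _ hx _ (D.lift_mem _) ?_⟩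
    simp only [B, D.vec_lift, hxv, sl, sr, hfr.qg, mul_one]
    exact fun e => k2 (by linear_combination e)
  refine ⟨D.lift ((om * a) • q) * D.lift ((om * b) • g), x, mul_mem (D.lift_mem _) (D.lift_mem _), hx,
    D.tv_product hfr hh h2 hφ (D.lift_mem _) (D.lift_mem _) (by rw [D.vec_lift, sl, hfr.qp, mul_zero])
      (by rw [D.vec_lift, sl, hfr.gp, mul_zero]) hx' hy', hxh,
    D.comm_ne _ (mul_mem (D.lift_mem _) (D.lift_mem _)) x hx ?_⟩
  rw [D.vec_mul _ (D.lift_mem _) _ (D.lift_mem _), D.vec_lift, D.vec_lift, hxv]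
  simp only [B, hl, sl, sr, hfr.qq, hfr.gq, mul_one, mul_zero, zero_add, add_zero]
  exact fun e => k3 (by linear_combination e)

/-- Odd elements commuting with the action of an involution lift to elements commuting with it. -/
theorem lift_exact (hz : Commute h z) (h2 : h * h = 1) {x : U4} (hxo : Odd (orderOf x))
    (hcx : ∀ y, D.T h (act x y) = act x (D.T h y))
    (hR : ∀ y, D.T h y = y → ∃ w, y = w + D.T h w) :
    ∃ k, D.In k ∧ Commute k h ∧ D.φ k = x := by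
  obtain ⟨k0, k0z, k0v, hk0⟩ := D.φ_surj x
  have k0I : D.In k0 := ⟨k0z, k0v⟩
  have hinv : h⁻¹ = h := inv_eq_of_mul_eq_one_right h2
  set r := k0 * h * k0⁻¹ * h⁻¹ with hr'
  have hrI : D.In r := by
    have h1 : D.In (h * k0⁻¹ * h⁻¹) := by
      refine ⟨(hz.mul_left k0z.inv_left).mul_left hz.inv_left, fun i => ?_⟩
      obtain ⟨n, e⟩ := D.v_perm h⁻¹ hz.inv_left i
      have h3 := commute_conj h ((k0v n).inv_left)
      rwa [← e, show h * (h⁻¹ * D.v i * h⁻¹⁻¹) * h⁻¹ = D.v i by group] at h3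
    rw [show r = k0 * (h * k0⁻¹ * h⁻¹) by simp only [r]; group]
    exact D.In_mul k0I h1
  have hrT : ∀ y, D.T r y = y := fun y => by
    have hTk : ∀ y, D.T k0 y = act x y := fun y => by rw [D.T_In k0I, hk0]
    have hTki : ∀ y, act x (D.T k0⁻¹ y) = y := fun y => by
      rw [← hTk, ← D.T_mul k0z k0z.inv_left, mul_inv_cancel, D.T_one]
    rw [hr', D.T_mul ((k0z.mul_left hz).mul_left k0z.inv_left) hz.inv_left,
      D.T_mul (k0z.mul_left hz) k0z.inv_left, D.T_mul k0z hz, hTk, ← hcx, hTki,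
      ← D.T_mul hz hz.inv_left, mul_inv_cancel, D.T_one]
  have hrJ := D.mem_J_of_T hrI hrT
  have hrh : r * h = k0 * h * k0⁻¹ := by simp only [r]; group
  have hfix : D.T h (D.vec r) = D.vec r := by
    have e : r * h * (r * h) = 1 := by
      rw [hrh, show k0 * h * k0⁻¹ * (k0 * h * k0⁻¹) = k0 * (h * h) * k0⁻¹ by group, h2]; group
    have e' : h * r * h⁻¹ = r⁻¹ := by
      rw [hinv]
      exact eq_inv_of_mul_eq_one_right (by simpa [mul_assoc] using e)
    rw [D.T_vec hz hrJ, e', D.vec_inv hrJ]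
  obtain ⟨w, hw⟩ := hR _ hfix
  set j := D.lift w
  have hj := D.lift_mem w
  have hm := D.J_norm h hz j hj
  have hw0 : h * j * h⁻¹ * j⁻¹ ∈ D.J := mul_mem hm (inv_mem hj)
  set ζ := (h * j * h⁻¹ * j⁻¹) ⁻¹ * r with hζ'
  have hζ : D.Zs ζ := D.vec_eq hw0 hrJ (by
    rw [D.vec_mul _ hm _ (inv_mem hj), D.vec_inv hj, ← D.T_vec hz hj, D.vec_lift, add_comm, ← hw])
  have hJinv : h * j⁻¹ * h ∈ D.J := by
    have := D.J_norm h hz _ (inv_mem hj)
    rwa [hinv] at this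
  set k1 := h * j⁻¹ * h * k0
  have k1I : D.In k1 := D.In_mul (D.J_In hJinv) k0I
  have hk1φ : D.φ k1 = x := by rw [D.φ_mul' (D.J_In hJinv) k0I, D.φ_J hJinv, one_mul, hk0]
  have hk1 : k1 * h * k1⁻¹ = ζ * h := by
    have hc0 : Commute (h * j * h⁻¹ * j⁻¹) ζ := D.Zs_comm hζ (D.J_In hw0)
    have hc1 : Commute (h * j⁻¹ * h) ζ := D.Zs_comm hζ (D.J_In hJinv)
    calc k1 * h * k1⁻¹ = h * j⁻¹ * h * (r * h) * (h * j⁻¹ * h)⁻¹ := by rw [hrh]; simp only [k1]; group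
      _ = h * j⁻¹ * h * (ζ * (h * j * h⁻¹ * j⁻¹) * h) * (h * j⁻¹ * h)⁻¹ := by
          rw [← hc0.eq]; simp only [hζ']; group
      _ = ζ * (h * j⁻¹ * h * (h * j * h⁻¹ * j⁻¹) * h * (h * j⁻¹ * h)⁻¹) := by
          rw [show h * j⁻¹ * h * (ζ * (h * j * h⁻¹ * j⁻¹) * h)
            = (h * j⁻¹ * h * ζ) * (h * j * h⁻¹ * j⁻¹) * h by group, hc1.eq]
          group
      _ = ζ * h := by
          rw [show h * j⁻¹ * h * (h * j * h⁻¹ * j⁻¹) = h * j⁻¹ * (h * h) * j * h⁻¹ * j⁻¹ by group, h2,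
            mul_inv_rev, mul_inv_rev, inv_inv, hinv]
          simp [mul_assoc, h2, show ∀ y, h * (h * y) = y from fun y => by rw [← mul_assoc, h2, one_mul]]
  have hc : Commute k1 ζ := D.Zs_comm hζ k1I
  have hζn : ∀ n : ℕ, k1 ^ n * h * (k1 ^ n)⁻¹ = ζ ^ n * h := by
    intro n
    induction n with
    | zero => simp
    | succ n ih =>
      rw [pow_succ' k1, show k1 * k1 ^ n * h * (k1 * k1 ^ n)⁻¹ = k1 * (k1 ^ n * h * (k1 ^ n)⁻¹) * k1⁻¹ by group,
        ih, show k1 * (ζ ^ n * h) * k1⁻¹ = (k1 * ζ ^ n) * h * k1⁻¹ by group, (hc.pow_right n).eq,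
        show ζ ^ n * k1 * h * k1⁻¹ = ζ ^ n * (k1 * h * k1⁻¹) by group, hk1, ← mul_assoc, ← pow_succ]
  obtain ⟨i, hi⟩ := hxo
  set n := orderOf x
  have hnJ : k1 ^ n ∈ D.J := by
    rw [← D.φ_ker _ (D.In_pow k1I n).1 (D.In_pow k1I n).2, D.φ_pow k1I, hk1φ, pow_orderOf_eq_one]
  have hζ1 : ζ ^ n = ζ := by rw [hi, pow_succ, pow_mul, pow_two, D.Zs_sq hζ, one_pow, one_mul]
  have e := hζn n
  rw [hζ1] at e
  refine ⟨(k1 ^ n)⁻¹ * k1, D.In_mul (D.In_inv (D.In_pow k1I n)) k1I, conj_fix.1 ?_, ?_⟩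
  · have hc2 : Commute (k1 ^ n) ζ := D.Zs_comm hζ (D.In_pow k1I n)
    calc (k1 ^ n)⁻¹ * k1 * h * ((k1 ^ n)⁻¹ * k1)⁻¹ = (k1 ^ n)⁻¹ * (k1 * h * k1⁻¹) * k1 ^ n := by group
      _ = (k1 ^ n)⁻¹ * (k1 ^ n * h * (k1 ^ n)⁻¹) * k1 ^ n := by rw [hk1, e]
      _ = h := by group
  · rw [D.φ_mul' (D.In_inv (D.In_pow k1I n)) k1I, D.φ_J (inv_mem hnJ), one_mul, hk1φ]

end Datum

end Cfsg.Agent.Fi23ByInvol
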