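/-
The branch with a Fischer group: the centraliser of `z * v i` modulo that involution is Fi22 (helper29).

* `quasisimple_fi22`  : a central extension of Fi22 inside the derived group is quasisimple;
* `Datum.exists_outer` : an outer element fixing a given central involution;
* `Datum.isoFi23`     : then the group is Fi23.
-/
import Cfsg.Agent.Lib.Fi23ByInvol.Datum
import Cfsg.Agent.Lib.TransCentFi23.Presented
import Cfsg.Agent.Lib.TransCentFi23.Model
import Cfsg.Agent.S1696

set_option autoImplicit false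

namespace Cfsg.Agent.Fi23ByInvol

open Subgroup Cfsg.Agent.U62Rec
open scoped commutatorElement

/-- A central extension of Fi22 by a subgroup of the derived group is quasisimple. -/
theorem quasisimple_fi22 {C : Type*} [Group C] [Finite C] {A : Subgroup C} [A.Normal]
    (hA : A ≤ Subgroup.center C) (hAC : A ≤ _root_.commutator C) (hiso : Cfsg.Spor.IsoFi22 (C ⧸ A)) :
    Cfsg.IsQuasisimple C := by
  obtain ⟨e⟩ := hiso
  have hsimp : IsSimpleGroup Cfsg.Spor.Fi22 := Cfsg.Agent.S1696.main.1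
  have hs : IsSimpleGroup (C ⧸ A) := e.isSimpleGroup
  have hcard : ¬ (Nat.card (C ⧸ A)).Prime := by
    rw [Nat.card_congr e.toEquiv,
      show Nat.card Cfsg.Spor.Fi22 = 64561751654400 from Cfsg.Agent.S1696.main.2]
    exact Nat.not_prime_of_dvd_of_lt (m := 2) (by norm_num) le_rfl (by norm_num)
  have hna : ¬ ∀ x y : C ⧸ A, x * y = y * x := fun h => by
    have : IsMulCommutative (C ⧸ A) := ⟨⟨h⟩⟩
    open scoped IsMulCommutative in exact hcard IsSimpleGroup.prime_card
  set π := QuotientGroup.mk' A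
  have hperf : _root_.commutator C = ⊤ := by
    have hn : ((_root_.commutator C).map π).Normal :=
      Subgroup.Normal.map inferInstance π (QuotientGroup.mk'_surjective A)
    rcases hn.eq_bot_or_eq_top with h | h
    · refine absurd (fun x y => ?_) hna
      obtain ⟨a, rfl⟩ := QuotientGroup.mk'_surjective A x
      obtain ⟨b, rfl⟩ := QuotientGroup.mk'_surjective A y
      have h1 : π ⁅a, b⁆ ∈ (_root_.commutator C).map π :=
        Subgroup.mem_map_of_mem π (Subgroup.commutator_mem_commutator (Subgroup.mem_top a) (Subgroup.mem_top b))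
      rw [h, Subgroup.mem_bot, map_commutatorElement, commutatorElement_eq_one_iff_mul_comm] at h1
      exact h1
    · have h2 := congrArg (Subgroup.comap π) h
      rwa [Subgroup.comap_map_eq, QuotientGroup.ker_mk', sup_eq_left.2 hAC, Subgroup.comap_top] at h2
  have hZ : Subgroup.center C = A := by
    refine le_antisymm ?_ hA
    have hn : ((Subgroup.center C).map π).Normal :=
      Subgroup.Normal.map inferInstance π (QuotientGroup.mk'_surjective A)
    rcases hn.eq_bot_or_eq_top with h | h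
    · intro x hx
      have := Subgroup.mem_map_of_mem π hx
      rw [h, Subgroup.mem_bot] at this
      exact (QuotientGroup.eq_one_iff x).1 this
    · refine absurd (fun x y => ?_) hna
      obtain ⟨a, ha, rfl⟩ : x ∈ (Subgroup.center C).map π := h ▸ Subgroup.mem_top x
      obtain ⟨b, rfl⟩ := QuotientGroup.mk'_surjective A y
      rw [← map_mul, ← map_mul, Subgroup.mem_center_iff.1 ha b]
  exact ⟨⟨hperf⟩, (QuotientGroup.quotientMulEquivOfEq hZ).isSimpleGroup⟩

namespace Datum

universe u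

variable {G : Type u} [Group G] {z : G} (D : Datum z)

theorem conj_c_z : D.c * z * D.c⁻¹ = z := by rw [D.c_z.eq, mul_inv_cancel_right]

/-- An outer element fixing a given central involution. -/
theorem exists_outer (i : Fin 3) : ∃ o, Commute o z ∧ Commute o (D.v i) ∧ ¬ D.In o := by
  have step : ∀ i : Fin 3, (∃ o, Commute o z ∧ Commute o (D.v i) ∧ ¬ D.In o) →
      ∃ o, Commute o z ∧ Commute o (D.v (i + 1)) ∧ ¬ D.In o := by
    rintro i ⟨o, hz, hi, ho⟩
    refine ⟨D.c * o * D.c⁻¹, (D.c_z.mul_left hz).mul_left D.c_z.inv_left, ?_, fun h => ho ⟨hz, fun n => ?_⟩⟩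
    · rw [← D.c_v i]
      exact commute_conj D.c hi
    · have h1 : Commute (D.c * o * D.c⁻¹) (D.c * D.v n * D.c⁻¹) := by rw [D.c_v n]; exact h.2 _
      exact conj_J_iff.1 h1
  obtain ⟨o, hz, h0, h1⟩ := D.outer
  have e0 : ∃ o, Commute o z ∧ Commute o (D.v 0) ∧ ¬ D.In o := ⟨o, hz, h0, fun h => h1 (h.2 1)⟩
  fin_cases i
  exacts [e0, step 0 e0, step 1 (step 0 e0)]

variable [Finite G]

/-- If the centraliser of `z * v i` covers Fi22 then the group is Fi23. -/
theorem isoFi23 (i : Fin 3)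
    [((Subgroup.zpowers (z * D.v i)).subgroupOf (Subgroup.centralizer ({z * D.v i} : Set G))).Normal]
    (e : Cfsg.Spor.IsoFi22 ((Subgroup.centralizer ({z * D.v i} : Set G)) ⧸
      (Subgroup.zpowers (z * D.v i)).subgroupOf (Subgroup.centralizer ({z * D.v i} : Set G)))) :
    Cfsg.Spor.IsoFi23 G := by
  set d := z * D.v i with hdef
  set C := Subgroup.centralizer ({d} : Set G) with hC
  have hzv : Commute z (D.v i) := (D.J_cent _ (D.v_mem i)).symm
  have hd2 : d * d = 1 := D.Zs_sq (Or.inr (Or.inr ⟨i, Or.inr rfl⟩))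
  have hd : orderOf d = 2 := orderOf_eq_prime_iff.2 ⟨by rw [pow_two]; exact hd2, fun e1 => D.v_z i (by
    rw [eq_inv_of_mul_eq_one_right e1, inv_eq_of_mul_eq_one_right D.z_sq])⟩
  have hmemC : ∀ x, Commute x z → Commute x (D.v i) → x ∈ C := fun x h1 h2 =>
    mem_centralizer_singleton_iff.2 (h1.mul_right h2).eq
  have hJC : ∀ j ∈ D.J, j ∈ C := fun j hj => hmemC j (D.J_cent j hj) (D.v_comm i j hj)
  -- `z` and `v i` lie in the derived group
  have hcom : ∀ x ∈ C, ∀ y ∈ C, ∀ h : ⁅x, y⁆ ∈ C, (⟨⁅x, y⁆, h⟩ : C) ∈ _root_.commutator C :=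
    fun x hx y hy h => by
      rw [show (⟨⁅x, y⁆, h⟩ : C) = ⁅(⟨x, hx⟩ : C), ⟨y, hy⟩⁆ from rfl]
      exact commutator_mem_commutator (mem_top _) (mem_top _)
  have hzC : z ∈ C := hJC z D.z_mem
  have hvC : D.v i ∈ C := hJC _ (D.v_mem i)
  have hz' : (⟨z, hzC⟩ : C) ∈ _root_.commutator C := by
    obtain ⟨x, y, -, -, hxy⟩ := B_ker_pair (0 : V4)
    have hne : B (D.vec (D.lift x)) (D.vec (D.lift y)) ≠ 0 := by rwa [D.vec_lift, D.vec_lift]
    set a := D.lift x
    set b := D.lift y
    have ha : a ∈ D.J := D.lift_mem x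
    have hb : b ∈ D.J := D.lift_mem y
    have hab := D.comm_ne a ha b hb hne
    have e1 : ⁅a⁻¹, b⁻¹⁆ = z := by
      calc ⁅a⁻¹, b⁻¹⁆ = a⁻¹ * b⁻¹ * (a * b) := by rw [commutatorElement_def]; group
        _ = z := by rw [hab]; group
    have h2 := hcom _ (hJC _ (inv_mem ha)) _ (hJC _ (inv_mem hb)) (by rw [e1]; exact hzC)
    simp only [e1] at h2
    exact h2
  have hv' : (⟨D.v i, hvC⟩ : C) ∈ _root_.commutator C := by
    obtain ⟨o, hoz, hoi, ho⟩ := D.exists_outer i
    obtain ⟨k, hki, hkm, -⟩ := fin3 i (i + 1) (fin3_next i i).1.symm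
    have hsw := D.swap hoz ho hki hkm (fin3_next i i).1.symm hoi
    have e1 : ⁅o, D.v (i + 1)⁆ = D.v i := by
      rw [commutatorElement_def, hsw, D.v_inv]
      exact D.v_third hki.symm (fin3_next i i).1.symm hkm
    have h2 := hcom _ (hmemC o hoz hoi) _ (hJC _ (D.v_mem (i + 1))) (by rw [e1]; exact hvC)
    simp only [e1] at h2
    exact h2
  have hq : Cfsg.IsQuasisimple C := by
    refine quasisimple_fi22 (fun x hx => ?_) (fun x hx => ?_) e
    · obtain ⟨n, hn⟩ := mem_zpowers_iff.1 (mem_subgroupOf.1 hx)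
      refine mem_center_iff.2 fun g => Subtype.ext ?_
      show (g : G) * x = x * g
      rw [← hn]
      exact ((show Commute (g : G) d from mem_centralizer_singleton_iff.1 g.2).zpow_right n).eq
    · obtain ⟨n, hn⟩ := mem_zpowers_iff.1 (mem_subgroupOf.1 hx)
      have hx' : x = (⟨z, hzC⟩ * ⟨D.v i, hvC⟩ : C) ^ n := Subtype.ext (by simp [← hn])
      rw [hx']
      exact zpow_mem (mul_mem hz' hv') n
  obtain ⟨B', _, _, DB, SB⟩ := TransCentFi23.model
  refine TransCentFi23.main_presented SB d hd hq e ⟨D.c, ?_, ?_⟩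
  all_goals rw [show D.c * d * D.c⁻¹ = z * D.v (i + 1) by
    rw [hdef, show D.c * (z * D.v i) * D.c⁻¹ = (D.c * z * D.c⁻¹) * (D.c * D.v i * D.c⁻¹) by group,
      D.conj_c_z, D.c_v]]
  · exact mul_mem hzC (hJC _ (D.v_mem (i + 1)))
  · exact fun h => (fin3_next i i).1 (D.v_inj (mul_left_cancel h))

end Datum

end Cfsg.Agent.Fi23ByInvol
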