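/-
Commuting conjugates of the involution: one of the three central involutions goes to one of them.

* `Pr D b a` : a conjugate in the centraliser with the images of the three central involutions;
* `Pr.inner` : when the images centralise the involution one of them is central in J;
* `Pr.outer` : the mixed case;
* `fusion` : the statement for conjugating elements.
-/
import Cfsg.Agent.Lib.Fi23ByInvol.Datum

set_option autoImplicit false
set_option linter.unusedSectionVars false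
set_option linter.constructorNameAsVariable false

namespace Cfsg.Agent.Fi23ByInvol

open Cfsg.Agent.ThreeTransSU Cfsg.Agent.U62Rec Cfsg.Agent.U62Cover

universe u

/-- Undoing a conjugation. -/
theorem conj_back {G : Type u} [Group G] {k x y : G} (e : k * x * k⁻¹ = y) : k⁻¹ * y * k⁻¹⁻¹ = x := by
  subst e; group

/-- The third of three commuting involutions with product one. -/
theorem mul_third {G : Type u} [Group G] {a : Fin 3 → G} (h2 : ∀ i, a i * a i = 1)
    (hc : ∀ i m, Commute (a i) (a m)) (hp : a 0 * a 1 * a 2 = 1) {i m k : Fin 3} (h1 : k ≠ i) (h3 : k ≠ m)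
    (h4 : i ≠ m) : a i * a m = a k := by
  have e2 : a 0 * a 1 = a 2 := by
    rw [← inv_eq_of_mul_eq_one_right (h2 2)]; exact eq_inv_of_mul_eq_one_left hp
  have e1 : a 0 * a 2 = a 1 := by rw [← e2, ← mul_assoc, h2, one_mul]
  have e0 : a 1 * a 2 = a 0 := by rw [← e2, (hc 0 1).eq, ← mul_assoc, h2, one_mul]
  fin_cases i <;> fin_cases m <;> fin_cases k <;> simp at h1 h3 h4 <;>
    first
      | exact e2
      | exact e1
      | exact e0
      | (rw [(hc _ _).eq]; first | exact e2 | exact e1 | exact e0)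

variable {G : Type u} [Group G] {z : G}

/-- A conjugate of `z` in the centraliser, with the images of the central involutions. -/
structure Pr (D : Datum z) (b : G) (a : Fin 3 → G) : Prop where
  bz : Commute b z
  b2 : b * b = 1
  bZ : ¬ D.Zs b
  a2 : ∀ i, a i * a i = 1
  aprod : a 0 * a 1 * a 2 = 1
  acomm : ∀ i m, Commute (a i) (a m)
  ainj : Function.Injective a
  ab : ∀ i, Commute (a i) b
  iso : ∀ i m, Commute m (b * a i) → Odd (orderOf (m * b * m⁻¹ * b⁻¹))
  vn : ∀ i k m, Commute m (a i) →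
    Odd (orderOf (m * a k * m⁻¹ * (a k)⁻¹)) ∨ Odd (orderOf (a i * (m * a k * m⁻¹ * (a k)⁻¹)))
  a'Z : ∀ i, ¬ D.Zs (b * a i)

namespace Pr

variable {D : Datum z} {b : G} {a : Fin 3 → G} (P : Pr D b a)
include P

theorem ba_sq (i : Fin 3) : b * a i * (b * a i) = 1 := by
  rw [mul_assoc, ← mul_assoc (a i), (P.ab i).eq, mul_assoc, P.a2, mul_one, P.b2]

theorem comm_ba {x : G} {i : Fin 3} (hb : Commute x b) (h : Commute x (b * a i)) : Commute x (a i) := by
  have := hb.mul_right h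
  rwa [← mul_assoc, P.b2, one_mul] at this

theorem In_ba {i : Fin 3} (hb : D.In b) (ha : D.In (a i)) : D.In (b * a i) := D.In_mul hb ha

/-- Elements of J centralising `b * a i` centralise `b`. -/
theorem CJ {i : Fin 3} {j : G} (hj : j ∈ D.J) (hc : Commute j (b * a i)) : Commute j b := by
  refine Datum.conj_fix.1 (mul_inv_eq_one.1 (D.odd_J ?_ (P.iso i j hc)))
  rw [show j * b * j⁻¹ * b⁻¹ = j * (b * j⁻¹ * b⁻¹) by group]
  exact mul_mem hj (D.J_norm b P.bz _ (inv_mem hj))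

/-- `b * a i` lies outside J when `a i` is not central. -/
theorem notMem {i : Fin 3} (ha : ¬ D.Zs (a i)) : b * a i ∉ D.J := fun hJ => by
  have hcv : ∀ n, Commute (D.v n) b := fun n =>
    P.CJ (i := i) (D.v_mem n) (D.v_comm n _ hJ).symm
  have hbI : D.In b := ⟨P.bz, fun n => (hcv n).symm⟩
  have hfix : ∀ x, B x (D.vec (b * a i)) = 0 → D.T b x = x := fun x hx => by
    have hc := D.comm_zero _ (D.lift_mem x) _ hJ (by rw [D.vec_lift]; exact hx)
    have := D.fix_of_comm P.bz (D.lift_mem x) (P.CJ (D.lift_mem x) hc)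
    rwa [D.vec_lift] at this
  have hbJ : b ∈ D.J := by
    refine D.mem_J_of_T hbI fun x => ?_
    obtain ⟨q, f, g, hfr⟩ := exists_frame_one std_pair.1
    have hT : ∀ e, act (D.φ b) e = e := fun e => by
      obtain ⟨c, hc, hcB⟩ := exists_scale (D.vec (b * a i)) e
      have h1 := hfix _ hcB
      rw [D.T_In hbI, act_smul] at h1
      exact smul_right_injective V4 hc h1
    rw [D.T_In hbI]
    exact hT x
  have hker : ∀ x, B x (D.vec (b * a i)) = 0 → B x (D.vec b) = 0 := fun x hx => by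
    have hc := D.comm_zero _ (D.lift_mem x) _ hJ (by rw [D.vec_lift]; exact hx)
    have := (D.B_iff (D.lift_mem x) hbJ).2 (P.CJ (D.lift_mem x) hc)
    rwa [D.vec_lift] at this
  rcases B_ker hker with e | e
  · exact P.bZ (D.Zs_of_vec hbJ e)
  · have := D.vec_eq hbJ hJ e
    rw [← mul_assoc, inv_mul_cancel, one_mul] at this
    exact ha this

/-- For a product of two transvections an odd element centralising it centralises `b`. -/
theorem two_kill {i : Fin 3} {p q : V4} (hI : D.In (b * a i)) (hpq : OrthPair p q)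
    (hφ : D.φ (b * a i) = t4 p * t4 q) {x : U4} {w : K} (hw : w ≠ 0) (xp : act x p = w • p)
    (xq : act x q = w ^ 2 • q) (hxo : Odd (orderOf x)) :
    ∃ k, D.In k ∧ Commute k (b * a i) ∧ D.φ k = x := by
  obtain ⟨f, g, hfr⟩ := U62Rec.exists_frame hpq
  obtain ⟨c1, c2⟩ := commute_diag hfr hw xp xq
  refine D.lift_exact hI.1 (P.ba_sq i) hxo (fun y => ?_) fun y hy => ?_
  · rw [D.T_In hI, D.T_In hI, hφ, ← act_mul, ← act_mul, (c1.mul_right c2).eq]
  · rw [D.T_In hI, hφ, fix_two hpq] at hy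
    refine ⟨hf y f • f + hf y g • g, ?_⟩
    rw [D.T_In hI, hφ]
    show y = R (t4 p * t4 q) _
    rw [R_two hpq]
    simp only [hl_sum, hfr.fp, hfr.fq, hfr.gp, hfr.gq, mul_one, mul_zero, add_zero, zero_add]
    conv_lhs => rw [hfr.expand y, hy.1, hy.2, zero_smul, zero_smul, add_zero, add_zero]

/-- An element of the centraliser commuting with the action of `b` and with `b * a i` commutes with `b`. -/
theorem comm_of_act {i : Fin 3} {k : G} (hk : D.In k) (hkc : Commute k (b * a i))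
    (hT : ∀ x, D.T b (act (D.φ k) x) = act (D.φ k) (D.T b x)) : Commute k b := by
  refine Datum.conj_fix.1 (mul_inv_eq_one.1 (D.odd_J ?_ (P.iso i k hkc)))
  have hbk : D.In (b * k⁻¹ * b⁻¹) := by
    refine ⟨(P.bz.mul_left hk.1.inv_left).mul_left P.bz.inv_left, fun n => ?_⟩
    obtain ⟨n', e⟩ := D.v_perm b⁻¹ P.bz.inv_left n
    have h3 := commute_conj b ((hk.2 n').inv_left)
    rwa [← e, show b * (b⁻¹ * D.v n * b⁻¹⁻¹) * b⁻¹ = D.v n by group] at h3
  have hI : D.In (k * b * k⁻¹ * b⁻¹) := by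
    rw [show k * b * k⁻¹ * b⁻¹ = k * (b * k⁻¹ * b⁻¹) by group]
    exact D.In_mul hk hbk
  refine D.mem_J_of_T hI fun x => ?_
  have hkk : ∀ y, act (D.φ k) (D.T k⁻¹ y) = y := fun y => by
    rw [← D.T_In hk, ← D.T_mul hk.1 hk.1.inv_left, mul_inv_cancel, D.T_one]
  rw [D.T_mul ((hk.1.mul_left P.bz).mul_left hk.1.inv_left) P.bz.inv_left,
    D.T_mul (hk.1.mul_left P.bz) hk.1.inv_left, D.T_mul hk.1 P.bz, D.T_In hk, ← hT, hkk,
    ← D.T_mul P.bz P.bz.inv_left, mul_inv_cancel, D.T_one]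

/-- The commutator of an element of J with one of the images. -/
theorem VNJ {i : Fin 3} {j : G} (hj : j ∈ D.J) (hi : Commute (a i) z) (hc : Commute j (a i)) (k : Fin 3)
    (hk : Commute (a k) z) :
    j * a k * j⁻¹ * (a k)⁻¹ = 1 ∨ j * a k * j⁻¹ * (a k)⁻¹ = a i := by
  set r := j * a k * j⁻¹ * (a k)⁻¹
  have hr : r ∈ D.J := by
    rw [show r = j * (a k * j⁻¹ * (a k)⁻¹) by simp only [r]; group]
    exact mul_mem hj (D.J_norm _ hk _ (inv_mem hj))
  rcases P.vn i k j hc with h | h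
  · exact Or.inl (D.odd_J hr h)
  · refine Or.inr ?_
    have h2 : a i * r * (a i * r) ∈ D.J := by
      have hinv : (a i)⁻¹ = a i := inv_eq_of_mul_eq_one_right (P.a2 i)
      rw [← mul_assoc, show a i * r * a i = a i * r * (a i)⁻¹ by rw [hinv]]
      exact mul_mem (D.J_norm _ hi _ hr) hr
    have e := D.odd_sq h2 h
    rw [← inv_eq_of_mul_eq_one_right e]
    exact inv_eq_of_mul_eq_one_right (P.a2 i)

/-- Two images in J. -/
theorem two_in_J (hz : ∀ n, Commute (a n) z) {i m k : Fin 3} (h1 : k ≠ i) (h2 : k ≠ m) (h3 : i ≠ m)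
    (hi : a i ∈ D.J) (hm : a m ∈ D.J) : D.Zs (a i) ∨ D.Zs (a m) ∨ D.Zs (a k) := by
  by_contra! hne
  have hker : ∀ x, B x (D.vec (a i)) = 0 → B x (D.vec (a m)) = 0 := fun x hx => by
    have hj := D.lift_mem x
    have hc := D.comm_zero _ hj _ hi (by rw [D.vec_lift]; exact hx)
    by_contra hne'
    have e := D.comm_ne _ hj _ hm (by rw [D.vec_lift]; exact hne')
    have e' : D.lift x * a m * (D.lift x)⁻¹ * (a m)⁻¹ = z := by
      rw [e, mul_assoc (a m * D.lift x), ← (D.J_cent _ (inv_mem hj)).eq, ← mul_assoc, mul_inv_cancel_right,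
        (D.J_cent _ hm).eq, mul_inv_cancel_right]
    rcases P.VNJ hj (hz i) hc m (hz m) with h | h
    · exact D.z_ne (e'.symm.trans h)
    · exact hne.1 (Or.inr (Or.inl (h.symm.trans e')))
  have hk : a k = a i * a m := (mul_third P.a2 P.acomm P.aprod h1 h2 h3).symm
  rcases B_ker hker with e | e
  · exact hne.2.1 (D.Zs_of_vec hm e)
  · refine hne.2.2 (D.Zs_of_vec (hk ▸ mul_mem hi hm) ?_)
    rw [hk, D.vec_mul _ hi _ hm, e, vv]

/-- Exactly one image in J. -/
theorem one_in_J (hz : ∀ n, Commute (a n) z) {i m : Fin 3} (h3 : i ≠ m) (hZ : ∀ n, ¬ D.Zs (a n))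
    (hi : a i ∈ D.J) (hm : a m ∉ D.J) : False := by
  have hrel : ∀ x, B x (D.vec (a i)) = 0 → x + D.T (a m) x = 0 ∨ x + D.T (a m) x = D.vec (a i) := by
    intro x hx
    have hj := D.lift_mem x
    have hc := D.comm_zero _ hj _ hi (by rw [D.vec_lift]; exact hx)
    have hmem : a m * (D.lift x)⁻¹ * (a m)⁻¹ ∈ D.J := D.J_norm _ (hz m) _ (inv_mem hj)
    have e : D.vec (D.lift x * a m * (D.lift x)⁻¹ * (a m)⁻¹) = x + D.T (a m) x := by
      rw [show D.lift x * a m * (D.lift x)⁻¹ * (a m)⁻¹ = D.lift x * (a m * (D.lift x)⁻¹ * (a m)⁻¹) by group,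
        D.vec_mul _ hj _ hmem, ← D.T_vec (hz m) (inv_mem hj), D.vec_inv hj, D.vec_lift]
    rcases P.VNJ hj (hz i) hc m (hz m) with h | h <;> rw [h] at e
    · exact Or.inl (e.symm.trans D.vec_one)
    · exact Or.inr e.symm
  have hmI : D.In (a m) := by
    by_contra ho
    exact (D.T_semi (hz m) ho (P.a2 m)).small hrel
  have hiI := D.J_In hi
  have hne : D.φ (a m) ≠ 1 := fun e => hm ((D.φ_ker _ hmI.1 hmI.2).1 e)
  rcases invol_cases (D.φ_sq hmI (P.a2 m)) hne with ⟨q, hq, hφm⟩ | ⟨p, q, hpq, hφm⟩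
  swap
  · refine two_small hpq (a := D.vec (a i)) fun x hx => ?_
    have := hrel x hx
    rwa [D.T_In hmI, hφm] at this
  obtain ⟨μ, hμ⟩ := tv_small hq (a := D.vec (a i)) fun x hx => by
    have := hrel x hx
    rwa [D.T_In hmI, hφm] at this
  have hμ0 : μ ≠ 0 := fun e => hZ i (D.Zs_of_vec hi (by rw [hμ, e, zero_smul]))
  have hfixed : ∀ {k : G}, D.In k → Commute k (a i) → (∀ v, act (D.φ k) v = v → v = 0) → False :=
    fun {k} hk hc hfpf => hZ i (D.Zs_of_vec hi (hfpf _ (by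
      rw [← D.T_In hk]; exact D.fix_of_comm hk.1 hi hc.symm)))
  by_cases hb : D.In b
  · have hiI' := P.In_ba hb hiI
    have hmI' := P.In_ba hb hmI
    have e1 : D.φ (b * a i) = D.φ b := by rw [D.φ_mul' hb hiI, D.φ_J hi, mul_one]
    have e2 : D.φ (b * a m) = D.φ b * t4 q := by rw [D.φ_mul' hb hmI, hφm]
    have hbne : D.φ b ≠ 1 := fun e =>
      P.notMem (hZ i) ((D.φ_ker _ hiI'.1 hiI'.2).1 (e1.trans e))
    rcases invol_cases (D.φ_sq hb P.b2) hbne with ⟨p, hp, hφb⟩ | ⟨p, r, hpr, hφb⟩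
    · have hcomm : t4 p * t4 q = t4 q * t4 p := by
        rw [← hφb, ← hφm, ← D.φ_mul' hb hmI, ← D.φ_mul' hmI hb, (P.ab m).eq]
      have horth : hf q p = 0 := (tv_comm_iff cardK hp hq).1 hcomm
      have hpq : OrthPair p q := by
        refine ⟨hp, hq, hs0 horth, fun c e => ?_⟩
        have hc : c ≠ 0 := fun e' => hq.1 (by rw [e, e', zero_smul])
        refine P.notMem (hZ m) ((D.φ_ker _ hmI'.1 hmI'.2).1 ?_)
        rw [e2, hφb, e, show t4 (c • p) = t4 p from tv_smul cardK hp hc, tv_sq cardK hp.2]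
      obtain ⟨f, g, hfr⟩ := U62Rec.exists_frame hpq
      obtain ⟨x, w, w0, w1, xp, xq, xo⟩ := exists_diag_odd hfr
      obtain ⟨k, hk, hkc, hkx⟩ := P.two_kill hmI' hpq (by rw [e2, hφb]) w0 xp xq xo
      have hkb : Commute k b := P.comm_of_act hk hkc fun y => by
        rw [D.T_In hb, D.T_In hb, hkx, hφb, ← act_mul, ← act_mul, (commute_diag hfr w0 xp xq).1.eq]
      have hka : Commute k (a m) := P.comm_ba hkb hkc
      refine hfixed hk ?_ fun v hv => diag_fpf hfr w0 w1 xp xq (hkx ▸ hv)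
      have hr : k * a i * k⁻¹ * (a i)⁻¹ ∈ D.J :=
        mul_mem (D.J_norm k hk.1 _ hi) (inv_mem hi)
      rcases P.vn m i k hka with h | h
      · exact Datum.conj_fix.1 (mul_inv_eq_one.1 (D.odd_J hr h))
      · exfalso
        set r := k * a i * k⁻¹ * (a i)⁻¹
        have h2 : a m * r * (a m * r) ∈ D.J := by
          have hinv : (a m)⁻¹ = a m := inv_eq_of_mul_eq_one_right (P.a2 m)
          rw [← mul_assoc, show a m * r * a m = a m * r * (a m)⁻¹ by rw [hinv]]
          exact mul_mem (D.J_norm _ (hz m) _ hr) hr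
        have e := D.odd_sq h2 h
        refine hm ?_
        rw [eq_inv_of_mul_eq_one_left e]
        exact inv_mem hr
    · obtain ⟨f, g, hfr⟩ := U62Rec.exists_frame hpr
      obtain ⟨x, w, w0, w1, xp, xq, xo⟩ := exists_diag_odd hfr
      obtain ⟨k, hk, hkc, hkx⟩ := P.two_kill hiI' hpr (e1.trans hφb) w0 xp xq xo
      have hkb : Commute k b := P.comm_of_act hk hkc fun y => by
        have := commute_diag hfr w0 xp xq
        rw [D.T_In hb, D.T_In hb, hkx, hφb, ← act_mul, ← act_mul, (this.1.mul_right this.2).eq]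
      exact hfixed hk (P.comm_ba hkb hkc) fun v hv => diag_fpf hfr w0 w1 xp xq (hkx ▸ hv)
  · -- `b` is outer
    have S := D.T_semi P.bz hb P.b2
    set σ := D.T b
    have hTt : ∀ x, σ (act (t4 q) x) = act (t4 q) (σ x) := fun x => by
      show D.T b (act (t4 q) x) = act (t4 q) (D.T b x)
      rw [← hφm, ← D.T_In hmI, ← D.T_In hmI, ← D.T_mul P.bz (hz m), ← D.T_mul (hz m) P.bz, (P.ab m).eq]
    -- the centre can be chosen fixed
    have hline : ∃ ν : K, ν ≠ 0 ∧ σ q = ν • q := by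
      obtain ⟨x, hx⟩ := exists_hf_one cardK hq.1
      have h := hTt x
      rw [act_tv cardK hq.2, act_tv cardK hq.2, hx, one_smul, S.add] at h
      refine ⟨hf (σ x) q, fun e => ?_, add_left_cancel h⟩
      rw [e, zero_smul] at h
      have := congrArg σ (add_left_cancel h)
      rw [S.invol, S.zero] at this
      exact hq.1 this
    obtain ⟨ν, hν, hσq⟩ := hline
    set q' := ν⁻¹ • q
    have hq' : σ q' = q' := by
      rw [S.smul, hσq, smul_smul]
      congr 1
      have hk : ∀ c : K, c ≠ 0 → c⁻¹ ^ 2 * c = c⁻¹ := fun c hc => by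
        rw [pow_two, mul_assoc, inv_mul_cancel₀ hc, mul_one]
      exact hk ν hν
    have hqi : Iso q' := hq.smul cardK (inv_ne_zero hν)
    have htq : t4 q' = t4 q := tv_smul cardK hq (inv_ne_zero hν)
    have hbai : ∀ x, D.T (b * a i) x = σ x := fun x => by rw [D.T_mul P.bz (hz i), D.T_J hi]
    have hbam : ∀ x, D.T (b * a m) x = σ (act (t4 q') x) := fun x => by
      rw [D.T_mul P.bz (hz m), D.T_In hmI, hφm, htq]
    have hbo : ∀ {k}, D.In (a k) → ¬ D.In (b * a k) := fun {k} hk h => hb (by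
      have := D.In_mul h (D.In_inv hk)
      rwa [mul_inv_cancel_right] at this)
    have one : ∀ f, σ f = f → hf f q' = 1 → hf f f = 0 := fun f hf1 hfq => by
      by_contra hne
      set w := f + om • q'
      have hw : D.T (b * a m) w = w := by
        rw [hbam, act_tv cardK hqi.2, hl, sl, hfq, hqi.2, mul_zero, add_zero, one_smul, S.add, S.add, hf1,
          S.smul, hq', add_assoc]
        congr 1
        have hk : om ^ 2 + 1 = om := by decide +kernel
        conv_rhs => rw [← hk, add_smul, one_smul]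
      have hw0 : hf w w = 0 := by
        simp only [w, hl, hr, sl, sr, hfq, hs1 hfq, hqi.2, mul_zero, mul_one, add_zero]
        rw [(k_cases _ (S.real hf1 hf1)).resolve_left hne]
        linear_combination k_om.2.2.2 + k_two
      obtain ⟨j, hj, hjc, hjv⟩ := D.lift_sing (P.bz.mul_left (hz m)) (hbo hmI) (P.ba_sq m) hw hw0
      have hfix := D.fix_of_comm (hz m) hj (P.comm_ba (P.CJ hj hjc) hjc)
      rw [D.T_In hmI, hφm, hjv, ← htq, fix_one hqi] at hfix
      simp only [w, hl, sl, hfq, hqi.2, mul_zero, add_zero] at hfix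
      exact one_ne_zero hfix
    obtain ⟨x, hx⟩ := exists_hf_one cardK hqi.1
    set f0 := om • x + σ (om • x)
    have hf0 : σ f0 = f0 := S.fix_R _
    have hf0q : hf f0 q' = 1 := by
      have h2 : hf (σ (om • x)) q' = om ^ 2 := by
        conv_lhs => rw [← hq', S.herm, sl, hx, mul_one]
      rw [hl, sl, hx, mul_one, h2]
      exact k_om.2.2.2
    have hsing : ∀ w, σ w = w → hf w w = 0 := fun w hw => by
      rcases k_cases _ (S.real hw hq') with e | e
      · have h1 := one (w + f0) (S.fix_add hw hf0) (by rw [hl, e, hf0q, zero_add])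
        rwa [S.q_add hw hf0, one f0 hf0 hf0q, add_zero] at h1
      · exact one w hw e
    obtain ⟨p, f, g, hfr, hp, hf', hg⟩ := S.exists_frame hqi.1 hq' hsing
    obtain ⟨x, xp, xf, xq, xg, x3, xfpf⟩ := rot_spec hfr
    have hcx : ∀ y, σ (act x y) = act x (σ y) := fun y => by
      rw [hfr.expand y]
      simp only [act_add, act_smul, S.add, S.smul, xp, xf, xq, xg, hp, hq', hf', hg]
    have hbiz : Commute (b * a i) z := P.bz.mul_left (hz i)
    obtain ⟨k, hk, hkc, hkx⟩ := D.lift_exact hbiz (P.ba_sq i) (x := x) (by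
      have hd : orderOf x ∣ 3 := orderOf_dvd_of_pow_eq_one x3
      rcases (Nat.dvd_prime Nat.prime_three).1 hd with e | e <;> rw [e] <;> decide) (fun y => by
        rw [hbai, hbai, hcx]) fun y hy => ⟨om • y, by
          rw [hbai] at hy ⊢
          rw [S.smul, hy, ← add_smul, k_om.2.2.2, one_smul]⟩
    have hkb : Commute k b := P.comm_of_act hk hkc fun y => by rw [hkx]; exact hcx y
    exact hfixed hk (P.comm_ba hkb hkc) fun v hv => xfpf v (hkx ▸ hv)

/-- No image in J. -/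
theorem none_in_J (hz : ∀ n, Commute (a n) z) (hJ : ∀ n, a n ∉ D.J) (hZ : ∀ n, ¬ D.Zs (a n)) : False := by
  -- equal centralisers in J
  have heq : ∀ i m, ∀ j ∈ D.J, Commute j (a i) → Commute j (a m) := fun i m j hj hc => by
    rcases P.VNJ hj (hz i) hc m (hz m) with h | h
    · exact Datum.conj_fix.1 (mul_inv_eq_one.1 h)
    · refine absurd ?_ (hJ i)
      rw [← h, show j * a m * j⁻¹ * (a m)⁻¹ = j * (a m * j⁻¹ * (a m)⁻¹) by group]
      exact mul_mem hj (D.J_norm _ (hz m) _ (inv_mem hj))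
  -- all inner
  have hI : ∀ n, D.In (a n) := by
    by_contra hall
    push Not at hall
    obtain ⟨n, hn⟩ := hall
    obtain ⟨m, hm⟩ : ∃ m : Fin 3, m ≠ n := ⟨n + 1, (fin3_next n n).1⟩
    obtain ⟨o, o1, o2, -⟩ := fin3 n m (Ne.symm hm)
    have hout : ∀ l, ¬ D.In (a l) := fun l h => hn ⟨hz n, fun s =>
      (heq l n _ (D.v_mem s) (h.2 s).symm).symm⟩
    obtain ⟨s, hs⟩ := D.exists_fix (hz m) (P.a2 m)
    have := (D.outer_pair (hz n) (hz m) (P.a2 n) hn (hout m) (P.acomm n m) hs).2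
    rw [mul_third P.a2 P.acomm P.aprod o1 o2 (Ne.symm hm)] at this
    exact hout o this
  have hne : ∀ n, D.φ (a n) ≠ 1 := fun n e => hJ n ((D.φ_ker _ (hI n).1 (hI n).2).1 e)
  have hfixJ : ∀ {i} (m : Fin 3) {j}, j ∈ D.J → Commute j (a i) → act (D.φ (a m)) (D.vec j) = D.vec j :=
    fun {i} m {j} hj hc => by rw [← D.T_In (hI m)]; exact D.fix_of_comm (hz m) hj (heq i m j hj hc)
  -- no transvection
  have hnt : ∀ i p, Iso p → D.φ (a i) ≠ t4 p := by
    intro i p hp hφ
    obtain ⟨q, f, g, hfr⟩ := exists_frame_one hp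
    have key : ∀ m, D.φ (a m) = t4 p := fun m => by
      have hfix : ∀ e, hf e p = 0 → act (D.φ (a m)) e = e := fun e he => by
        obtain ⟨c, hc, j, hj, hjc, hjv⟩ := D.tv_lines hfr (hI i) (P.a2 i) hφ he
        have h1 := hfixJ m hj hjc
        rw [hjv, act_smul] at h1
        exact smul_right_injective V4 hc h1
      exact (eq_of_fix_three hfr (hfix p hfr.pp) (hfix q hfr.qp) (hfix g hfr.gp)).resolve_left (hne m)
    have h1 := D.φ_mul' (hI 0) (hI 1)
    rw [mul_third P.a2 P.acomm P.aprod (show (2 : Fin 3) ≠ 0 by decide) (by decide) (by decide),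
      key 2, key 1, key 0, tv_sq cardK hp.2] at h1
    exact tv_ne_one cardK hp h1
  obtain ⟨p, q, hpq, hφ⟩ : ∃ p q, OrthPair p q ∧ D.φ (a 0) = t4 p * t4 q :=
    (invol_cases (D.φ_sq (hI 0) (P.a2 0)) (hne 0)).resolve_left fun ⟨p, hp, e⟩ => hnt 0 p hp e
  by_cases hb : D.In b
  · have hI' := P.In_ba hb (hI 0)
    have hbe : D.φ b = D.φ (b * a 0) * D.φ (a 0) := by
      rw [← D.φ_mul' hI' (hI 0), mul_assoc, P.a2, mul_one]
    have h0 : D.φ (a 0) = D.φ b * D.φ (b * a 0) := by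
      rw [D.φ_mul' hb (hI 0), ← mul_assoc, D.φ_sq hb P.b2, one_mul]
    have hfix : ∀ {j}, j ∈ D.J → Commute j (b * a 0) → act (D.φ b) (D.vec j) = D.vec j ∧
        act (D.φ (a 0)) (D.vec j) = D.vec j := fun {j} hj hc => by
      refine ⟨?_, hfixJ 0 hj (P.comm_ba (P.CJ hj hc) hc)⟩
      rw [← D.T_In hb]; exact D.fix_of_comm P.bz hj (P.CJ hj hc)
    have hne' : D.φ (b * a 0) ≠ 1 := fun e => P.notMem (hZ 0) ((D.φ_ker _ hI'.1 hI'.2).1 e)
    rcases invol_cases (D.φ_sq hI' (P.ba_sq 0)) hne' with ⟨r, hr, e⟩ | ⟨r, s, hrs, e⟩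
    · obtain ⟨q', f', g', hfr⟩ := exists_frame_one hr
      have hfix' : ∀ v, hf v r = 0 → act (D.φ (a 0)) v = v := fun v hv => by
        obtain ⟨c, hc, j, hj, hjc, hjv⟩ := D.tv_lines hfr hI' (P.ba_sq 0) e hv
        have h1 := (hfix hj hjc).2
        rw [hjv, act_smul] at h1
        exact smul_right_injective V4 hc h1
      rcases eq_of_fix_three hfr (hfix' r hfr.pp) (hfix' q' hfr.qp) (hfix' g' hfr.gp) with h | h
      · exact hne 0 h
      · exact hnt 0 r hr h
    · obtain ⟨f', g', hfr⟩ := U62Rec.exists_frame hrs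
      have hfix' : ∀ α β : K, act (D.φ b) (α • r + β • s) = α • r + β • s := fun α β => by
        obtain ⟨j, hj, hjc, hjv⟩ := D.lift_two hI' (P.ba_sq 0) hrs e α β
        rw [← hjv]; exact (hfix hj hjc).1
      have hbr : act (D.φ b) r = r := by simpa using hfix' 1 0
      have hbs : act (D.φ b) s = s := by simpa using hfix' 0 1
      obtain ⟨x, w, w0, w1, xr, xs, xo⟩ := exists_diag_odd hfr
      obtain ⟨k, hk, hkc, hkx⟩ := P.two_kill hI' hrs e w0 xr xs xo
      -- the commutator with `b` fixes the two centres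
      have hbk : D.In (k * b * k⁻¹ * b⁻¹) :=
        D.In_mul (D.In_mul (D.In_mul hk hb) (D.In_inv hk)) (D.In_inv hb)
      have hodd := P.iso 0 k hkc
      have hxb : Commute x (D.φ b) := by
        set u := D.φ (k * b * k⁻¹ * b⁻¹)
        have hu : u = x * D.φ b * x⁻¹ * (D.φ b)⁻¹ := by
          rw [eq_mul_inv_iff_mul_eq, eq_mul_inv_iff_mul_eq, ← hkx, ← D.φ_mul' hbk hb,
            ← D.φ_mul' (D.In_mul hbk hb) hk, ← D.φ_mul' hk hb]
          congr 1; group
        have hbi : ∀ v, act (D.φ b) v = v → act (D.φ b)⁻¹ v = v := fun v hv => by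
          conv_lhs => rw [← hv, act_inv_act]
        have hxi : ∀ (c : K) v, c ≠ 0 → act x v = c • v → act x⁻¹ v = c⁻¹ • v := fun c v hc hv => by
          conv_lhs => rw [← one_smul K v, ← inv_mul_cancel₀ hc, ← smul_smul, ← hv, act_smul, act_inv_act]
        have hfu : ∀ v (c : K), c ≠ 0 → act x v = c • v → act (D.φ b) v = v → act u v = v := fun v c hc hv hv' => by
          rw [hu, act_mul, hbi v hv', act_mul, hxi c v hc hv, act_smul, act_mul, hv', hv, smul_smul,
            inv_mul_cancel₀ hc, one_smul]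
        have hu2 := sq_of_fix_two hfr (hfu r w w0 xr hbr) (hfu s (w ^ 2) (pow_ne_zero 2 w0) xs hbs)
        have hord : orderOf u ∣ orderOf (k * b * k⁻¹ * b⁻¹) :=
          orderOf_dvd_of_pow_eq_one (by rw [← D.φ_pow hbk, pow_orderOf_eq_one, D.φ_one])
        have hu1 : u = 1 := Datum.odd_eq_one (n := 1) (by rw [pow_one, pow_two, hu2]) (hodd.of_dvd_nat hord)
        rw [hu1, eq_comm, mul_inv_eq_one, mul_inv_eq_iff_eq_mul] at hu
        exact hu
      rcases eq_of_fix_two hfr w0 w1 xr xs hbr hbs hxb.symm with h | h | h | h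
      · have hbJ := (D.φ_ker b hb.1 hb.2).1 h
        have hkb : Commute k b := P.comm_of_act hk hkc fun y => by
          rw [D.T_In hb, D.T_In hb, h, act_one, act_one]
        refine P.bZ (D.Zs_of_vec hbJ (diag_fpf hfr w0 w1 xr xs ?_))
        rw [← hkx, ← D.T_In hk]; exact D.fix_of_comm hk.1 hbJ hkb.symm
      · refine hnt 0 s hrs.2.1 ?_
        rw [h0, h, e, ← mul_assoc, tv_sq cardK hrs.1.2, one_mul]
      · refine hnt 0 r hrs.1 ?_
        rw [h0, h, e, ← mul_assoc, tv_comm cardK hrs.2.1.2 hrs.1.2 hrs.2.2.1, mul_assoc,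
          tv_sq cardK hrs.2.1.2, mul_one]
      · exact hne 0 (by rw [h0, h, ← e, D.φ_sq hI' (P.ba_sq 0)])
  · have ho : ¬ D.In (b * a 0) := fun h => hb (by
      have := D.In_mul h (D.In_inv (hI 0))
      rwa [mul_inv_cancel_right] at this)
    refine (D.T_semi (P.bz.mul_left (hz 0)) ho (P.ba_sq 0)).sing_not_two hpq fun w hw hw0 => ?_
    obtain ⟨j, hj, hjc, rfl⟩ := D.lift_sing (P.bz.mul_left (hz 0)) ho (P.ba_sq 0) hw hw0
    have h1 := hfixJ 0 hj (P.comm_ba (P.CJ hj hjc) hjc)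
    rwa [hφ, fix_two hpq] at h1

/-- When all images centralise `z`, one of them is central in J. -/
theorem inner (hz : ∀ n, Commute (a n) z) : ∃ n, D.Zs (a n) := by
  by_contra! hZ
  by_cases h : ∃ i, a i ∈ D.J
  · obtain ⟨i, hi⟩ := h
    obtain ⟨m, hm⟩ : ∃ m : Fin 3, m ≠ i := ⟨i + 1, (fin3_next i i).1⟩
    obtain ⟨k, k1, k2, -⟩ := fin3 i m (Ne.symm hm)
    by_cases hmJ : a m ∈ D.J
    · rcases P.two_in_J hz k1 k2 (Ne.symm hm) hi hmJ with e | e | e
      exacts [hZ _ e, hZ _ e, hZ _ e]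
    · exact P.one_in_J hz (Ne.symm hm) hZ hi hmJ
  · push Not at h
    exact P.none_in_J hz h hZ

/-- The mixed case. -/
theorem outer {i : Fin 3} (hiz : Commute (a i) z) (hb : ¬ D.In b) (hZ : ¬ D.Zs (a i))
    (hV : (∀ m, Commute m (a i) → Odd (orderOf (m * b * m⁻¹ * b⁻¹))) ∨
      (∀ n m, Commute m (a i) → ∃ l, m * a n * m⁻¹ = a l)) : ∀ n, Commute (a n) z := by
  have hbz : Commute (b * a i) z := P.bz.mul_left hiz
  by_cases ha : D.In (a i)
  swap
  · exfalso
    obtain ⟨s, hs⟩ := D.exists_fix hiz (P.a2 i)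
    have hI := (D.outer_pair P.bz hiz P.b2 hb ha (P.ab i).symm hs).2
    exact hb ⟨P.bz, fun n => (P.CJ (i := i) (D.v_mem n) (hI.2 n).symm).symm⟩
  have ho : ¬ D.In (b * a i) := fun h => hb (by
    have := D.In_mul h (D.In_inv ha)
    rwa [mul_inv_cancel_right] at this)
  rcases hV with hV | hV
  · exfalso
    refine hb ⟨P.bz, fun n => (Datum.conj_fix.1 (mul_inv_eq_one.1 (D.odd_J ?_ (hV _ (ha.2 n).symm)))).symm⟩
    rw [show D.v n * b * (D.v n)⁻¹ * b⁻¹ = D.v n * (b * (D.v n)⁻¹ * b⁻¹) by group]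
    exact mul_mem (D.v_mem n) (D.J_norm b P.bz _ (inv_mem (D.v_mem n)))
  obtain ⟨x, y, hxJ, hyJ, hx, hy, hxy⟩ :
      ∃ x y, x ∈ D.J ∧ y ∈ D.J ∧ Commute x (a i) ∧ Commute y (a i) ∧ x * y = y * x * z := by
    by_cases haJ : a i ∈ D.J
    · exact D.J_pair haJ
    rcases invol_cases (D.φ_sq ha (P.a2 i)) (fun e => haJ ((D.φ_ker _ ha.1 ha.2).1 e))
      with ⟨p, hp, e⟩ | ⟨p, q, hpq, e⟩
    · obtain ⟨q, f, g, hfr⟩ := exists_frame_one hp
      exact D.tv_pair hfr ha (P.a2 i) e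
    · exfalso
      refine (D.T_semi hbz ho (P.ba_sq i)).sing_not_two hpq fun w hw hw0 => ?_
      obtain ⟨j, hj, hjc, rfl⟩ := D.lift_sing hbz ho (P.ba_sq i) hw hw0
      have h1 := D.fix_of_comm hiz hj (P.comm_ba (P.CJ hj hjc) hjc)
      rwa [D.T_In ha, e, fix_two hpq] at h1
  intro n
  by_cases hni : n = i
  · exact hni ▸ hiz
  obtain ⟨o, o1, o2, hall⟩ := fin3 i n (Ne.symm hni)
  -- each of x, y fixes or exchanges the other two
  have hperm : ∀ m, Commute m (a i) →
      (m * a n * m⁻¹ = a n ∧ m * a o * m⁻¹ = a o) ∨ (m * a n * m⁻¹ = a o ∧ m * a o * m⁻¹ = a n) := by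
    intro m hm
    have hnot : ∀ s, s ≠ i → m * a s * m⁻¹ ≠ a i := fun s hs e => hs (P.ainj
      ((MulAut.conj m).injective (e.trans (Datum.conj_fix.2 hm).symm)))
    have hsum : m * a o * m⁻¹ = a i * (m * a n * m⁻¹) := by
      rw [← mul_third P.a2 P.acomm P.aprod o1 o2 (Ne.symm hni)]
      conv_rhs => rw [← Datum.conj_fix.2 hm]
      group
    obtain ⟨l, hl'⟩ := hV n m hm
    rcases hall l with rfl | rfl | rfl
    · exact absurd hl' (hnot n hni)
    · exact Or.inl ⟨hl', by rw [hsum, hl', mul_third P.a2 P.acomm P.aprod o1 o2 (Ne.symm hni)]⟩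
    · exact Or.inr ⟨hl', by rw [hsum, hl', mul_third P.a2 P.acomm P.aprod hni (Ne.symm o2) (Ne.symm o1)]⟩
  have e : x * y * a n * (x * y)⁻¹ = y * x * a n * (y * x)⁻¹ := by
    rw [show x * y * a n * (x * y)⁻¹ = x * (y * a n * y⁻¹) * x⁻¹ by group,
      show y * x * a n * (y * x)⁻¹ = y * (x * a n * x⁻¹) * y⁻¹ by group]
    rcases hperm x hx with ⟨x1, x2⟩ | ⟨x1, x2⟩ <;> rcases hperm y hy with ⟨y1, y2⟩ | ⟨y1, y2⟩ <;>
      simp only [x1, x2, y1, y2]
  rw [hxy] at e
  exact (Datum.conj_fix.1 ((MulAut.conj (y * x)).injective (by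
    simp only [MulAut.conj_apply]
    rw [← e]; group))).symm

end Pr

/-- An element fixes the coset of an isolated central involution. -/
def IsoAt (z u : G) : Prop := ∀ m, Commute m u → Odd (orderOf (m * z * m⁻¹ * z⁻¹))

/-- The hypotheses on centralisers of the central involutions. -/
structure Hyps (D : Datum z) : Prop where
  isoD : ∀ i, IsoAt z (z * D.v i)
  vd : ∀ i j g, g * D.v i * g⁻¹ ≠ z * D.v j
  zc : ∀ i g, g * z * g⁻¹ ≠ D.v i ∧ g * z * g⁻¹ ≠ z * D.v i
  vn : ∀ i k m, Commute m (D.v i) → Odd (orderOf (m * D.v k * m⁻¹ * (D.v k)⁻¹)) ∨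
    Odd (orderOf (D.v i * (m * D.v k * m⁻¹ * (D.v k)⁻¹)))
  hv : (∀ i, IsoAt z (D.v i)) ∨ ∀ i k m, Commute m (D.v i) → ∃ l, m * D.v k * m⁻¹ = D.v l

namespace Hyps

variable {D : Datum z}

theorem eq_of_iso {u g : G} (H : IsoAt z u) (hg : Commute g u) (hc : Commute (g * z * g⁻¹) z) (D : Datum z) :
    g * z * g⁻¹ = z := by
  have hi : z⁻¹ = z := inv_eq_of_mul_eq_one_right D.z_sq
  refine mul_inv_eq_one.1 (Datum.odd_eq_one (n := 1) ?_ (H g hg))
  have h1 : g * z * g⁻¹ * (g * z * g⁻¹) = 1 := by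
    rw [show g * z * g⁻¹ * (g * z * g⁻¹) = g * (z * z) * g⁻¹ by group, D.z_sq]; group
  rw [pow_one, pow_two, hi, show g * z * g⁻¹ * z * (g * z * g⁻¹ * z) = g * z * g⁻¹ * (z * (g * z * g⁻¹)) * z by group,
    ← hc.eq, show g * z * g⁻¹ * (g * z * g⁻¹ * z) * z = g * z * g⁻¹ * (g * z * g⁻¹) * (z * z) by group, h1,
    D.z_sq, mul_one]

theorem pr (H : Hyps D) (k : G) (hb : Commute (k * z * k⁻¹) z) (hne : k * z * k⁻¹ ≠ z) :
    Pr D (k * z * k⁻¹) (fun i => k * D.v i * k⁻¹) := by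
  have key : ∀ x m : G, Commute m (k * x * k⁻¹) → Commute (k⁻¹ * m * k) x := fun x m hm =>
    commute_conj' k hm
  have hord : ∀ r : G, orderOf (k * r * k⁻¹) = orderOf r := fun r =>
    orderOf_injective (MulAut.conj k).toMonoidHom (MulAut.conj k).injective r
  have hmul : ∀ x y : G, k * x * k⁻¹ * (k * y * k⁻¹) = k * (x * y) * k⁻¹ := fun x y => by group
  refine ⟨hb, ?_, ?_, fun i => ?_, ?_, fun i m => ?_, ?_, fun i => ?_, fun i m hm => ?_, fun i l m hm => ?_,
    fun i => ?_⟩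
  · rw [hmul, D.z_sq]; group
  · rintro (e | e | ⟨i, e | e⟩)
    · exact D.z_ne (conj_eq_one_iff.1 e)
    · exact hne e
    · exact (H.zc i k).1 e
    · exact (H.zc i k).2 e
  · rw [hmul, D.v_sq]; group
  · rw [hmul, hmul, D.v_prod]; group
  · exact commute_conj k (D.v_comm m _ (D.v_mem i))
  · intro i m e
    exact D.v_inj ((MulAut.conj k).injective e)
  · exact commute_conj k (D.v_comm i z D.z_mem).symm
  · rw [hmul] at hm
    have h1 := H.isoD i _ (key _ _ hm)
    rw [← hord] at h1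
    rwa [show k * (k⁻¹ * m * k * z * (k⁻¹ * m * k)⁻¹ * z⁻¹) * k⁻¹
      = m * (k * z * k⁻¹) * m⁻¹ * (k * z * k⁻¹)⁻¹ by group] at h1
  · have h1 := H.vn i l _ (key _ _ hm)
    rw [← hord, ← hord (D.v i * _)] at h1
    rwa [show k * (k⁻¹ * m * k * D.v l * (k⁻¹ * m * k)⁻¹ * (D.v l)⁻¹) * k⁻¹
        = m * (k * D.v l * k⁻¹) * m⁻¹ * (k * D.v l * k⁻¹)⁻¹ by group,
      show k * (D.v i * (k⁻¹ * m * k * D.v l * (k⁻¹ * m * k)⁻¹ * (D.v l)⁻¹)) * k⁻¹
        = k * D.v i * k⁻¹ * (m * (k * D.v l * k⁻¹) * m⁻¹ * (k * D.v l * k⁻¹)⁻¹) by group] at h1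
  · rw [hmul]
    rintro (e | e | ⟨j, e | e⟩)
    · exact D.v_z i ((eq_inv_of_mul_eq_one_right (conj_eq_one_iff.1 e)).trans
        (inv_eq_of_mul_eq_one_right D.z_sq))
    · exact (H.zc i k⁻¹).2 (conj_back e)
    · exact H.vd j i k⁻¹ (conj_back e)
    · -- two of the products are conjugate under the element of order three
      obtain ⟨n, hn⟩ : ∃ n : ℕ, D.c ^ n * D.v j * (D.c ^ n)⁻¹ = D.v i := by
        have h1 := D.c_v j
        have h2 : D.c ^ 2 * D.v j * (D.c ^ 2)⁻¹ = D.v (j + 2) := by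
          rw [pow_two, show D.c * D.c * D.v j * (D.c * D.c)⁻¹ = D.c * (D.c * D.v j * D.c⁻¹) * D.c⁻¹ by group,
            h1, D.c_v, add_assoc]
          rfl
        by_cases e' : j = i
        · exact ⟨0, by simp [e']⟩
        · rcases (fin3_next j i).2 e' with h | h
          · exact ⟨1, by rw [pow_one, h1, h]⟩
          · exact ⟨2, by rw [h2, h]⟩
      have hnz : Commute (D.c ^ n) z := D.c_z.pow_left n
      set g := D.c ^ n * k
      have hg : Commute g (z * D.v i) := by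
        refine Datum.conj_fix.1 ?_
        calc g * (z * D.v i) * g⁻¹ = D.c ^ n * (k * (z * D.v i) * k⁻¹) * (D.c ^ n)⁻¹ := by simp only [g]; group
          _ = (D.c ^ n * z * (D.c ^ n)⁻¹) * (D.c ^ n * D.v j * (D.c ^ n)⁻¹) := by rw [e]; group
          _ = z * D.v i := by rw [Datum.conj_fix.2 hnz, hn]
      have hgz : g * z * g⁻¹ = D.c ^ n * (k * z * k⁻¹) * (D.c ^ n)⁻¹ := by simp only [g]; group
      have hc : Commute (g * z * g⁻¹) z := by
        have h3 := commute_conj (D.c ^ n) hb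
        rwa [← hgz, Datum.conj_fix.2 hnz] at h3
      have := eq_of_iso (H.isoD i) hg hc D
      exact hne ((MulAut.conj (D.c ^ n)).injective ((hgz.symm.trans this).trans (Datum.conj_fix.2 hnz).symm))

theorem central_image (H : Hyps D) {k : G} {i : Fin 3} (h : D.Zs (k * D.v i * k⁻¹)) :
    ∃ j, k * D.v i * k⁻¹ = D.v j := by
  rcases h with e | e | ⟨j, e | e⟩
  · exact absurd (conj_eq_one_iff.1 e) (D.v_one i)
  · exact absurd (conj_back e) (H.zc i k⁻¹).1
  · exact ⟨j, e⟩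
  · exact absurd e (H.vd i j k)

/-- A commuting conjugate different from `z` sends some central involution to one of them. -/
theorem fusion (H : Hyps D) (g : G) (hc : Commute (g * z * g⁻¹) z) (hne : g * z * g⁻¹ ≠ z) :
    ∃ i j, g⁻¹ * D.v i * g = D.v j := by
  have hb : Commute (g⁻¹ * z * g⁻¹⁻¹) z := by
    have := commute_conj g⁻¹ hc.symm
    simpa [mul_assoc] using this
  have hbne : g⁻¹ * z * g⁻¹⁻¹ ≠ z := fun e => hne (by
    conv_lhs => rw [← e]
    group)
  have hconj : ∀ n, Commute (g * z * g⁻¹) (D.v n) → Commute (g⁻¹ * D.v n * g⁻¹⁻¹) z := fun n h => by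
    have := commute_conj g⁻¹ h.symm
    simpa [mul_assoc] using this
  by_cases hy : D.In (g * z * g⁻¹)
  · obtain ⟨i, hi⟩ := (H.pr g⁻¹ hb hbne).inner fun n => hconj n (hy.2 n)
    obtain ⟨j, e⟩ := H.central_image hi
    exact ⟨i, j, by rw [inv_inv] at e; exact e⟩
  by_cases hbI : D.In (g⁻¹ * z * g⁻¹⁻¹)
  · have hconj' : ∀ n, Commute (g * D.v n * g⁻¹) z := fun n => by
      have := commute_conj g (hbI.2 n).symm
      simpa [mul_assoc] using this
    obtain ⟨i, hi⟩ := (H.pr g hc hne).inner hconj'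
    obtain ⟨j, e⟩ := H.central_image hi
    exact ⟨j, i, by rw [← e]; group⟩
  obtain ⟨i, hfix⟩ := D.exists_fix hc (by
    rw [show g * z * g⁻¹ * (g * z * g⁻¹) = g * (z * z) * g⁻¹ by group, D.z_sq]; group)
  have P := H.pr g⁻¹ hb hbne
  have hV : (∀ m, Commute m (g⁻¹ * D.v i * g⁻¹⁻¹) →
      Odd (orderOf (m * (g⁻¹ * z * g⁻¹⁻¹) * m⁻¹ * (g⁻¹ * z * g⁻¹⁻¹)⁻¹))) ∨
      (∀ n m, Commute m (g⁻¹ * D.v i * g⁻¹⁻¹) →
        ∃ l, m * (g⁻¹ * D.v n * g⁻¹⁻¹) * m⁻¹ = g⁻¹ * D.v l * g⁻¹⁻¹) := by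
    rcases H.hv with h | h
    · refine Or.inl fun m hm => ?_
      have h1 := h i _ (commute_conj' g⁻¹ hm)
      rw [← orderOf_injective (MulAut.conj g⁻¹).toMonoidHom (MulAut.conj g⁻¹).injective] at h1
      simpa [mul_assoc] using h1
    · refine Or.inr fun n m hm => ?_
      obtain ⟨l, e⟩ := h i n _ (commute_conj' g⁻¹ hm)
      exact ⟨l, by rw [← e]; group⟩
  by_cases hZ : D.Zs (g⁻¹ * D.v i * g⁻¹⁻¹)
  · obtain ⟨j, e⟩ := H.central_image hZ
    exact ⟨i, j, by rw [inv_inv] at e; exact e⟩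
  exfalso
  exact hy ⟨hc, fun n => by
    have := commute_conj g (P.outer (hconj i hfix) hbI hZ hV n).symm
    simpa [mul_assoc] using this⟩

end Hyps

end Cfsg.Agent.Fi23ByInvol
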