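/-
The centraliser of a central involution u of J modulo u satisfies the hypotheses of the Fi22 characterisation.

* `TwoHyp`, `ZCentral`, `TwoConcl` : the parts of that characterisation;
* `qb` : the map onto C(u)/⟨u⟩;
* `Datum.twoHyp` : the hypotheses; `Datum.zCentral` : the centre of J is central when u = v 0.
-/
import Cfsg.Agent.Lib.Fi23ByInvol.Conjugacy
import Cfsg.Agent.Lib.PSpThree.Amalgam.Special
import Cfsg.Prelude.Def_Spor_Fi22
import Mathlib.GroupTheory.Commutator.Basic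

set_option autoImplicit false
set_option linter.unusedSectionVars false
set_option linter.style.haveILetI false

namespace Cfsg.Agent.Fi23ByInvol

open Cfsg.Agent.ThreeTransSU Cfsg.Agent.U62Rec
open scoped commutatorElement

universe u v w

section Two

variable (X : Type u) [Group X] (z : X)

/-- The hypotheses on a centraliser of type Fi22. -/
def TwoHyp (F : Type v) [Field F] [Fintype F] : Prop :=
  orderOf z = 2 ∧
  ∃ (A E : Subgroup ↥(Subgroup.centralizer ({z} : Set X))) (zc : ↥(Subgroup.centralizer ({z} : Set X))),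
    Cfsg.IsInternalDirectProduct A E (Cfsg.pCore 2 ↥(Subgroup.centralizer ({z} : Set X))) ∧
    Nat.card ↥A = 2 ∧ Cfsg.IsExtraspecial 2 ↥E ∧ Nat.card ↥E = 2 ^ 9 ∧ (zc : X) = z ∧
    ⁅(Cfsg.pCore 2 ↥(Subgroup.centralizer ({z} : Set X))),
      (Cfsg.pCore 2 ↥(Subgroup.centralizer ({z} : Set X)))⁆ = Subgroup.zpowers zc ∧
    Subgroup.centralizer ((Cfsg.pCore 2 ↥(Subgroup.centralizer ({z} : Set X))) :
      Set ↥(Subgroup.centralizer ({z} : Set X))) ≤ Cfsg.pCore 2 ↥(Subgroup.centralizer ({z} : Set X)) ∧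
    ∃ _hn : (Cfsg.pCore 2 ↥(Subgroup.centralizer ({z} : Set X))).Normal,
      Nonempty ((↥(Subgroup.centralizer ({z} : Set X)) ⧸
        Cfsg.pCore 2 ↥(Subgroup.centralizer ({z} : Set X))) ≃* MulAut (Cfsg.PSp 2 F))

/-- The centre of the largest normal 2-subgroup is central. -/
def ZCentral : Prop :=
  ∀ j ∈ Cfsg.pCore 2 ↥(Subgroup.centralizer ({z} : Set X)),
    (∀ i ∈ Cfsg.pCore 2 ↥(Subgroup.centralizer ({z} : Set X)), i * j = j * i) →
    ∀ h : ↥(Subgroup.centralizer ({z} : Set X)), h * j = j * h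

/-- The first two conclusions. -/
def TwoConcl (K : Type w) [Field K] [Fintype K] : Prop :=
  Subgroup.centralizer ({z} : Set X) ⊔ Cfsg.oddCore X = ⊤ ∨
    ∃ z₁ : X, orderOf z₁ = 2 ∧ z₁ ∉ Subgroup.zpowers z ∧ (∃ h₁ : z₁ ∈ Subgroup.centralizer ({z} : Set X),
        (⟨z₁, h₁⟩ : ↥(Subgroup.centralizer ({z} : Set X))) ∈ Cfsg.pCore 2 ↥(Subgroup.centralizer ({z} : Set X)) ∧
          ∀ j ∈ Cfsg.pCore 2 ↥(Subgroup.centralizer ({z} : Set X)), j * ⟨z₁, h₁⟩ = ⟨z₁, h₁⟩ * j) ∧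
        (Subgroup.zpowers z₁).Normal ∧
      ∃ (G₀ : Subgroup X) (_hz₁ : z₁ ∈ G₀), G₀.index = 2 ∧
        ∃ _hn : ((Subgroup.zpowers z₁).subgroupOf G₀).Normal,
          Nonempty ((↥G₀ ⧸ (Subgroup.zpowers z₁).subgroupOf G₀) ≃* Cfsg.PSU 6 K 2)

end Two

variable {G : Type u} [Group G] [Finite G]

instance cen_normal (u : G) :
    ((Subgroup.zpowers u).subgroupOf (Subgroup.centralizer ({u} : Set G))).Normal :=
  ⟨fun n hn g => by
    obtain ⟨k, hk⟩ := Subgroup.mem_zpowers_iff.1 hn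
    have e : g * n * g⁻¹ = n := Subtype.ext (by
      push_cast
      have hk' : u ^ k = (n : G) := hk
      rw [← hk', ((show Commute (g : G) u from Subgroup.mem_centralizer_singleton_iff.1 g.2).zpow_right k).eq,
        mul_inv_cancel_right])
    rwa [e]⟩

/-- C(u)/⟨u⟩. -/
abbrev Bar (u : G) :=
  ↥(Subgroup.centralizer ({u} : Set G)) ⧸ (Subgroup.zpowers u).subgroupOf (Subgroup.centralizer ({u} : Set G))

open Classical in
/-- The map onto C(u)/⟨u⟩. -/
noncomputable def qb (u x : G) : Bar u :=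
  if h : Commute x u then QuotientGroup.mk ⟨x, Subgroup.mem_centralizer_singleton_iff.2 h⟩ else 1

section Qb

variable {u x y : G}

theorem qb_mk (h : Commute x u) :
    qb u x = QuotientGroup.mk (⟨x, Subgroup.mem_centralizer_singleton_iff.2 h⟩ :
      Subgroup.centralizer ({u} : Set G)) := dif_pos h

theorem qb_mul (hx : Commute x u) (hy : Commute y u) : qb u (x * y) = qb u x * qb u y := by
  rw [qb_mk hx, qb_mk hy, qb_mk (hx.mul_left hy), ← QuotientGroup.mk_mul]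
  rfl

theorem qb_inv (hx : Commute x u) : qb u x⁻¹ = (qb u x)⁻¹ := by
  rw [qb_mk hx, qb_mk hx.inv_left, ← QuotientGroup.mk_inv]
  rfl

theorem qb_one : qb u (1 : G) = 1 := by rw [qb_mk (Commute.one_left _)]; rfl

theorem qb_surj (a : Bar u) : ∃ x, Commute x u ∧ qb u x = a := by
  obtain ⟨⟨x, hx⟩, rfl⟩ := QuotientGroup.mk_surjective a
  exact ⟨x, Subgroup.mem_centralizer_singleton_iff.1 hx, qb_mk (Subgroup.mem_centralizer_singleton_iff.1 hx)⟩

theorem qb_eq_one (hu : u * u = 1) (hx : Commute x u) : qb u x = 1 ↔ x = 1 ∨ x = u := by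
  rw [qb_mk hx, QuotientGroup.eq_one_iff, Subgroup.mem_subgroupOf]
  constructor
  · exact fun h => LargeExtraspecial.mem_zpowers_two hu h
  · rintro (rfl | rfl)
    exacts [one_mem _, Subgroup.mem_zpowers _]

theorem qb_eq (hu : u * u = 1) (hx : Commute x u) (hy : Commute y u) :
    qb u x = qb u y ↔ x = y ∨ x = y * u := by
  rw [eq_comm, ← inv_mul_eq_one, ← qb_inv hy, ← qb_mul hy.inv_left hx, qb_eq_one hu (hy.inv_left.mul_left hx),
    inv_mul_eq_one, inv_mul_eq_iff_eq_mul, eq_comm (a := y)]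

end Qb

namespace Datum

variable {z : G} (D : Datum z) {u : G}

section

variable (hu : u = D.v 0 ∨ u = z * D.v 0)
include hu

theorem u_sq : u * u = 1 := by
  rcases hu with rfl | rfl
  exacts [D.v_sq 0, D.Zs_sq (Or.inr (Or.inr ⟨0, Or.inr rfl⟩))]

theorem u_Zs : D.Zs u := by
  rcases hu with rfl | rfl
  exacts [Or.inr (Or.inr ⟨0, Or.inl rfl⟩), Or.inr (Or.inr ⟨0, Or.inr rfl⟩)]

theorem u_ne_z : u ≠ z := by
  rcases hu with rfl | rfl
  exacts [D.v_z 0, fun e => D.v_one 0 (mul_eq_left.1 e)]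

theorem u_comm_z : Commute z u := (D.J_cent u (D.Zs_mem (D.u_Zs hu)).1).symm

theorem J_comm_u {j : G} (hj : j ∈ D.J) : Commute j u := D.Zs_comm (D.u_Zs hu) (D.J_In hj)

theorem qb_z_ne : qb u z ≠ 1 := by
  rw [Ne, qb_eq_one (D.u_sq hu) (D.u_comm_z hu)]
  rintro (h | h)
  exacts [D.z_ne h, D.u_ne_z hu h.symm]

theorem qb_z_order : orderOf (qb u z) = 2 := orderOf_eq_prime
  (by rw [pow_two, ← qb_mul (D.u_comm_z hu) (D.u_comm_z hu), D.z_sq, qb_one]) (D.qb_z_ne hu)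

/-- Centralisers of z and of its image correspond. -/
theorem qb_comm {x : G} (hx : Commute x u) : Commute (qb u x) (qb u z) ↔ Commute x z := by
  refine ⟨fun h => ?_, fun h => ?_⟩
  · have hzu := D.u_comm_z hu
    have e : qb u (x * z) = qb u (z * x) := by rw [qb_mul hx hzu, qb_mul hzu hx]; exact h.eq
    rcases (qb_eq (D.u_sq hu) (hx.mul_left hzu) (hzu.mul_left hx)).1 e with e' | e'
    · exact e'
    · exfalso
      have e2 : x * z * x⁻¹ = z * u := by
        rw [e', mul_assoc z x, hx.eq, ← mul_assoc, mul_inv_cancel_right]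
      rcases hu with rfl | rfl
      · exact D.conj_z_ne (Or.inr rfl) x e2
      · exact D.conj_z_ne (Or.inl rfl) x (e2.trans (by rw [← mul_assoc, D.z_sq, one_mul]))
  · rw [commute_iff_eq, ← qb_mul hx (D.u_comm_z hu), ← qb_mul (D.u_comm_z hu) hx, h.eq]

/-- Central in the image of J comes from central in J. -/
theorem Zs_of_qb {a : G} (ha : a ∈ D.J) (h : ∀ i ∈ D.J, Commute (qb u i) (qb u a)) : D.Zs a :=
  D.Zs_of_central ha fun i hi => by
    by_contra hne
    have hB : B (D.vec i) (D.vec a) ≠ 0 := fun e => hne (D.comm_zero _ hi _ ha e)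
    have e := D.comm_ne _ hi _ ha hB
    have hui := D.J_comm_u hu hi
    have hua := D.J_comm_u hu ha
    have h' := (h i hi).eq
    rw [← qb_mul hui hua, ← qb_mul hua hui, e, qb_mul (hua.mul_left hui) (D.u_comm_z hu)] at h'
    exact D.qb_z_ne hu (mul_eq_left.1 h')

end

variable (z u) in
/-- The centraliser of z and u. -/
def Hu : Subgroup G where
  carrier := {x | Commute x z ∧ Commute x u}
  one_mem' := ⟨Commute.one_left _, Commute.one_left _⟩
  mul_mem' := fun ha hb => ⟨ha.1.mul_left hb.1, ha.2.mul_left hb.2⟩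
  inv_mem' := fun ha => ⟨ha.1.inv_left, ha.2.inv_left⟩

variable (hu : u = D.v 0 ∨ u = z * D.v 0)
include hu

theorem In_Hu {x : G} (hx : D.In x) : x ∈ Hu z u := ⟨hx.1, D.Zs_comm (D.u_Zs hu) hx⟩

theorem J_Hu {x : G} (hx : x ∈ D.J) : x ∈ Hu z u := D.In_Hu hu (D.J_In hx)

/-- The map onto the centraliser of the image of z. -/
noncomputable def rho : Hu z u →* ↥(Subgroup.centralizer ({qb u z} : Set (Bar u))) where
  toFun x := ⟨qb u x, Subgroup.mem_centralizer_singleton_iff.2 ((D.qb_comm hu x.2.2).2 x.2.1)⟩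
  map_one' := Subtype.ext qb_one
  map_mul' x y := Subtype.ext (qb_mul x.2.2 y.2.2)

theorem rho_surj : Function.Surjective (D.rho hu) := fun a => by
  obtain ⟨x, hxu, hx⟩ := qb_surj (a : Bar u)
  have hc : Commute (qb u x) (qb u z) := by rw [hx]; exact Subgroup.mem_centralizer_singleton_iff.1 a.2
  exact ⟨⟨x, (D.qb_comm hu hxu).1 hc, hxu⟩, Subtype.ext hx⟩

theorem rho_eq_one {x : Hu z u} : D.rho hu x = 1 ↔ (x : G) = 1 ∨ (x : G) = u := by
  rw [← qb_eq_one (D.u_sq hu) x.2.2]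
  exact ⟨fun h => congrArg Subtype.val h, fun h => Subtype.ext h⟩

theorem rho_ker_le {x : Hu z u} (h : D.rho hu x = 1) : (x : G) ∈ D.J := by
  rcases (D.rho_eq_one hu).1 h with e | e <;> rw [e]
  exacts [one_mem _, (D.Zs_mem (D.u_Zs hu)).1]

theorem pCore_bar : Cfsg.pCore 2 ↥(Subgroup.centralizer ({qb u z} : Set (Bar u))) =
    (D.J.subgroupOf (Hu z u)).map (D.rho hu) := by
  haveI : (D.J.subgroupOf (Hu z u)).Normal := ⟨fun n hn g => D.J_norm g g.2.1 n hn⟩
  refine le_antisymm ?_ (Cores.le_pCore (Subgroup.Normal.map inferInstance _ (D.rho_surj hu))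
    ((D.J_two.comap_of_injective _ (Hu z u).subtype_injective).map _))
  set P := Cfsg.pCore 2 ↥(Subgroup.centralizer ({qb u z} : Set (Bar u)))
  haveI hPn : P.Normal := Cores.pCore_normal 2 _
  have hk : IsPGroup 2 (D.rho hu).ker := by
    refine (D.J_two.comap_of_injective (Hu z u).subtype (Hu z u).subtype_injective).to_le ?_
    exact fun x hx => D.rho_ker_le hu hx
  have hQ : IsPGroup 2 (P.comap (D.rho hu)) := (Cores.isPGroup_pCore 2 _).comap_of_ker_isPGroup _ hk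
  have hle := D.le_J ((P.comap (D.rho hu)).map (Hu z u).subtype) (hQ.map _)
    (by rintro _ ⟨y, -, rfl⟩; exact y.2.1) fun a => by
      obtain ⟨k, hkz, hkv, e⟩ := D.φ_surj a
      refine ⟨k, ⟨hkz, hkv⟩, e, ?_⟩
      rintro _ ⟨y, hy, rfl⟩
      exact ⟨⟨k, D.In_Hu hu ⟨hkz, hkv⟩⟩ * y * ⟨k, D.In_Hu hu ⟨hkz, hkv⟩⟩⁻¹,
        (Subgroup.Normal.comap hPn _).conj_mem y hy _, rfl⟩
  intro a ha
  obtain ⟨x, rfl⟩ := D.rho_surj hu a
  exact ⟨x, hle ⟨x, ha, rfl⟩, rfl⟩

theorem mem_pCore_bar {a : ↥(Subgroup.centralizer ({qb u z} : Set (Bar u)))}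
    (ha : a ∈ Cfsg.pCore 2 ↥(Subgroup.centralizer ({qb u z} : Set (Bar u)))) :
    ∃ j ∈ D.J, qb u j = (a : Bar u) := by
  rw [D.pCore_bar hu] at ha
  obtain ⟨x, hx, rfl⟩ := ha
  exact ⟨x, hx, rfl⟩

theorem qb_mem_pCore {j : G} (hj : j ∈ D.J) :
    D.rho hu ⟨j, D.J_Hu hu hj⟩ ∈ Cfsg.pCore 2 ↥(Subgroup.centralizer ({qb u z} : Set (Bar u))) := by
  rw [D.pCore_bar hu]
  exact ⟨⟨j, D.J_Hu hu hj⟩, hj, rfl⟩

/-- The elements that are central in J give at most two cosets. -/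
theorem Zs_bar {a : G} (ha : D.Zs a) : ∃ b, (b = 1 ∨ b = D.v 1) ∧ ∃ e, (e = 1 ∨ e = z) ∧ qb u a = qb u (b * e) := by
  have hP : D.v 0 * D.v 1 = D.v 2 := D.v_third (by decide) (by decide) (by decide)
  have hz0 : Commute z (D.v 0) := (D.J_cent _ (D.v_mem 0)).symm
  have hc : ∀ {x y : G}, D.Zs x → D.Zs y → Commute x y := fun hx hy =>
    D.Zs_comm hy (D.J_In (D.Zs_mem hx).1)
  have h1 : D.Zs (1 : G) := Or.inl rfl
  have hz : D.Zs z := Or.inr (Or.inl rfl)
  have hv1 : D.Zs (D.v 1) := Or.inr (Or.inr ⟨1, Or.inl rfl⟩)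
  -- up to u, v 0 is 1 or z
  obtain ⟨e0, he0, h0⟩ : ∃ e, (e = 1 ∨ e = z) ∧ qb u (D.v 0) = qb u e := by
    rcases hu with rfl | rfl
    · exact ⟨1, Or.inl rfl, (qb_eq (D.v_sq 0) (Commute.refl _) (Commute.one_left _)).2 (Or.inr (one_mul _).symm)⟩
    · exact ⟨z, Or.inr rfl, (qb_eq (D.u_sq (Or.inr rfl)) (D.J_comm_u (Or.inr rfl) (D.v_mem 0))
        (D.u_comm_z (Or.inr rfl))).2 (Or.inr (by rw [← mul_assoc, D.z_sq, one_mul]))⟩
  have cu : ∀ {x : G}, D.Zs x → Commute x u := fun hx => D.J_comm_u hu (D.Zs_mem hx).1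
  have cz : ∀ e : G, (e = 1 ∨ e = z) → D.Zs e := fun e he => he.elim Or.inl fun h => Or.inr (Or.inl h)
  have fin : ∀ b, (b = 1 ∨ b = D.v 1) → ∀ e, (e = 1 ∨ e = z) → qb u a = qb u (b * e) →
      ∃ b, (b = 1 ∨ b = D.v 1) ∧ ∃ e, (e = 1 ∨ e = z) ∧ qb u a = qb u (b * e) :=
    fun b hb e he h => ⟨b, hb, e, he, h⟩
  have hzmul : ∀ e, (e = 1 ∨ e = z) → z * e = 1 ∨ z * e = z := by
    rintro e (h | h) <;> rw [h]
    exacts [Or.inr (mul_one _), Or.inl D.z_sq]
  rcases ha with h | h | ⟨i, h | h⟩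
  all_goals rw [h] at fin ⊢
  · exact fin 1 (Or.inl rfl) 1 (Or.inl rfl) (by rw [one_mul])
  · exact fin 1 (Or.inl rfl) z (Or.inr rfl) (by rw [one_mul])
  · fin_cases i
    · exact fin 1 (Or.inl rfl) e0 he0 (by rw [one_mul]; exact h0)
    · exact fin (D.v 1) (Or.inr rfl) 1 (Or.inl rfl) (by rw [mul_one]; rfl)
    · refine fin (D.v 1) (Or.inr rfl) e0 he0 ?_
      show qb u (D.v 2) = _
      rw [← hP, (hc (Or.inr (Or.inr ⟨0, Or.inl rfl⟩)) hv1).eq, qb_mul (cu hv1) (cu (Or.inr (Or.inr ⟨0, Or.inl rfl⟩))),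
        h0, ← qb_mul (cu hv1) (cu (cz _ he0))]
  · fin_cases i
    · refine fin 1 (Or.inl rfl) (z * e0) (hzmul _ he0) ?_
      show qb u (z * D.v 0) = _
      rw [one_mul, qb_mul (cu hz) (cu (Or.inr (Or.inr ⟨0, Or.inl rfl⟩))), h0, ← qb_mul (cu hz) (cu (cz _ he0))]
    · refine fin (D.v 1) (Or.inr rfl) z (Or.inr rfl) ?_
      show qb u (z * D.v 1) = _
      rw [(hc hz hv1).eq]
    · refine fin (D.v 1) (Or.inr rfl) (z * e0) (hzmul _ he0) ?_
      show qb u (z * D.v 2) = _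
      rw [← hP, (hc (Or.inr (Or.inr ⟨0, Or.inl rfl⟩)) hv1).eq, qb_mul (cu hz) ((cu hv1).mul_left
        (cu (Or.inr (Or.inr ⟨0, Or.inl rfl⟩)))), qb_mul (cu hv1) (cu (Or.inr (Or.inr ⟨0, Or.inl rfl⟩))), h0,
        ← qb_mul (cu hv1) (cu (cz _ he0)), ← qb_mul (cu hz) ((cu hv1).mul_left (cu (cz _ he0))),
        ← mul_assoc, (hc hz hv1).eq, mul_assoc]

theorem v1_ne : D.v 1 ≠ u ∧ D.v 1 * u ≠ z := by
  rcases hu with rfl | rfl
  · refine ⟨fun e => absurd (D.v_inj e) (by decide), fun e => D.v_z 2 ?_⟩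
    exact (D.v_third (by decide) (by decide) (by decide)).symm.trans e
  · refine ⟨fun e => ?_, fun e => D.v_one 2 ?_⟩
    · refine D.v_z 2 ?_
      rw [← D.v_third (i := 0) (m := 1) (by decide) (by decide) (by decide), e,
        ← mul_assoc, ← (D.J_cent _ (D.v_mem 0)).symm.eq, mul_assoc, D.v_sq, mul_one]
    · rw [← mul_assoc, (D.J_cent _ (D.v_mem 1)).eq, mul_assoc, mul_eq_left] at e
      rw [← D.v_third (i := 1) (m := 0) (by decide) (by decide) (by decide), e]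

variable (R : Raw z) (hJ : D.J = R.J) (hc : D.c = R.c)
include hJ hc

/-- The hypotheses. -/
theorem twoHyp {F : Type v} [Field F] [Fintype F] (hF : Fintype.card F = 3) :
    TwoHyp (Bar u) (qb u z) F := by
  classical
  obtain ⟨f⟩ := exists_U4_equiv F hF
  set r := D.rho hu with hr
  have hE : R.E ≤ Hu z u := fun x hx => D.J_Hu hu (hJ ▸ R.E_le hx)
  set rE : R.E →* _ := r.comp (Subgroup.inclusion hE) with hrE
  obtain ⟨hsq, hcomm, hzE⟩ := R.J_rel
  have hEcen : ∀ x ∈ R.E, D.Zs x → x = 1 ∨ x = z := by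
    obtain ⟨ζ, -, -, hcen, -, -, -⟩ := R.zeta_eq
    intro x hx hZ
    have hz' := (hcen z hzE fun y hy => R.J_cent y (R.E_le hy)).resolve_left R.z_ne
    rcases hcen x hx fun y hy => D.Zs_comm hZ (D.J_In (hJ ▸ R.E_le hy)) with h | h
    exacts [Or.inl h, Or.inr (h.trans hz'.symm)]
  have hrEinj : Function.Injective rE := by
    rw [injective_iff_map_eq_one]
    intro x hx
    rcases (D.rho_eq_one hu).1 hx with e | e
    · exact Subtype.ext e
    · have e' : (x : G) = u := e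
      rcases hEcen u (e' ▸ x.2) (D.u_Zs hu) with h | h
      · exact Subtype.ext (e'.trans h)
      · exact absurd h (D.u_ne_z hu)
  have hJ2 := D.pCore_bar hu
  set P := Cfsg.pCore 2 ↥(Subgroup.centralizer ({qb u z} : Set (Bar u)))
  haveI hPn : P.Normal := Cores.pCore_normal 2 _
  have hmemP : ∀ j (hj : j ∈ D.J), r ⟨j, D.J_Hu hu hj⟩ ∈ P := fun j hj => D.qb_mem_pCore hu hj
  set a := r ⟨D.v 1, D.J_Hu hu (D.v_mem 1)⟩ with ha
  have ha1 : a ≠ 1 := fun e => by
    rcases (D.rho_eq_one hu).1 e with h | h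
    exacts [D.v_one 1 h, (D.v1_ne hu).1 h]
  have ha2 : a * a = 1 := by
    rw [ha, ← map_mul, show (⟨D.v 1, D.J_Hu hu (D.v_mem 1)⟩ : Hu z u) * ⟨D.v 1, D.J_Hu hu (D.v_mem 1)⟩ = 1 from
      Subtype.ext (D.v_sq 1), map_one]
  have hzero : ∀ y, y ∈ rE.range → y ∈ P := by
    rintro _ ⟨x, rfl⟩
    exact hmemP x (hJ ▸ R.E_le x.2)
  refine ⟨D.qb_z_order hu, Subgroup.zpowers a, rE.range,
    ⟨qb u z, Subgroup.mem_centralizer_singleton_iff.2 rfl⟩, ⟨?_, hzero, ?_, ?_, ?_⟩, ?_, ?_, ?_, rfl, ?_, ?_,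
    hPn, ?_⟩
  · exact Subgroup.zpowers_le.2 (hmemP _ (D.v_mem 1))
  · rintro x hx _ ⟨y, rfl⟩
    obtain ⟨k, rfl⟩ := Subgroup.mem_zpowers_iff.1 hx
    have hcy : (⟨D.v 1, D.J_Hu hu (D.v_mem 1)⟩ : Hu z u) * Subgroup.inclusion hE y =
        Subgroup.inclusion hE y * ⟨D.v 1, D.J_Hu hu (D.v_mem 1)⟩ :=
      Subtype.ext (D.v_comm 1 (y : G) (hJ ▸ R.E_le y.2)).symm.eq
    have h : Commute a (rE y) := by
      show a * rE y = rE y * a
      rw [ha, hrE, MonoidHom.comp_apply, ← map_mul, ← map_mul, hcy]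
    exact (h.zpow_left k).eq
  · rw [eq_bot_iff]
    rintro x ⟨hx, y, rfl⟩
    rcases LargeExtraspecial.mem_zpowers_two ha2 hx with e | e
    · exact Subgroup.mem_bot.2 e
    · exfalso
      have e' : qb u (y : G) = qb u (D.v 1) := congrArg Subtype.val e
      have hy : (y : G) ∈ D.J := hJ ▸ R.E_le y.2
      have h2 : D.v 1 * u ∈ D.J := mul_mem (D.v_mem 1) (D.Zs_mem (D.u_Zs hu)).1
      rcases (qb_eq (D.u_sq hu) (D.J_comm_u hu hy) (D.J_comm_u hu (D.v_mem 1))).1 e' with h | h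
      · rcases hEcen _ y.2 (h ▸ Or.inr (Or.inr ⟨1, Or.inl rfl⟩)) with g | g
        exacts [D.v_one 1 (h ▸ g), D.v_z 1 (h ▸ g)]
      · rcases hEcen _ y.2 (D.Zs_of_central hy fun i hi => by
          rw [h]; exact (D.v_comm 1 i hi).mul_right (D.J_comm_u hu hi)) with g | g
        · exact (D.v1_ne hu).1 ((eq_inv_of_mul_eq_one_left (h ▸ g : D.v 1 * u = 1)).trans
            (inv_eq_of_mul_eq_one_right (D.u_sq hu)))
        · exact (D.v1_ne hu).2 (h ▸ g)
  · refine le_antisymm (sup_le (Subgroup.zpowers_le.2 (hmemP _ (D.v_mem 1))) hzero) fun x hx => ?_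
    obtain ⟨j, hj, e⟩ := D.mem_pCore_bar hu hx
    obtain ⟨p, hp, b, hb, rfl⟩ := R.dec j (hJ ▸ hj)
    have hpJ : p ∈ D.J := hJ ▸ R.V_le hp
    have hpZ : D.Zs p := D.Zs_of_central hpJ fun i hi => by
      obtain ⟨p', hp', b', hb', rfl⟩ := R.dec i (hJ ▸ hi)
      exact (R.V_comm hp' hp).mul_left (R.V_E p hp b' hb').symm
    obtain ⟨s, hs, t, ht, est⟩ := D.Zs_bar hu hpZ
    have htE : t ∈ R.E := by rcases ht with rfl | rfl; exacts [one_mem _, hzE]
    have hsA : ∀ hs' : s ∈ Hu z u, r ⟨s, hs'⟩ ∈ Subgroup.zpowers a := fun hs' => by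
      rcases hs with rfl | rfl
      · rw [show (⟨1, hs'⟩ : Hu z u) = 1 from rfl, map_one]; exact one_mem _
      · exact Subgroup.mem_zpowers a
    have hsJ : s ∈ D.J := by rcases hs with rfl | rfl; exacts [one_mem _, D.v_mem 1]
    have key : x = r ⟨s, D.J_Hu hu hsJ⟩ * rE (⟨t, htE⟩ * ⟨b, hb⟩) := Subtype.ext (by
      rw [← e]
      have hbu := D.J_comm_u hu (show b ∈ D.J from hJ ▸ R.E_le hb)
      have htu := D.J_comm_u hu (show t ∈ D.J from hJ ▸ R.E_le htE)
      show qb u (p * b) = qb u s * qb u (t * b)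
      rw [qb_mul (D.J_comm_u hu hpJ) hbu, est, qb_mul (D.J_comm_u hu hsJ) htu, qb_mul htu hbu, mul_assoc])
    rw [key]
    exact Subgroup.mul_mem_sup (hsA _) ⟨_, rfl⟩
  · rw [Nat.card_zpowers, orderOf_eq_prime (by rw [pow_two, ha2]) ha1]
  · exact PSpThree.Loc.isExtraspecial_equiv (MonoidHom.ofInjective hrEinj) R.E_extra
  · rw [← Nat.card_congr (MonoidHom.ofInjective hrEinj).toEquiv, R.E_card]; norm_num
  · -- the derived group
    obtain ⟨p, q, hp, hq, hpq⟩ := D.comm_z_pair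
    have hzc : (⟨qb u z, Subgroup.mem_centralizer_singleton_iff.2 rfl⟩ :
        ↥(Subgroup.centralizer ({qb u z} : Set (Bar u)))) = r ⟨z, D.J_Hu hu D.z_mem⟩ := rfl
    refine le_antisymm (Subgroup.commutator_le.2 fun x hx y hy => ?_) (Subgroup.zpowers_le.2 ?_)
    · rw [D.pCore_bar hu] at hx hy
      obtain ⟨i, hi, rfl⟩ := hx
      obtain ⟨j, hj, rfl⟩ := hy
      rw [← map_commutatorElement]
      rcases hcomm i (hJ ▸ hi) j (hJ ▸ hj) with h | h
      · rw [commutatorElement_eq_one_iff_mul_comm.2 (Subtype.ext h), map_one]; exact one_mem _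
      · rw [show ⁅i, j⁆ = ⟨z, D.J_Hu hu D.z_mem⟩ from Subtype.ext (by
          show (i : G) * j * (i : G)⁻¹ * (j : G)⁻¹ = z
          rw [h, mul_assoc ((j : G) * i), ← (D.J_cent _ (show (i : G)⁻¹ ∈ D.J from inv_mem hi)).eq,
            ← mul_assoc, mul_inv_cancel_right, mul_assoc, ← (D.J_cent _ (show (j : G)⁻¹ ∈ D.J from inv_mem hj)).eq,
            mul_inv_cancel_left])]
        rw [← hzc]
        exact Subgroup.mem_zpowers _
    · rw [hzc, show (⟨z, D.J_Hu hu D.z_mem⟩ : Hu z u) = ⁅(⟨p, D.J_Hu hu hp⟩ : Hu z u), (⟨q, D.J_Hu hu hq⟩ : Hu z u)⁆ from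
        Subtype.ext (by
          show z = p * q * p⁻¹ * q⁻¹
          rw [hpq, mul_assoc (q * p), ← (D.J_cent _ (inv_mem hp)).eq,
            ← mul_assoc, mul_inv_cancel_right, mul_assoc, ← (D.J_cent _ (inv_mem hq)).eq,
            mul_inv_cancel_left]), map_commutatorElement]
      exact Subgroup.commutator_mem_commutator (hmemP p hp) (hmemP q hq)
  · -- the centraliser of the image
    intro x hx
    obtain ⟨⟨h, hhz, hhu⟩, rfl⟩ := D.rho_surj hu x
    have hfix : ∀ y, D.T h y = y := fun y => by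
      have hl := D.lift_mem y
      have hlu := D.J_comm_u hu hl
      have e : qb u (D.lift y) * qb u h = qb u h * qb u (D.lift y) :=
        congrArg Subtype.val (Subgroup.mem_centralizer_iff.1 hx _ (hmemP _ hl))
      rw [← qb_mul hlu hhu, ← qb_mul hhu hlu, eq_comm, qb_eq (D.u_sq hu) (hhu.mul_left hlu) (hlu.mul_left hhu)] at e
      conv_rhs => rw [← D.vec_lift y]
      rw [← D.vec_lift y, D.T_vec hhz hl, D.vec_lift]
      rcases e with e | e
      · rw [e, mul_inv_cancel_right, D.vec_lift]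
      · rw [e, mul_assoc (D.lift y), hhu.eq, ← mul_assoc, mul_inv_cancel_right,
          D.vec_mul _ hl _ (D.Zs_mem (D.u_Zs hu)).1, (D.Zs_mem (D.u_Zs hu)).2, add_zero, D.vec_lift]
    rw [D.pCore_bar hu]
    refine ⟨⟨h, hhz, hhu⟩, ?_, rfl⟩
    show h ∈ D.J
    by_cases hI : D.In h
    · exact D.mem_J_of_T hI hfix
    · exfalso
      have e := D.T_lam hhz hI ((D.comm_u_iff hu hhz).1 hhu) p₀
      rw [hfix, hfix] at e
      exact one_ne_zero (k_scalar 1 D.lam D.lam0 D.lam1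
        (by rw [one_mul, mul_one]; exact smul_left_injective K std_pair.1.1 e))
  · -- the quotient
    let ψ : Hu z u →* MulAut (Cfsg.PSp 2 F) :=
      (MulAut.congr f.symm).toMonoidHom.comp
        { toFun := fun x => R.π x
          map_one' := (R.π_ker 1 (Commute.one_left _)).2 ⟨0, by rw [pow_zero, one_mul]; exact one_mem _⟩
          map_mul' := fun x y => R.π_mul x y x.2.1 y.2.1 }
    have hψ : ∀ x, ψ x = (MulAut.congr f.symm) (R.π x) := fun x => rfl
    have hψs : Function.Surjective ψ := fun α => by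
      obtain ⟨β, rfl⟩ := (MulAut.congr f.symm).surjective α
      obtain ⟨h, hhz, hh⟩ := R.π_surj β
      obtain ⟨m, hm⟩ := D.v_perm h hhz 0
      set n := ((0 : Fin 3) - m).val
      have hcn : Commute (D.c ^ n * h) z := (D.c_z.pow_left _).mul_left hhz
      refine ⟨⟨D.c ^ n * h, hcn, (D.comm_u_iff hu hcn).2 (Datum.conj_fix.1 ?_)⟩, ?_⟩
      · rw [show D.c ^ n * h * D.v 0 * (D.c ^ n * h)⁻¹ = D.c ^ n * (h * D.v 0 * h⁻¹) * (D.c ^ n)⁻¹ by group, hm,
          D.c_pow_v, fin3_val]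
      · rw [hψ]
        congr 1
        show R.π (D.c ^ n * h) = β
        rw [R.π_mul _ _ (D.c_z.pow_left _) hhz, (R.π_ker _ (D.c_z.pow_left _)).2 ⟨2 * n, by
          rw [hc, ← pow_add, show n + 2 * n = 3 * n by ring, pow_mul, R.c3, one_pow]; exact one_mem _⟩, one_mul, hh]
    let ρ := (QuotientGroup.mk' P).comp r
    have hρs : Function.Surjective ρ := (QuotientGroup.mk'_surjective P).comp (D.rho_surj hu)
    have hker : ρ.ker = ψ.ker := by
      ext x
      rw [MonoidHom.mem_ker, MonoidHom.mem_ker, hψ, map_eq_one_iff _ (MulAut.congr f.symm).injective,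
        R.π_ker _ x.2.1, MonoidHom.comp_apply, QuotientGroup.mk'_apply, QuotientGroup.eq_one_iff]
      constructor
      · intro hx
        rw [hJ2] at hx
        obtain ⟨y, hy, e⟩ := hx
        refine ⟨0, ?_⟩
        have hk : r (y⁻¹ * x) = 1 := by rw [map_mul, map_inv, e, inv_mul_cancel]
        rw [pow_zero, mul_one, ← hJ, show (x : G) = y * (y⁻¹ * x : Hu z u) by simp]
        exact mul_mem hy (D.rho_ker_le hu hk)
      · rintro ⟨k, hk⟩
        rw [← hJ] at hk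
        have hck : Commute (D.c ^ k) (D.v 0) := by
          have h1 := D.v_comm 0 _ hk
          rw [← hc] at h1
          have h2 := ((D.comm_u_iff hu x.2.1).1 x.2.2).inv_left.mul_left h1
          rwa [inv_mul_cancel_left] at h2
        have e := conj_fix.2 hck
        rw [D.c_pow_v] at e
        have e' : k • (1 : Fin 3) = 0 := add_eq_left.1 (D.v_inj e)
        rw [← Nat.mod_add_div k 3, add_nsmul, mul_comm 3 (k / 3), mul_nsmul', show (3 : ℕ) • (1 : Fin 3) = 0 from rfl] at e'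
        have hk3 : k % 3 = 0 := by
          have := Nat.mod_lt k (show 0 < 3 by norm_num)
          interval_cases h : k % 3 <;> first | rfl | (exact absurd e' (by rw [nsmul_zero, add_zero]; decide))
        rw [← Nat.mod_add_div k 3, hk3, zero_add, pow_mul, R.c3, one_pow, mul_one] at hk
        exact hmemP _ hk
    exact ⟨((QuotientGroup.quotientKerEquivOfSurjective ρ hρs).symm.trans
      (QuotientGroup.quotientMulEquivOfEq hker)).trans (QuotientGroup.quotientKerEquivOfSurjective ψ hψs)⟩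

end Datum

/-- When u = v 0 the centre of J is central modulo u. -/
theorem Datum.zCentral {z : G} (D : Datum z) : ZCentral (Bar (D.v 0)) (qb (D.v 0) z) := by
  have hu : D.v 0 = D.v 0 ∨ D.v 0 = z * D.v 0 := Or.inl rfl
  intro j hj hcen h
  obtain ⟨a, ha, ea⟩ := D.mem_pCore_bar hu hj
  have hZ : D.Zs a := D.Zs_of_qb hu ha fun i hi => by
    show qb (D.v 0) i * qb (D.v 0) a = qb (D.v 0) a * qb (D.v 0) i
    rw [ea]
    exact congrArg Subtype.val (hcen _ (D.qb_mem_pCore hu hi))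
  obtain ⟨⟨x, hxz, hxu⟩, rfl⟩ := D.rho_surj hu h
  apply Subtype.ext
  show qb (D.v 0) x * j = j * qb (D.v 0) x
  rw [← ea]
  obtain ⟨b, hb, e, he, eq⟩ := D.Zs_bar hu hZ
  have heJ : e ∈ D.J := by rcases he with rfl | rfl; exacts [one_mem _, D.z_mem]
  have hex : Commute x e := by rcases he with rfl | rfl; exacts [Commute.one_right _, hxz]
  have hbJ : b ∈ D.J := by rcases hb with rfl | rfl; exacts [one_mem _, D.v_mem 1]
  have hbe := (D.J_comm_u hu hbJ).mul_left (D.J_comm_u hu heJ)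
  rw [eq, ← qb_mul hxu hbe, ← qb_mul hbe hxu,
    qb_eq (D.v_sq 0) (hxu.mul_left hbe) (hbe.mul_left hxu)]
  rcases hb with rfl | rfl
  · exact Or.inl (by rw [one_mul]; exact hex.eq)
  · obtain ⟨m, hm⟩ := D.v_perm x hxz 1
    fin_cases m
    · exact absurd ((MulAut.conj x).injective (hm.trans (conj_fix.2 hxu).symm) |> D.v_inj) (by decide)
    · exact Or.inl ((Datum.conj_fix.1 hm).mul_right hex).eq
    · refine Or.inr ?_
      have hP : D.v 1 * D.v 0 = D.v 2 := D.v_third (by decide) (by decide) (by decide)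
      calc x * (D.v 1 * e) = x * D.v 1 * x⁻¹ * (x * e) := by group
        _ = D.v 1 * D.v 0 * (e * x) := by rw [hm, hP, hex.eq]; rfl
        _ = D.v 1 * (e * x * D.v 0) := by
          rw [mul_assoc, (((D.J_comm_u hu heJ).mul_left hxu).eq).symm]
        _ = D.v 1 * e * x * D.v 0 := by simp only [mul_assoc]

end Cfsg.Agent.Fi23ByInvol
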