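/-
The centralisers of the central involutions of J: isolation of z, Fi23, or PSU(6,2).

* `two_cases` : the Fi22 characterisation applied;
* `Datum.isoD_or_fi23` : z is isolated in every C(z * v i), or G is Fi23;
* `Datum.centV` : in every C(v i), z is isolated, or the three involutions are permuted and PSU(6,2) appears;
* `Datum.vd_ne` : v i is conjugate to no z * v j.
-/
import Cfsg.Agent.Lib.Fi23ByInvol.Quotient
import Cfsg.Agent.Lib.Fi23ByInvol.Fi23Branch
import Cfsg.Agent.Lib.U62Rec.TwoMain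
import Cfsg.Agent.Lib.U62Base.Counts
import Cfsg.Agent.S0283

set_option autoImplicit false
set_option linter.unusedSectionVars false
set_option linter.style.haveILetI false

namespace Cfsg.Agent.Fi23ByInvol

open Cfsg.Agent.ThreeTransSU Cfsg.Agent.U62Rec
open scoped commutatorElement

universe u v w

theorem fix_comm : ∀ σ τ : Fin 3 → Fin 3, ∀ i : Fin 3, σ i = i → τ i = i → Function.Injective σ →
    Function.Injective τ → ∀ k, σ (τ k) = τ (σ k) := by decide +kernel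

/-- The Fi22 characterisation. -/
theorem two_cases {X : Type u} [Group X] [Finite X] {z : X} {F : Type v} [Field F] [Fintype F]
    (hF : Fintype.card F = 3) (K : Type w) [Field K] [Fintype K] (hK : Fintype.card K = 4)
    (H : TwoHyp X z F) : TwoConcl X z K ∨ ¬ ZCentral X z ∧ Cfsg.Spor.IsoFi22 X := by
  obtain ⟨hz, A, E, zc, hAE, hA, hE, hEc, hzc, hJ', hCJ, hn, ⟨e⟩⟩ := H
  obtain ⟨f⟩ := exists_U4_equiv F hF
  obtain ⟨a, T, hT⟩ := exists_two hz (Cfsg.pCore 2 ↥(Subgroup.centralizer ({z} : Set X))) A E hAE hA hE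
    hEc zc hzc hJ' hCJ (e.trans (MulAut.congr f))
  rcases T.main K hK with h | ⟨z₁, hz₁, hn, G₀, hm, hidx, hN, hiso⟩ | ⟨hnc, h⟩
  · exact Or.inl (Or.inl h)
  · refine Or.inl (Or.inr ⟨z₁, ?_, ?_, ?_, hn, G₀, hm, hidx, hN, hiso⟩)
    · rcases hz₁ with rfl | rfl
      · exact orderOf_eq_prime (by rw [pow_two, T.a_sq]) T.a_ne
      · exact orderOf_eq_prime (by rw [pow_two, T.az_sq]) T.az_ne
    · intro h
      have hzz : z₁ = 1 ∨ z₁ = z := LargeExtraspecial.mem_zpowers_two T.z_sq h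
      rcases hz₁ with rfl | rfl <;> rcases hzz with e' | e'
      exacts [T.a_ne e', T.a_nez e', T.az_ne e', T.az_nez e']
    · have hJ : z₁ ∈ T.J := by
        rcases hz₁ with rfl | rfl
        exacts [T.a_mem, mul_mem T.a_mem T.z_mem]
      have hW : T.isW z₁ := by
        rcases hz₁ with rfl | rfl
        exacts [T.W_a, T.W_az]
      rw [hT] at hJ
      obtain ⟨y, hy, rfl⟩ := hJ
      refine ⟨y.2, hy, fun j hj => Subtype.ext (T.W_J hW ?_).eq⟩
      rw [hT]
      exact ⟨j, hj, rfl⟩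
  · refine Or.inr ⟨fun hc => hnc fun x hx => ?_, h⟩
    have ha := T.a_mem
    rw [hT] at ha
    obtain ⟨y, hy, rfl⟩ := ha
    have key := hc y hy (fun i hi => Subtype.ext (T.W_J T.W_a (by rw [hT]; exact ⟨i, hi, rfl⟩)).eq)
      ⟨x, Subgroup.mem_centralizer_singleton_iff.2 hx.eq⟩
    exact congrArg Subtype.val key

/-- An element of the centralised complement of the odd core moves a central element within the odd core. -/
theorem core_comm {X : Type u} [Group X] {z y : X}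
    (htop : Subgroup.centralizer ({z} : Set X) ⊔ Cfsg.oddCore X = ⊤)
    (hy : ∀ c, Commute c z → Commute c y) (g : X) : g * y * g⁻¹ * y⁻¹ ∈ Cfsg.oddCore X := by
  haveI hn : (Cfsg.oddCore X).Normal := Cores.pPrimeCore_normal 2 X
  obtain ⟨c, hc, o, ho, rfl⟩ := Subgroup.mem_sup_of_normal_right.1 (htop ▸ Subgroup.mem_top g :
    g ∈ Subgroup.centralizer ({z} : Set X) ⊔ Cfsg.oddCore X)
  have hcy := (hy c (Subgroup.mem_centralizer_singleton_iff.1 hc)).eq
  have e : c * o * y * (c * o)⁻¹ * y⁻¹ = c * (o * (y * o⁻¹ * y⁻¹)) * c⁻¹ := by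
    have e1 : c⁻¹ * y⁻¹ = y⁻¹ * c⁻¹ := by rw [← mul_inv_rev, ← mul_inv_rev, hcy]
    calc c * o * y * (c * o)⁻¹ * y⁻¹ = c * o * y * o⁻¹ * (c⁻¹ * y⁻¹) := by group
      _ = _ := by rw [e1]; group
  rw [e]
  exact hn.conj_mem _ (mul_mem ho (hn.conj_mem _ (inv_mem ho) y)) c

variable {G : Type u} [Group G] [Finite G]

theorem odd_of_core {u x : G} (hu : u * u = 1) (hx : Commute x u) (h : qb u x ∈ Cfsg.oddCore (Bar u)) :
    ∃ n, Odd n ∧ (x ^ n = 1 ∨ x ^ n = u) := by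
  refine ⟨orderOf (qb u x), (Nat.coprime_two_right.1 (Cores.coprime_card_pPrimeCore 2)).of_dvd_nat
    (Subgroup.orderOf_dvd_natCard _ h), (qb_eq_one hu (hx.pow_left _)).1 ?_⟩
  have e : ∀ n : ℕ, qb u (x ^ n) = qb u x ^ n := fun n => by
    induction n with
    | zero => rw [pow_zero, pow_zero, qb_one]
    | succ n ih => rw [pow_succ, pow_succ, qb_mul (hx.pow_left n) hx, ih]
  rw [e, pow_orderOf_eq_one]

theorem qb_commutator {u m y : G} (hm : Commute m u) (hy : Commute y u) :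
    qb u (m * y * m⁻¹ * y⁻¹) = qb u m * qb u y * (qb u m)⁻¹ * (qb u y)⁻¹ := by
  rw [qb_mul ((hm.mul_left hy).mul_left hm.inv_left) hy.inv_left, qb_mul (hm.mul_left hy) hm.inv_left,
    qb_mul hm hy, qb_inv hm, qb_inv hy]

section Psu

variable {K : Type w} [Field K] [Fintype K]

theorem psu_facts (hK : Fintype.card K = 4) :
    Finite (Cfsg.PSU 6 K 2) ∧ IsSimpleGroup (Cfsg.PSU 6 K 2) ∧ Nat.card (Cfsg.PSU 6 K 2) ≠ 2 ∧
      commutator (Cfsg.PSU 6 K 2) = ⊤ := by
  have hc := U62Base.psu_card hK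
  haveI : Finite (Cfsg.PSU 6 K 2) := Nat.finite_of_card_ne_zero (by rw [hc]; norm_num)
  haveI hs : IsSimpleGroup (Cfsg.PSU 6 K 2) :=
    Cfsg.Agent.S0283.result (q := 2) (by rw [hK]; norm_num) 6 (by norm_num) (by norm_num)
  have h2 : Nat.card (Cfsg.PSU 6 K 2) ≠ 2 := by rw [hc]; norm_num
  refine ⟨inferInstance, hs, h2, ?_⟩
  refine (IsSimpleGroup.eq_bot_or_eq_top_of_normal (commutator (Cfsg.PSU 6 K 2)) inferInstance).resolve_left
    fun hb => ?_
  have hcom : ∀ a b : Cfsg.PSU 6 K 2, a * b = b * a := fun a b => commutatorElement_eq_one_iff_mul_comm.1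
    (Subgroup.mem_bot.1 (hb ▸ Subgroup.commutator_mem_commutator (Subgroup.mem_top a) (Subgroup.mem_top b)))
  haveI : Fact (Nat.Prime 2) := ⟨Nat.prime_two⟩
  obtain ⟨x, hx⟩ := exists_prime_orderOf_dvd_card' (G := Cfsg.PSU 6 K 2) 2 (by rw [hc]; norm_num)
  have hn : (Subgroup.zpowers x).Normal := ⟨fun a ha g => by rwa [hcom g a, mul_inv_cancel_right]⟩
  rcases IsSimpleGroup.eq_bot_or_eq_top_of_normal _ hn with e | e
  · have hx1 : x = 1 := Subgroup.mem_bot.1 (e ▸ Subgroup.mem_zpowers x)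
    rw [hx1, orderOf_one] at hx
    omega
  · exact h2 (by rw [← Subgroup.card_top, ← e, Nat.card_zpowers, hx])

end Psu

namespace Datum

variable {z : G} (D : Datum z)

/-- The common centraliser of the three involutions. -/
def CW : Subgroup G where
  carrier := {m | ∀ i, Commute m (D.v i)}
  one_mem' := fun _ => Commute.one_left _
  mul_mem' := fun ha hb i => (ha i).mul_left (hb i)
  inv_mem' := fun ha i => (ha i).inv_left

theorem CW_of_two {m : G} (h0 : Commute m (D.v 0)) (h1 : Commute m (D.v 1)) : m ∈ D.CW := fun i => by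
  have h2 : Commute m (D.v 2) := by
    rw [← D.v_third (i := 0) (m := 1) (by decide) (by decide) (by decide)]; exact h0.mul_right h1
  fin_cases i
  exacts [h0, h1, h2]

/-- Commutators of elements permuting the three with a common fixed one fix all. -/
theorem comm_mem_CW {i : Fin 3} {a b : G} (hP : ∀ m, Commute m (D.v i) → ∀ k, ∃ l, m * D.v k * m⁻¹ = D.v l)
    (ha : Commute a (D.v i)) (hb : Commute b (D.v i)) : a * b * a⁻¹ * b⁻¹ ∈ D.CW := fun n => by
  have key : ∀ m, Commute m (D.v i) → ∃ σ : Fin 3 → Fin 3, σ i = i ∧ Function.Injective σ ∧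
      ∀ k, m * D.v k * m⁻¹ = D.v (σ k) := fun m hm => by
    choose σ hσ using hP m hm
    refine ⟨σ, D.v_inj ((hσ i).symm.trans (conj_fix.2 hm)), fun k l e => ?_, hσ⟩
    exact D.v_inj ((MulAut.conj m).injective ((hσ k).trans (e ▸ (hσ l).symm)))
  obtain ⟨σ, s1, s2, hs⟩ := key a ha
  obtain ⟨τ, t1, t2, ht⟩ := key b hb
  have e1 : ∀ k, a * b * D.v k * (a * b)⁻¹ = b * a * D.v k * (b * a)⁻¹ := fun k => by
    rw [show a * b * D.v k * (a * b)⁻¹ = a * (b * D.v k * b⁻¹) * a⁻¹ by group, ht, hs,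
      show b * a * D.v k * (b * a)⁻¹ = b * (a * D.v k * a⁻¹) * b⁻¹ by group, hs, ht, fix_comm σ τ i s1 t1 s2 t2]
  obtain ⟨l, hl⟩ : ∃ l, b * a * D.v l * (b * a)⁻¹ = D.v n := by
    obtain ⟨τ', hτ⟩ := hP (b * a)⁻¹ (hb.mul_left ha).inv_left n
    exact ⟨τ', by rw [← hτ]; group⟩
  refine conj_fix.1 ?_
  conv_lhs => rw [← hl]
  rw [show a * b * a⁻¹ * b⁻¹ * (b * a * D.v l * (b * a)⁻¹) * (a * b * a⁻¹ * b⁻¹)⁻¹
      = a * b * D.v l * (a * b)⁻¹ by group, e1, hl]

/-- The alternative to isolation in the centralisers of the v i. -/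
def U6Out (K : Type w) [Field K] [Fintype K] : Prop :=
  (∀ i m, Commute m (D.v i) → ∀ k, ∃ l, m * D.v k * m⁻¹ = D.v l) ∧
    ∃ θ : D.CW →* Cfsg.PSU 6 K 2, Function.Surjective θ ∧ ∀ m, θ m = 1 ↔ (m : G) = 1 ∨ ∃ i, (m : G) = D.v i

section Bar

variable {u : G} (hu : u = D.v 0 ∨ u = z * D.v 0)
include hu

theorem uz_ne (g : G) : g * z * g⁻¹ ≠ u * z := by
  rcases hu with rfl | rfl
  · rw [(D.J_cent _ (D.v_mem 0)).eq]
    exact D.conj_z_ne (Or.inr rfl) g
  · rw [(D.J_cent _ (D.v_mem 0)).symm.eq, mul_assoc (D.v 0), D.z_sq, mul_one]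
    exact D.conj_z_ne (Or.inl rfl) g

theorem isoAt_of_top
    (htop : Subgroup.centralizer ({qb u z} : Set (Bar u)) ⊔ Cfsg.oddCore (Bar u) = ⊤) : IsoAt z u := by
  intro m hm
  have hzu := D.u_comm_z hu
  have hzi : z⁻¹ = z := inv_eq_of_mul_eq_one_right D.z_sq
  obtain ⟨n, ⟨i, rfl⟩, h⟩ := odd_of_core (D.u_sq hu) (((hm.mul_left hzu).mul_left hm.inv_left).mul_left hzu.inv_left)
    (by rw [qb_commutator hm hzu]; exact core_comm htop (fun c hc => hc) _)
  refine Odd.of_dvd_nat (odd_two_mul_add_one i) (orderOf_dvd_of_pow_eq_one (h.resolve_right fun h => ?_))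
  set r := m * z * m⁻¹ * z⁻¹ with hr
  have hrz : r * z = m * z * m⁻¹ := by rw [hr]; group
  have hw : m * z * m⁻¹ * (m * z * m⁻¹) = 1 := by
    rw [show m * z * m⁻¹ * (m * z * m⁻¹) = m * (z * z) * m⁻¹ by group, D.z_sq]; group
  have hinv : z * r * z = r⁻¹ := by
    rw [hr, mul_inv_rev, inv_inv, inv_eq_of_mul_eq_one_right hw, hzi]
    simp only [mul_assoc, D.z_sq, mul_one]
  have hpow : ∀ k : ℕ, z * r ^ k * z = (r ^ k)⁻¹ := fun k => by
    induction k with
    | zero => simp [D.z_sq]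
    | succ k ih =>
      calc z * r ^ (k + 1) * z = z * r ^ k * (z * z) * r * z := by rw [D.z_sq, mul_one, pow_succ]; group
        _ = (z * r ^ k * z) * (z * r * z) := by group
        _ = (r ^ (k + 1))⁻¹ := by rw [ih, hinv, ← mul_inv_rev, ← pow_succ']
  refine D.uz_ne hu (r ^ i * m) ?_
  rw [← h, show r ^ i * m * z * (r ^ i * m)⁻¹ = r ^ i * (m * z * m⁻¹) * (r ^ i)⁻¹ by group, ← hrz, ← hpow i]
  calc r ^ i * (r * z) * (z * r ^ i * z) = r ^ i * r * (z * z) * r ^ i * z := by group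
    _ = r ^ (2 * i + 1) * z := by rw [D.z_sq, mul_one, ← pow_succ, ← pow_add]; congr 2; omega

variable (R : Raw z) (hJ : D.J = R.J)
include hJ

/-- The involution of the second outcome. -/
theorem z1_form {z₁ : Bar u} (hz1 : orderOf z₁ = 2) (hz1z : z₁ ∉ Subgroup.zpowers (qb u z))
    (h₁ : z₁ ∈ Subgroup.centralizer ({qb u z} : Set (Bar u)))
    (hJ1 : (⟨z₁, h₁⟩ : ↥(Subgroup.centralizer ({qb u z} : Set (Bar u)))) ∈
      Cfsg.pCore 2 ↥(Subgroup.centralizer ({qb u z} : Set (Bar u))))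
    (hc1 : ∀ j ∈ Cfsg.pCore 2 ↥(Subgroup.centralizer ({qb u z} : Set (Bar u))), j * ⟨z₁, h₁⟩ = ⟨z₁, h₁⟩ * j) :
    ∃ e, (e = 1 ∨ e = z) ∧ qb u (D.v 1 * e) = z₁ := by
  obtain ⟨a, ha, ea⟩ := D.mem_pCore_bar hu hJ1
  have ea' : qb u a = z₁ := ea
  have hZ : D.Zs a := D.Zs_of_qb hu ha fun i hi => by
    rw [ea']
    exact congrArg Subtype.val (hc1 _ (D.qb_mem_pCore hu hi))
  obtain ⟨b, hb, e, he, eq⟩ := D.Zs_bar hu hZ
  rcases hb with rfl | rfl
  · exfalso
    rw [ea', one_mul] at eq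
    rcases he with h | h <;> rw [h] at eq
    · rw [qb_one] at eq; rw [eq, orderOf_one] at hz1; omega
    · exact hz1z (eq ▸ Subgroup.mem_zpowers _)
  · exact ⟨e, he, eq.symm.trans ea'⟩

end Bar

theorem central_of_normal {X : Type v} [Group X] {x : X} (hx : orderOf x = 2) (hn : (Subgroup.zpowers x).Normal)
    (g : X) : g * x = x * g := by
  rcases LargeExtraspecial.mem_zpowers_two (by rw [← sq, ← hx, pow_orderOf_eq_one])
    (hn.conj_mem x (Subgroup.mem_zpowers x) g) with e | e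
  · exact absurd (conj_eq_one_iff.1 e) (fun h => by rw [h, orderOf_one] at hx; omega)
  · exact (conj_fix.1 e).eq

theorem exists_swap_zero : ∃ o, Commute o z ∧ Commute o (D.v 0) ∧ ¬ D.In o ∧ o * D.v 1 * o⁻¹ = D.v 2 := by
  obtain ⟨o, oz, o0, o1⟩ := D.outer
  have ho : ¬ D.In o := fun h => o1 (h.2 1)
  exact ⟨o, oz, o0, ho, D.swap oz ho (by decide) (by decide) (by decide) o0⟩

variable (R : Raw z) (hJ : D.J = R.J) (hc : D.c = R.c) {F : Type v} [Field F] [Fintype F]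
  (hF : Fintype.card F = 3) {K : Type w} [Field K] [Fintype K] (hK : Fintype.card K = 4)
include hJ hc hF hK

/-- z is isolated in the centralisers of the z * v i, or G is Fi23. -/
theorem isoD_or_fi23 : (∀ i, IsoAt z (z * D.v i)) ∨ Cfsg.Spor.IsoFi23 G := by
  set u := z * D.v 0
  have hu : u = D.v 0 ∨ u = z * D.v 0 := Or.inr rfl
  rcases two_cases hF K hK (D.twoHyp hu R hJ hc hF) with (h | ⟨z₁, hz1, hz1z, ⟨h₁, hJ1, hc1⟩, hn, -⟩) | ⟨-, h⟩
  · refine Or.inl fun i => ?_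
    obtain ⟨k, hk, e⟩ := D.exists_shift 0 i
    have h1 := (D.isoAt_of_top hu h).conj hk
    rwa [show k * u * k⁻¹ = z * D.v i by
      rw [show k * u * k⁻¹ = (k * z * k⁻¹) * (k * D.v 0 * k⁻¹) by simp only [u]; group, e,
        conj_fix.2 hk]] at h1
  · exfalso
    obtain ⟨e, he, eq⟩ := D.z1_form hu R hJ hz1 hz1z h₁ hJ1 hc1
    obtain ⟨o, oz, o0, -, o1⟩ := D.exists_swap_zero
    have hou : Commute o u := oz.mul_right o0
    have heJ : e ∈ D.J := by rcases he with h | h <;> rw [h]; exacts [one_mem _, D.z_mem]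
    have hoe : Commute o e := by rcases he with h | h <;> rw [h]; exacts [Commute.one_right _, oz]
    have hw : Commute (D.v 1 * e) u := D.J_comm_u hu (mul_mem (D.v_mem 1) heJ)
    have h3 := central_of_normal hz1 hn (qb u o)
    rw [← eq, ← qb_mul hou hw, ← qb_mul hw hou, qb_eq (D.u_sq hu) (hou.mul_left hw) (hw.mul_left hou)] at h3
    have e2 : o * (D.v 1 * e) = D.v 2 * e * o := by
      rw [show o * (D.v 1 * e) = o * D.v 1 * o⁻¹ * (o * e) by group, o1, hoe.eq, mul_assoc]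
    rw [e2] at h3
    rcases h3 with h | h
    · exact absurd (D.v_inj (mul_right_cancel (mul_right_cancel h))) (by decide)
    · rw [mul_assoc _ o u, hou.eq, ← mul_assoc] at h
      have h' := mul_right_cancel h
      rw [mul_assoc _ e u, (D.J_comm_u hu heJ).eq, ← mul_assoc] at h'
      have h'' : D.v 2 = D.v 1 * u := mul_right_cancel h'
      refine D.z_ne ?_
      have h4 : D.v 1 * u = D.v 2 * z := by
        rw [← D.v_third (i := 1) (m := 0) (k := 2) (by decide) (by decide) (by decide), mul_assoc (D.v 1),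
          (D.J_cent _ (D.v_mem 0)).eq]
      exact left_eq_mul.1 (h''.trans h4)
  · exact Or.inr (D.isoFi23 0 h)

/-- The centralisers of the v i. -/
theorem centV (hD : ∀ i, IsoAt z (z * D.v i)) :
    ((∀ i, IsoAt z (D.v i)) ∧ ∀ i k m, Commute m (D.v i) →
      Odd (orderOf (m * D.v k * m⁻¹ * (D.v k)⁻¹)) ∨ Odd (orderOf (D.v i * (m * D.v k * m⁻¹ * (D.v k)⁻¹)))) ∨
      D.U6Out K := by
  have hu : D.v 0 = D.v 0 ∨ D.v 0 = z * D.v 0 := Or.inl rfl
  have hu2 := D.v_sq 0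
  have hP : D.v 1 * D.v 0 = D.v 2 := D.v_third (by decide) (by decide) (by decide)
  have h10 : Commute (D.v 1) (D.v 0) := D.J_comm_u hu (D.v_mem 1)
  -- transport to all indices
  have shift : ∀ (i k : Fin 3) (m : G), Commute m (D.v i) → ∃ s k',
      Commute (s⁻¹ * m * s) (D.v 0) ∧ s * D.v k' * s⁻¹ = D.v k ∧ s * D.v 0 * s⁻¹ = D.v i := by
    intro i k m hm
    obtain ⟨s, hs, e⟩ := D.exists_shift 0 i
    obtain ⟨k', hk'⟩ := D.v_perm s⁻¹ hs.inv_left k
    exact ⟨s, k', commute_conj' s (e.symm ▸ hm), by rw [← hk']; group, e⟩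
  rcases two_cases hF K hK (D.twoHyp hu R hJ hc hF) with
    (h | ⟨z₁, hz1, hz1z, ⟨h₁, hJ1, hc1⟩, hn, G₀, hm0, hidx, hN, ⟨f⟩⟩) | ⟨hnc, -⟩
  · refine Or.inl ⟨fun i => ?_, fun i k m hm => ?_⟩
    · obtain ⟨s, hs, e⟩ := D.exists_shift 0 i
      exact e ▸ (D.isoAt_of_top hu h).conj hs
    obtain ⟨s, k', hm', ek, ei⟩ := shift i k m hm
    have hord : ∀ x, orderOf (s * x * s⁻¹) = orderOf x := fun x =>
      orderOf_injective (MulAut.conj s).toMonoidHom (MulAut.conj s).injective x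
    have base : ∀ k (m : G), Commute m (D.v 0) → Odd (orderOf (m * D.v k * m⁻¹ * (D.v k)⁻¹)) ∨
        Odd (orderOf (D.v 0 * (m * D.v k * m⁻¹ * (D.v k)⁻¹))) := by
      intro k m hm
      have h1 : Odd (orderOf (m * D.v 1 * m⁻¹ * (D.v 1)⁻¹)) ∨
          Odd (orderOf (D.v 0 * (m * D.v 1 * m⁻¹ * (D.v 1)⁻¹))) := by
        obtain ⟨n, hn, h'⟩ := odd_of_core hu2 (((hm.mul_left h10).mul_left hm.inv_left).mul_left h10.inv_left)
          (by
            rw [qb_commutator hm h10]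
            refine core_comm h (fun c hc => ?_) _
            exact congrArg Subtype.val (D.zCentral _ (D.qb_mem_pCore hu (D.v_mem 1)) (fun i hi => by
              obtain ⟨j, hj, ej⟩ := D.mem_pCore_bar hu hi
              refine Subtype.ext ?_
              show (i : Bar (D.v 0)) * qb (D.v 0) (D.v 1) = qb (D.v 0) (D.v 1) * i
              rw [← ej, ← qb_mul (D.J_comm_u hu hj) h10, ← qb_mul h10 (D.J_comm_u hu hj), (D.v_comm 1 j hj).eq])
              ⟨c, Subgroup.mem_centralizer_singleton_iff.2 hc.eq⟩))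
        rcases h' with h' | h'
        · exact Or.inl (hn.of_dvd_nat (orderOf_dvd_of_pow_eq_one h'))
        · refine Or.inr (hn.of_dvd_nat (orderOf_dvd_of_pow_eq_one ?_))
          have hcx : Commute (D.v 0) (m * D.v 1 * m⁻¹ * (D.v 1)⁻¹) :=
            (((hm.mul_left h10).mul_left hm.inv_left).mul_left h10.inv_left).symm
          obtain ⟨t, rfl⟩ := hn
          rw [hcx.mul_pow, h', pow_succ, pow_mul, pow_two, hu2, one_pow, one_mul, hu2]
      fin_cases k
      · left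
        show Odd (orderOf (m * D.v 0 * m⁻¹ * (D.v 0)⁻¹))
        rw [conj_fix.2 hm, mul_inv_cancel, orderOf_one]
        exact odd_one
      · exact h1
      · show Odd (orderOf (m * D.v 2 * m⁻¹ * (D.v 2)⁻¹)) ∨ Odd (orderOf (D.v 0 * (m * D.v 2 * m⁻¹ * (D.v 2)⁻¹)))
        rwa [← hP, show m * (D.v 1 * D.v 0) * m⁻¹ * (D.v 1 * D.v 0)⁻¹ =
          m * D.v 1 * m⁻¹ * (m * D.v 0 * m⁻¹ * (D.v 0)⁻¹) * (D.v 1)⁻¹ by group, conj_fix.2 hm, mul_inv_cancel,
          mul_one]
    have e1 : m * D.v k * m⁻¹ * (D.v k)⁻¹ =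
        s * (s⁻¹ * m * s * D.v k' * (s⁻¹ * m * s)⁻¹ * (D.v k')⁻¹) * s⁻¹ := by rw [← ek]; group
    have e2 : ∀ x, D.v i * (s * x * s⁻¹) = s * (D.v 0 * x) * s⁻¹ := fun x => by rw [← ei]; group
    rw [e1, e2, hord, hord]
    exact base k' _ hm'
  swap
  · exact absurd D.zCentral hnc
  right
  obtain ⟨e, he, eq⟩ := D.z1_form hu R hJ hz1 hz1z h₁ hJ1 hc1
  obtain ⟨hfin, hS, hS2, hperf⟩ := psu_facts hK
  haveI := hfin
  haveI := hS
  haveI := hN
  set w := D.v 1 * e with hwdef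
  have heJ : e ∈ D.J := by rcases he with h | h <;> rw [h]; exacts [one_mem _, D.z_mem]
  have hwJ : w ∈ D.J := mul_mem (D.v_mem 1) heJ
  have hw : Commute w (D.v 0) := D.J_comm_u hu hwJ
  have cent := central_of_normal hz1 hn
  have hmw : ∀ m, Commute m (D.v 0) → ∃ ε, (ε = 1 ∨ ε = D.v 0) ∧ m * w = w * ε * m := fun m hm => by
    have h3 := cent (qb (D.v 0) m)
    rw [← eq, ← qb_mul hm hw, ← qb_mul hw hm, qb_eq hu2 (hm.mul_left hw) (hw.mul_left hm)] at h3
    rcases h3 with h | h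
    · exact ⟨1, Or.inl rfl, by rw [mul_one]; exact h⟩
    · exact ⟨D.v 0, Or.inr rfl, by rw [h, mul_assoc w m, hm.eq, ← mul_assoc]⟩
  let Y' : Subgroup G :=
    { carrier := {m | Commute m (D.v 0) ∧ qb (D.v 0) m ∈ G₀}
      one_mem' := ⟨Commute.one_left _, by rw [qb_one]; exact one_mem _⟩
      mul_mem' := fun {a b} ha hb => ⟨ha.1.mul_left hb.1, by rw [qb_mul ha.1 hb.1]; exact mul_mem ha.2 hb.2⟩
      inv_mem' := fun {a} ha => ⟨ha.1.inv_left, by rw [qb_inv ha.1]; exact inv_mem ha.2⟩ }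
  let θ : Y' →* Cfsg.PSU 6 K 2 := f.toMonoidHom.comp ((QuotientGroup.mk' _).comp
    { toFun := fun m => (⟨qb (D.v 0) m, m.2.2⟩ : G₀)
      map_one' := Subtype.ext qb_one
      map_mul' := fun a b => Subtype.ext (qb_mul a.2.1 b.2.1) })
  have hθs : Function.Surjective θ := fun s => by
    obtain ⟨⟨x, hx⟩, e'⟩ := QuotientGroup.mk_surjective (f.symm s)
    obtain ⟨m, hm, rfl⟩ := qb_surj x
    exact ⟨⟨m, hm, hx⟩, (congrArg f e').trans (f.apply_symm_apply s)⟩
  have hθker : ∀ m : Y', θ m = 1 ↔ qb (D.v 0) m = 1 ∨ qb (D.v 0) m = z₁ := fun m => by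
    show f (QuotientGroup.mk (⟨qb (D.v 0) m, m.2.2⟩ : G₀)) = 1 ↔ _
    rw [MulEquiv.map_eq_one_iff, QuotientGroup.eq_one_iff, Subgroup.mem_subgroupOf]
    have h11 : z₁ * z₁ = 1 := by
      have h2 := pow_orderOf_eq_one z₁
      rwa [hz1, sq] at h2
    refine ⟨fun h => LargeExtraspecial.mem_zpowers_two h11 h, ?_⟩
    rintro (h | h) <;> simp only [h]
    exacts [one_mem _, Subgroup.mem_zpowers _]
  let Y := Y' ⊓ Subgroup.centralizer ({w} : Set G)
  have hYtop : (Y.subgroupOf Y').map θ = ⊤ := by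
    rw [eq_top_iff, ← hperf, commutator_def, Subgroup.commutator_le]
    intro a _ b _
    obtain ⟨a, rfl⟩ := hθs a
    obtain ⟨b, rfl⟩ := hθs b
    refine ⟨⁅a, b⁆, ?_, map_commutatorElement θ a b⟩
    refine ⟨(⁅a, b⁆).2, Subgroup.mem_centralizer_singleton_iff.2 ?_⟩
    show Commute ((a : G) * b * (a : G)⁻¹ * (b : G)⁻¹) w
    obtain ⟨ea, hea, eA⟩ := hmw a a.2.1
    obtain ⟨eb, heb, eB⟩ := hmw b b.2.1
    have cc : ∀ ε, (ε = 1 ∨ ε = D.v 0) → ∀ x, Commute x (D.v 0) → Commute x ε := by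
      intro ε hε x hx
      rcases hε with h | h <;> rw [h]
      exacts [Commute.one_right x, hx]
    have ea2 := cc ea hea
    have eb2 := cc eb heb
    have f1 : (a : G) * b * w = w * (ea * eb) * (a * b) := by
      rw [mul_assoc (a : G), eB, ← mul_assoc (a : G), ← mul_assoc (a : G), eA,
        mul_assoc (w * ea) (a : G), (eb2 a a.2.1).eq]
      group
    have f2 : (b : G) * a * w = w * (eb * ea) * (b * a) := by
      rw [mul_assoc (b : G), eA, ← mul_assoc (b : G), ← mul_assoc (b : G), eB,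
        mul_assoc (w * eb) (b : G), (ea2 b b.2.1).eq]
      group
    have hee : ea * eb = eb * ea := by
      rcases hea with h | h <;> rcases heb with h' | h' <;> rw [h, h'] <;> simp
    refine conj_fix.1 ?_
    calc (a : G) * b * (a : G)⁻¹ * (b : G)⁻¹ * w * ((a : G) * b * (a : G)⁻¹ * (b : G)⁻¹)⁻¹
        = (a : G) * b * ((b * a : G)⁻¹ * w * (b * a)) * ((a : G) * b)⁻¹ := by group
      _ = (a : G) * b * (w * (eb * ea)) * ((a : G) * b)⁻¹ := by
          have c1 : Commute ((b : G) * a) (eb * ea) :=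
            ((eb2 _ b.2.1).mul_left (eb2 _ a.2.1)).mul_right ((ea2 _ b.2.1).mul_left (ea2 _ a.2.1))
          have e3 : ((b : G) * a)⁻¹ * w * (b * a) = w * (eb * ea) := by
            have h22 : (eb * ea) * (eb * ea) = 1 := by
              rcases hea with h | h <;> rcases heb with h' | h' <;> rw [h, h'] <;> simp [hu2]
            rw [mul_assoc, inv_mul_eq_iff_eq_mul]
            calc w * ((b : G) * a) = w * ((eb * ea) * (eb * ea)) * (b * a) := by rw [h22, mul_one]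
              _ = w * (eb * ea) * ((eb * ea) * (b * a)) := by group
              _ = w * (eb * ea) * ((b * a) * (eb * ea)) := by rw [c1.eq]
              _ = (b : G) * a * w * (eb * ea) := by rw [f2]; group
              _ = (b : G) * a * (w * (eb * ea)) := by group
          rw [e3]
      _ = w := by
          have h22 : (ea * eb) * (ea * eb) = 1 := by
            rcases hea with h | h <;> rcases heb with h' | h' <;> rw [h, h'] <;> simp [hu2]
          have c1 : Commute ((a : G) * b) (ea * eb) :=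
            ((ea2 _ a.2.1).mul_left (ea2 _ b.2.1)).mul_right ((eb2 _ a.2.1).mul_left (eb2 _ b.2.1))
          rw [← hee, ← mul_assoc, f1, mul_assoc (w * (ea * eb)), c1.eq, ← mul_assoc, mul_inv_cancel_right,
            mul_assoc, h22, mul_one]
  -- z lies in Y
  obtain ⟨p, q, hp, hq, hpq⟩ := D.comm_z_pair
  have hzu := D.u_comm_z hu
  have hzY' : z ∈ Y' := by
    refine ⟨hzu, ?_⟩
    have e3 : z = p * q * p⁻¹ * q⁻¹ := by
      rw [hpq, mul_assoc (q * p), ← (D.J_cent _ (inv_mem hp)).eq, ← mul_assoc, mul_inv_cancel_right, mul_assoc,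
        ← (D.J_cent _ (inv_mem hq)).eq, mul_inv_cancel_left]
    suffices h : qb (D.v 0) (p * q * p⁻¹ * q⁻¹) ∈ G₀ by rwa [← e3] at h
    rw [qb_commutator (D.J_comm_u hu hp) (D.J_comm_u hu hq)]
    have hi : ∀ x : Bar (D.v 0), x * x ∈ G₀ := fun x => by
      rw [Subgroup.mul_mem_iff_of_index_two hidx]
    rw [Subgroup.mul_mem_iff_of_index_two hidx, Subgroup.mul_mem_iff_of_index_two hidx,
      Subgroup.mul_mem_iff_of_index_two hidx, inv_mem_iff, inv_mem_iff]
    tauto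
  have hθz : θ ⟨z, hzY'⟩ ≠ 1 := fun h => by
    rcases (hθker _).1 h with h | h
    · exact D.qb_z_ne hu h
    · exact hz1z (h ▸ Subgroup.mem_zpowers _)
  have he1 : e = 1 := he.resolve_right fun h => by
    rw [h] at hwdef
    let θY : Y →* Cfsg.PSU 6 K 2 := θ.comp (Subgroup.inclusion inf_le_left)
    have hzY : z ∈ Y := ⟨hzY', Subgroup.mem_centralizer_singleton_iff.2
      ((D.J_cent _ hwJ).symm).eq⟩
    refine no_section hS hS2 Y θY (fun s => ?_) D.z_sq hzY hθz fun m hm => ?_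
    · obtain ⟨m, hm, rfl⟩ := (hYtop ▸ Subgroup.mem_top s : s ∈ (Y.subgroupOf Y').map θ)
      exact ⟨⟨m, hm⟩, rfl⟩
    · have hwe : w = z * D.v 1 := by rw [hwdef, (D.J_cent _ (D.v_mem 1)).eq]
      exact hD 1 m (hwe ▸ (Subgroup.mem_centralizer_singleton_iff.1 hm.2 : Commute m w))
  subst he1
  rw [mul_one] at hwdef
  have hperm0 : ∀ m, Commute m (D.v 0) → ∀ k, ∃ l, m * D.v k * m⁻¹ = D.v l := by
    intro m hm
    obtain ⟨ε, hε, e'⟩ := hmw m hm
    rw [hwdef] at e'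
    have h1 : ∃ l, m * D.v 1 * m⁻¹ = D.v l := by
      rcases hε with h | h <;> rw [h] at e' <;> rw [e', mul_inv_cancel_right]
      exacts [⟨1, mul_one _⟩, ⟨2, hP⟩]
    intro k
    fin_cases k
    · exact ⟨0, conj_fix.2 hm⟩
    · exact h1
    · obtain ⟨l, hl⟩ := h1
      show ∃ l, m * D.v 2 * m⁻¹ = D.v l
      rw [← hP, show m * (D.v 1 * D.v 0) * m⁻¹ = m * D.v 1 * m⁻¹ * (m * D.v 0 * m⁻¹) by group, hl,
        conj_fix.2 hm]
      rcases hε with h | h <;> rw [h] at e'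
      · exact ⟨2, by rw [← hP, ← hl, e', mul_one, mul_inv_cancel_right]⟩
      · exact ⟨1, by rw [← hl, e', mul_inv_cancel_right, mul_assoc, hu2, mul_one]⟩
  refine ⟨fun i m hm k => ?_, ?_⟩
  · obtain ⟨s, hs, e'⟩ := D.exists_shift 0 i
    obtain ⟨k', hk'⟩ := D.v_perm s⁻¹ hs.inv_left k
    obtain ⟨l, hl⟩ := hperm0 (s⁻¹ * m * s) (commute_conj' s (e'.symm ▸ hm)) k'
    obtain ⟨l', hl'⟩ := D.v_perm s hs l
    refine ⟨l', ?_⟩
    rw [← hl', ← hl, ← hk']
    group
  -- Y' is the common centraliser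
  obtain ⟨o, oz, o0, -, o1⟩ := D.exists_swap_zero
  have ho1 : ¬ Commute o w := fun h => by
    rw [hwdef] at h
    exact absurd (D.v_inj ((conj_fix.2 h).symm.trans o1)) (by decide)
  have hY'w : ∀ m ∈ Y', Commute m w := fun m hm => by
    obtain ⟨m', hm', e'⟩ := (hYtop ▸ Subgroup.mem_top (θ ⟨m, hm⟩) : θ ⟨m, hm⟩ ∈ (Y.subgroupOf Y').map θ)
    have hk : θ (m'⁻¹ * ⟨m, hm⟩) = 1 := by rw [map_mul, map_inv, e', inv_mul_cancel]
    have hm'w : Commute (m' : G) w := Subgroup.mem_centralizer_singleton_iff.1 hm'.2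
    have hd : Commute ((m' : G)⁻¹ * m) w := by
      have hdu : Commute ((m' : G)⁻¹ * m) (D.v 0) := m'.2.1.inv_left.mul_left hm.1
      rcases (hθker _).1 hk with h | h
      · rcases (qb_eq_one hu2 hdu).1 h with h | h <;> rw [h]
        exacts [Commute.one_left _, hw.symm]
      · rw [← eq] at h
        rcases (qb_eq hu2 hdu hw).1 h with h | h <;> rw [h]
        exact (Commute.refl w).mul_left hw.symm
    have := hm'w.mul_left hd
    rwa [mul_inv_cancel_left] at this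
  have hCW : ∀ m, m ∈ D.CW → m ∈ Y' := fun m hm => by
    refine ⟨hm 0, ?_⟩
    by_contra hne
    have hou : Commute o (D.v 0) := o0
    have ho2 : qb (D.v 0) o ∉ G₀ := fun h => ho1 (hY'w o ⟨hou, h⟩)
    have hom : o * m ∈ Y' := ⟨hou.mul_left (hm 0), by
      rw [qb_mul hou (hm 0), Subgroup.mul_mem_iff_of_index_two hidx]; exact iff_of_false ho2 hne⟩
    have h1 : Commute (o * m) w := hY'w _ hom
    have h2 : Commute m⁻¹ w := by rw [hwdef]; exact (hm 1).inv_left
    have := h1.mul_left h2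
    rw [mul_inv_cancel_right] at this
    exact ho1 this
  refine ⟨θ.comp (Subgroup.inclusion hCW), fun s => ?_, fun m => ?_⟩
  · obtain ⟨m, rfl⟩ := hθs s
    exact ⟨⟨m, D.CW_of_two m.2.1 (hwdef ▸ hY'w m m.2)⟩, rfl⟩
  · have h0 : Commute (m : G) (D.v 0) := m.2 0
    rw [MonoidHom.comp_apply, hθker]
    show qb (D.v 0) (m : G) = 1 ∨ qb (D.v 0) (m : G) = z₁ ↔ _
    rw [← eq, hwdef, qb_eq_one hu2 h0, qb_eq hu2 h0 h10, hP]
    constructor
    · rintro ((h | h) | (h | h))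
      exacts [Or.inl h, Or.inr ⟨0, h⟩, Or.inr ⟨1, h⟩, Or.inr ⟨2, h⟩]
    · rintro (h | ⟨i, h⟩)
      · exact Or.inl (Or.inl h)
      · fin_cases i
        exacts [Or.inl (Or.inr h), Or.inr (Or.inl h), Or.inr (Or.inr h)]

omit hc hF hK in
/-- v i is conjugate to no z * v j. -/
theorem vd_ne {L : Type w} [Field L] [Fintype L] (hL : Fintype.card L = 4)
    (hD : ∀ i, IsoAt z (z * D.v i)) (hV : (∀ i, IsoAt z (D.v i)) ∨ D.U6Out L) (i j : Fin 3) (g : G) :
    g * D.v i * g⁻¹ ≠ z * D.v j := by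
  intro hg
  set u := z * D.v j
  have hju : ∀ x ∈ D.J, Commute x u := fun x hx => (D.J_cent x hx).mul_right (D.v_comm j x hx)
  have hzu : Commute z u := hju z D.z_mem
  have hgu : g⁻¹ * u * g = D.v i := by rw [← hg]; group
  rcases hV with hV | ⟨hP, θ, hθ, hker⟩
  · set a := g * z * g⁻¹ with ha
    have ha2 : a * a = 1 := by
      rw [ha, show g * z * g⁻¹ * (g * z * g⁻¹) = g * (z * z) * g⁻¹ by group, D.z_sq]; group
    have hau : Commute a u := by rw [← hg]; exact commute_conj g (D.J_cent _ (D.v_mem i)).symm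
    have hzi : z⁻¹ = z := inv_eq_of_mul_eq_one_right D.z_sq
    have hodd : Odd (orderOf ((a * z) ^ 2)) := by
      have h1 := hD j a hau
      rwa [inv_eq_of_mul_eq_one_right ha2, hzi, show a * z * a * z = (a * z) ^ 2 by rw [pow_two]; group] at h1
    obtain ⟨n, hn⟩ := exists_commuting ha2 D.z_sq hodd
    set t := (a * z) ^ n * g with ht
    have htz : Commute (t * z * t⁻¹) z := by
      rwa [ht, show (a * z) ^ n * g * z * ((a * z) ^ n * g)⁻¹ = (a * z) ^ n * (g * z * g⁻¹) * ((a * z) ^ n)⁻¹ by group,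
        ← ha]
    have htv : t * D.v i * t⁻¹ = u := by
      rw [ht, show (a * z) ^ n * g * D.v i * ((a * z) ^ n * g)⁻¹
        = (a * z) ^ n * (g * D.v i * g⁻¹) * ((a * z) ^ n)⁻¹ by group, hg]
      exact conj_fix.2 ((hau.mul_left hzu).pow_left n)
    have hcent : ∀ x ∈ D.J, Commute (t * z * t⁻¹) x := fun x hx => by
      have h1 : Commute (t⁻¹ * x * t) (D.v i) := commute_conj' t (htv.symm ▸ hju x hx)
      have h2 := hV i _ h1
      have e : t * (t⁻¹ * x * t * z * (t⁻¹ * x * t)⁻¹ * z⁻¹) * t⁻¹ = x * (t * z * t⁻¹) * x⁻¹ * (t * z * t⁻¹)⁻¹ := by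
        group
      have h3 : Odd (orderOf (x * (t * z * t⁻¹) * x⁻¹ * (t * z * t⁻¹)⁻¹)) := by
        rw [← e]
        exact (orderOf_injective (MulAut.conj t).toMonoidHom (MulAut.conj t).injective _).symm ▸ h2
      refine (conj_fix.1 (mul_inv_eq_one.1 (D.odd_J ?_ h3))).symm
      rw [show x * (t * z * t⁻¹) * x⁻¹ * (t * z * t⁻¹)⁻¹ = x * ((t * z * t⁻¹) * x⁻¹ * (t * z * t⁻¹)⁻¹) by group]
      exact mul_mem hx (D.J_norm _ htz _ (inv_mem hx))
    have htJ : t * z * t⁻¹ ∈ D.J := hJ ▸ R.J_cf _ htz (hJ ▸ hcent)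
    rcases D.Zs_of_central htJ (fun x hx => (hcent x hx).symm) with h | h | ⟨k, h | h⟩
    · exact D.z_ne (conj_eq_one_iff.1 h)
    · obtain ⟨l, hl⟩ := D.v_perm t (conj_fix.1 h) i
      rw [htv] at hl
      have hv := congrArg D.vec hl
      have : z = D.v l * D.v j := by
        rw [← hl]; simp only [u]; rw [mul_assoc, D.v_sq, mul_one]
      by_cases hlj : l = j
      · exact D.z_ne (this.trans (by rw [hlj, D.v_sq]))
      · obtain ⟨k, k1, k2, -⟩ := fin3 l j hlj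
        exact D.v_z k ((D.v_third k1 k2 hlj).symm.trans this.symm)
    · exact D.conj_z_ne (Or.inl rfl) t h
    · exact D.conj_z_ne (Or.inr rfl) t h
  · obtain ⟨hfin, hS, hS2, -⟩ := psu_facts hL
    haveI := hfin
    set Y := D.CW.comap (MulAut.conj g⁻¹).toMonoidHom
    have hmemY : ∀ {x}, x ∈ Y ↔ g⁻¹ * x * g ∈ D.CW := fun {x} => by
      show g⁻¹ * x * g⁻¹⁻¹ ∈ D.CW ↔ _
      rw [inv_inv]
    obtain ⟨p, q, hp, hq, hpq⟩ := D.comm_z_pair
    have hzpq : z = p * q * p⁻¹ * q⁻¹ := by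
      rw [hpq, mul_assoc (q * p), ← (D.J_cent _ (inv_mem hp)).eq, ← mul_assoc, mul_inv_cancel_right, mul_assoc,
        ← (D.J_cent _ (inv_mem hq)).eq, mul_inv_cancel_left]
    have hzY : z ∈ Y := hmemY.2 (by
      have hc' : ∀ x ∈ D.J, Commute (g⁻¹ * x * g) (D.v i) := fun x hx => commute_conj' g (hg.symm ▸ hju x hx)
      have h1 := D.comm_mem_CW (fun m hm => hP i m hm) (hc' p hp) (hc' q hq)
      rwa [show g⁻¹ * p * g * (g⁻¹ * q * g) * (g⁻¹ * p * g)⁻¹ * (g⁻¹ * q * g)⁻¹ = g⁻¹ * (p * q * p⁻¹ * q⁻¹) * g by group,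
        ← hzpq] at h1)
    let θ' : Y →* Cfsg.PSU 6 L 2 := θ.comp
      { toFun := fun x => (⟨g⁻¹ * x * g, hmemY.1 x.2⟩ : D.CW)
        map_one' := Subtype.ext (by simp)
        map_mul' := fun a b => Subtype.ext (by push_cast; group) }
    refine no_section hS hS2 Y θ' (fun s => ?_) D.z_sq hzY ?_ fun m hm => hD j m ?_
    · obtain ⟨⟨x, hx⟩, rfl⟩ := hθ s
      refine ⟨⟨g * x * g⁻¹, hmemY.2 (by rw [show g⁻¹ * (g * x * g⁻¹) * g = x by group]; exact hx)⟩, ?_⟩
      show θ _ = θ _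
      congr 1
      exact Subtype.ext (by show g⁻¹ * (g * x * g⁻¹) * g = x; group)
    · intro h
      have h' := (hker ⟨g⁻¹ * z * g, hmemY.1 hzY⟩).1 h
      rcases h' with e | ⟨k, e⟩
      · exact D.z_ne (conj_eq_one_iff.1 (show g⁻¹ * z * g⁻¹⁻¹ = 1 by rw [inv_inv]; exact e))
      · exact D.conj_z_ne (Or.inl rfl) g⁻¹ (show g⁻¹ * z * g⁻¹⁻¹ = D.v k by rw [inv_inv]; exact e)
    · have h1 : Commute (g⁻¹ * m * g) (D.v i) := hmemY.1 hm i
      have h2 := commute_conj g h1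
      rwa [hg, show g * (g⁻¹ * m * g) * g⁻¹ = m by group] at h2

end Datum

end Cfsg.Agent.Fi23ByInvol
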