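/-
Fi23 by the centraliser of a 2-central involution: the final assembly.

* `Datum.N` : the stabiliser of the three central involutions;
* `Datum.cd_le` : the centralisers of the z * v i lie in it;
* `Datum.N_top` : it is everything when z is not isolated in the centralisers of the v i;
* `main` : the three outcomes.
-/
import Cfsg.Agent.Lib.Fi23ByInvol.Outcomes
import Cfsg.Agent.Lib.Fi23ByInvol.Control

set_option autoImplicit false
set_option linter.unusedSectionVars false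
set_option linter.style.haveILetI false

namespace Cfsg.Agent.Fi23ByInvol

open Cfsg.Agent.ThreeTransSU Cfsg.Agent.U62Rec

universe u v w

variable {G : Type u} [Group G] [Finite G] {z : G}

namespace Datum

variable (D : Datum z)

/-- The stabiliser of the three central involutions. -/
def N : Subgroup G where
  carrier := {g | ∀ i, ∃ k, g * D.v i * g⁻¹ = D.v k}
  one_mem' := fun i => ⟨i, by group⟩
  mul_mem' := fun {a b} ha hb i => by
    obtain ⟨k, hk⟩ := hb i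
    obtain ⟨l, hl⟩ := ha k
    exact ⟨l, by rw [show a * b * D.v i * (a * b)⁻¹ = a * (b * D.v i * b⁻¹) * a⁻¹ by group, hk, hl]⟩
  inv_mem' := fun {a} ha i => by
    choose σ hσ using ha
    have hinj : Function.Injective σ := fun k l e =>
      D.v_inj ((MulAut.conj a).injective ((hσ k).trans (e ▸ (hσ l).symm)))
    obtain ⟨k, hk⟩ := (Finite.injective_iff_surjective.1 hinj) i
    exact ⟨k, by rw [← hk, ← hσ k]; group⟩

theorem H_le_N {g : G} (h : Commute g z) : g ∈ D.N := D.v_perm g h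

/-- Conjugation shifting the indices. -/
theorem shift_to (H : ∀ i m, Commute m (D.v i) → m ∈ D.N) {g : G} {i j : Fin 3}
    (h : g⁻¹ * D.v i * g = D.v j) : g ∈ D.N := by
  obtain ⟨s, hs, e⟩ := D.exists_shift i j
  have h1 : Commute (g * s) (D.v i) := conj_fix.1 (by
    rw [show g * s * D.v i * (g * s)⁻¹ = g * (s * D.v i * s⁻¹) * g⁻¹ by group, e, ← h]; group)
  have h2 := mul_mem (H i _ h1) (inv_mem (D.H_le_N hs))
  rwa [mul_inv_cancel_right] at h2

section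

variable (R : Raw z) (hJ : D.J = R.J)
include hJ

theorem cd_le (hD : ∀ i, IsoAt z (z * D.v i)) (hP : ∀ i m, Commute m (D.v i) → m ∈ D.N) (i : Fin 3) {m : G}
    (hm : Commute m (z * D.v i)) : m ∈ D.N := by
  set d := z * D.v i with hd
  set L := Subgroup.centralizer ({d} : Set G)
  have memL : ∀ {x}, x ∈ L ↔ Commute x d := fun {x} => Subgroup.mem_centralizer_singleton_iff
  have hdu : ∀ x ∈ D.J, Commute x d := fun x hx => (D.J_cent x hx).mul_right (D.v_comm i x hx)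
  have hzd : Commute z d := hdu z D.z_mem
  have hzi : z⁻¹ = z := inv_eq_of_mul_eq_one_right D.z_sq
  set zL : L := ⟨z, memL.2 hzd⟩
  have hiso : Cfsg.IsIsolatedInvolution zL := by
    refine ⟨orderOf_eq_prime (Subtype.ext (by rw [Subgroup.coe_pow, pow_two]; exact D.z_sq))
      (fun e => D.z_ne (congrArg Subtype.val e)), fun g hg => Subtype.ext ?_⟩
    exact Hyps.eq_of_iso (hD i) (memL.1 g.2) (congrArg Subtype.val hg.symm.eq) D
  have htop := centralizer_sup_oddCore hiso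
  set O := (Cfsg.oddCore L).map L.subtype
  haveI hOn : (Cfsg.oddCore L).Normal := Cores.pPrimeCore_normal 2 L
  have hOL : ∀ x ∈ O, x ∈ L := by rintro _ ⟨x, -, rfl⟩; exact x.2
  have hodd : ∀ x ∈ O, Odd (orderOf x) := by
    rintro _ ⟨x, hx, rfl⟩
    rw [Subgroup.subtype_apply, Subgroup.orderOf_coe]
    exact (Nat.coprime_two_right.1 (Cores.coprime_card_pPrimeCore 2)).of_dvd_nat
      (Subgroup.orderOf_dvd_natCard _ hx)
  have hconj : ∀ k ∈ L, ∀ x ∈ O, k * x * k⁻¹ ∈ O := by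
    rintro k hk _ ⟨x, hx, rfl⟩
    exact ⟨⟨k, hk⟩ * x * ⟨k, hk⟩⁻¹, hOn.conj_mem x hx _, rfl⟩
  have hfree : ∀ x ∈ O, Commute x z → x = 1 := fun x hx hxz => by
    refine D.odd_J ?_ (hodd x hx)
    refine hJ ▸ R.J_cf x hxz fun j hj => ?_
    rw [← hJ] at hj
    refine conj_fix.1 (mul_inv_eq_one.1 (D.odd_J ?_ (hodd _ ?_)))
    · exact mul_mem (D.J_norm x hxz j hj) (inv_mem hj)
    · rw [show x * j * x⁻¹ * j⁻¹ = x * (j * x⁻¹ * j⁻¹) by group]
      exact mul_mem hx (hconj j (memL.2 (hdu j hj)) _ (inv_mem hx))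
  have hzO : ∀ x ∈ O, z * x * z⁻¹ ∈ O := hconj z zL.2
  have hinv : ∀ x ∈ O, z * x * z⁻¹ = x⁻¹ := by
    let f : O → O := fun x => ⟨(x : G)⁻¹ * (z * x * z⁻¹), mul_mem (inv_mem x.2) (hzO x x.2)⟩
    have hf : Function.Injective f := fun x y e => by
      have e1 : (x : G)⁻¹ * (z * x * z⁻¹) = (y : G)⁻¹ * (z * y * z⁻¹) := congrArg Subtype.val e
      have e2 : z * ((y : G) * (x : G)⁻¹) * z⁻¹ = (y : G) * (x : G)⁻¹ := by
        calc z * ((y : G) * (x : G)⁻¹) * z⁻¹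
            = (y : G) * ((y : G)⁻¹ * (z * y * z⁻¹)) * (z * x * z⁻¹)⁻¹ := by group
          _ = _ := by rw [← e1]; group
      exact Subtype.ext (mul_inv_eq_one.1 (hfree _ (mul_mem y.2 (inv_mem x.2)) (conj_fix.1 e2).symm)).symm
    intro x hx
    obtain ⟨⟨y, hy⟩, e⟩ := Finite.injective_iff_surjective.1 hf ⟨x, hx⟩
    have e' : y⁻¹ * (z * y * z⁻¹) = x := congrArg Subtype.val e
    rw [← e', show z * (y⁻¹ * (z * y * z⁻¹)) * z⁻¹ = z * y⁻¹ * z * y * (z * z)⁻¹ by group, D.z_sq, hzi]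
    simp only [mul_inv_rev, inv_inv, hzi, inv_one, mul_one]
    group
  have hab : ∀ a ∈ O, ∀ b ∈ O, Commute a b := fun a ha b hb => by
    have e := hinv _ (mul_mem ha hb)
    rw [show z * (a * b) * z⁻¹ = (z * a * z⁻¹) * (z * b * z⁻¹) by group, hinv a ha, hinv b hb,
      ← mul_inv_rev, inv_inj] at e
    exact e.symm
  have hvi : D.v i = z * d := by rw [hd, ← mul_assoc, D.z_sq, one_mul]
  have hinvv : ∀ x ∈ O, D.v i * x * (D.v i)⁻¹ = x⁻¹ := fun x hx => by
    rw [hvi, show z * d * x * (z * d)⁻¹ = z * (d * x * d⁻¹) * z⁻¹ by group,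
      conj_fix.2 (memL.1 (hOL x hx)).symm]
    exact hinv x hx
  obtain ⟨a, ha⟩ : ∃ a : Fin 3, a ≠ i := ⟨i + 1, (fin3_next i i).1⟩
  obtain ⟨b, b1, b2, -⟩ := fin3 i a (Ne.symm ha)
  have hvb : D.v i * D.v a = D.v b := D.v_third b1 b2 (Ne.symm ha)
  have hON : ∀ x ∈ O, x ∈ D.N := fun x hx => by
    set y := D.v a * x * (D.v a)⁻¹
    have hy : y ∈ O := hconj _ (memL.2 (hdu _ (D.v_mem a))) x hx
    have hay : D.v a * y * (D.v a)⁻¹ = x := by
      rw [show D.v a * y * (D.v a)⁻¹ = D.v a * D.v a * x * (D.v a * D.v a)⁻¹ by simp only [y]; group, D.v_sq]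
      group
    have h1 : x * y ∈ D.N := hP a _ (conj_fix.1 (by
      rw [show D.v a * (x * y) * (D.v a)⁻¹ = y * (D.v a * y * (D.v a)⁻¹) by simp only [y]; group, hay,
        (hab y hy x hx).eq])).symm
    have h2 : x * y⁻¹ ∈ D.N := hP b _ (conj_fix.1 (by
      rw [← hvb, show D.v i * D.v a * (x * y⁻¹) * (D.v i * D.v a)⁻¹
        = D.v i * (y * (D.v a * y * (D.v a)⁻¹)⁻¹) * (D.v i)⁻¹ by simp only [y]; group, hay,
        hinvv _ (mul_mem hy (inv_mem hx)), mul_inv_rev, inv_inv])).symm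
    have h3 : x ^ 2 ∈ D.N := by
      have := mul_mem h1 h2
      rwa [(hab x hx y hy).eq, mul_assoc, ← mul_assoc x, ← pow_two, ← mul_assoc,
        ((hab x hx y hy).pow_left 2).symm.eq, mul_inv_cancel_right] at this
    obtain ⟨k, hk⟩ := hodd x hx
    have e : x = (x ^ 2) ^ (k + 1) := by
      rw [← pow_mul, show 2 * (k + 1) = 2 * k + 1 + 1 by omega, pow_succ, ← hk, pow_orderOf_eq_one, one_mul]
    exact e ▸ pow_mem h3 _
  obtain ⟨h, hh, o, ho, e⟩ := Subgroup.mem_sup_of_normal_right.1 (htop ▸ Subgroup.mem_top (⟨m, memL.2 hm⟩ : L) :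
    (⟨m, memL.2 hm⟩ : L) ∈ Subgroup.centralizer ({zL} : Set L) ⊔ Cfsg.oddCore L)
  rw [show m = (h : G) * (o : G) from (congrArg Subtype.val e).symm]
  exact mul_mem (D.H_le_N (congrArg Subtype.val (Subgroup.mem_centralizer_singleton_iff.1 hh)))
    (hON _ ⟨o, ho, rfl⟩)

/-- A Sylow 2-subgroup of N centralises z. -/
theorem exists_conj_cent (T : Subgroup G) (hT : IsPGroup 2 T) (hTN : T ≤ D.N) :
    ∃ n ∈ D.N, ∀ t ∈ T, Commute (n * t * n⁻¹) z := by
  haveI : Fact (Nat.Prime 2) := ⟨Nat.prime_two⟩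
  set C := (Subgroup.centralizer ({z} : Set G)).subgroupOf D.N
  obtain ⟨Q0⟩ : Nonempty (Sylow 2 C) := inferInstance
  set Q := (Q0 : Subgroup C).map C.subtype
  obtain ⟨P, hP⟩ := (Q0.2.map C.subtype).exists_le_sylow
  -- J lies in Q
  have hCz : ∀ {x : D.N}, x ∈ C ↔ Commute (x : G) z := fun {x} => Subgroup.mem_centralizer_singleton_iff
  have hJN : ∀ {j}, j ∈ D.J → j ∈ D.N := fun hj => D.H_le_N (D.J_cent _ hj)
  have hJC : ∀ {j} (hj : j ∈ D.J), (⟨j, hJN hj⟩ : D.N) ∈ C := fun hj => hCz.2 (D.J_cent _ hj)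
  haveI : (((D.J.subgroupOf D.N)).subgroupOf C).Normal := ⟨fun n hn g => D.J_norm _ (hCz.1 g.2) _ hn⟩
  have hJQ : ∀ j (hj : j ∈ D.J), (⟨j, hJN hj⟩ : D.N) ∈ Q := fun j hj => by
    have hle : ((D.J.subgroupOf D.N)).subgroupOf C ≤ (Q0 : Subgroup C) :=
      le_trans (Cores.le_pCore inferInstance ((D.J_two.comap_of_injective D.N.subtype
        D.N.subtype_injective).comap_of_injective C.subtype C.subtype_injective)) (Cores.pCore_le_sylow Q0)
    exact ⟨⟨⟨j, hJN hj⟩, hJC hj⟩, hle hj, rfl⟩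
  have hPQ : (P : Subgroup D.N) ≤ Q := by
    by_contra hne
    haveI : Group.IsNilpotent (P : Subgroup D.N) := P.2.isNilpotent
    have hlt : Q.subgroupOf (P : Subgroup D.N) < ⊤ :=
      lt_top_iff_ne_top.2 fun e => hne (Subgroup.subgroupOf_eq_top.1 e)
    obtain ⟨⟨y, hyP⟩, hy, hyQ⟩ := SetLike.exists_of_lt (Group.normalizerCondition_of_isNilpotent _ hlt)
    have hconj : ∀ q ∈ Q, y * q * y⁻¹ ∈ Q := fun q hq =>
      (Subgroup.mem_normalizer_iff.1 hy ⟨q, hP hq⟩).1 hq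
    have hback : ∀ q ∈ Q, y⁻¹ * q * y ∈ Q := fun q hq => by
      have h := (Subgroup.mem_normalizer_iff.1 hy ⟨y⁻¹ * q * y, mul_mem (mul_mem (inv_mem hyP) (hP hq)) hyP⟩).2
      refine h ?_
      show y * (y⁻¹ * q * y) * y⁻¹ ∈ Q
      rwa [show y * (y⁻¹ * q * y) * y⁻¹ = q by group]
    -- y fixes z
    have hzQ : (⟨z, hJN D.z_mem⟩ : D.N) ∈ Q := hJQ z D.z_mem
    have hQz : ∀ q ∈ Q, Commute (q : G) z := by rintro _ ⟨q, -, rfl⟩; exact hCz.1 q.2
    set w := (y : G) * z * (y : G)⁻¹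
    have hwz : Commute w z := hQz _ (hconj _ hzQ)
    have hwJ : ∀ j ∈ D.J, Commute w j := fun j hj => by
      have h1 := hQz _ (hback _ (hJQ j hj))
      have h2 := commute_conj (y : G) h1
      rw [show (y : G) * (((y⁻¹ * ⟨j, hJN hj⟩ * y : D.N)) : G) * (y : G)⁻¹ = j by push_cast; group] at h2
      exact h2.symm
    have hwJ' : w ∈ D.J := hJ ▸ R.J_cf w hwz (hJ ▸ hwJ)
    have hyz : Commute (y : G) z := by
      rcases D.Zs_of_central hwJ' (fun x hx => (hwJ x hx).symm) with h | h | ⟨k, h | h⟩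
      · exact absurd (conj_eq_one_iff.1 h) D.z_ne
      · exact conj_fix.1 h
      · exact absurd h (D.conj_z_ne (Or.inl rfl) _)
      · exact absurd h (D.conj_z_ne (Or.inr rfl) _)
    -- so a larger 2-group in C
    set yC : C := ⟨y, hCz.2 hyz⟩
    set M := ((P : Subgroup D.N)).comap C.subtype
    have hM : IsPGroup 2 M := P.2.comap_of_injective C.subtype C.subtype_injective
    have hQM : (Q0 : Subgroup C) ≤ M := fun q hq => hP ⟨q, hq, rfl⟩
    have hMQ : M = Q0 := Q0.3 hM hQM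
    exact hyQ ⟨yC, hMQ ▸ (show yC ∈ M from hyP), rfl⟩
  set T' := T.subgroupOf D.N
  obtain ⟨P1, hP1⟩ := (hT.comap_of_injective D.N.subtype D.N.subtype_injective : IsPGroup 2 T').exists_le_sylow
  obtain ⟨n, hn⟩ := MulAction.exists_smul_eq D.N P1 P
  refine ⟨n, n.2, fun t ht => ?_⟩
  have h1 : n * ⟨t, hTN ht⟩ * n⁻¹ ∈ (P : Subgroup D.N) := by
    rw [← hn, Sylow.coe_subgroup_smul]
    exact Subgroup.smul_mem_pointwise_smul _ (MulAut.conj n) _ (hP1 (show (⟨t, hTN ht⟩ : D.N) ∈ T' from ht))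
  obtain ⟨q, -, e⟩ := hPQ h1
  have := hCz.1 (e ▸ q.2 : n * ⟨t, hTN ht⟩ * n⁻¹ ∈ C)
  exact this

theorem exists_inv_cent {x : G} (hx : x * x = 1) (hxN : x ∈ D.N) : ∃ n ∈ D.N, Commute (n * x * n⁻¹) z := by
  haveI : Fact (Nat.Prime 2) := ⟨Nat.prime_two⟩
  obtain ⟨n, hn, h⟩ := D.exists_conj_cent R hJ (Subgroup.zpowers x)
    (fun y => ⟨1, Subtype.ext (by
      rcases LargeExtraspecial.mem_zpowers_two hx y.2 with e | e <;> simp [e, pow_two, hx])⟩)
    (Subgroup.zpowers_le.2 hxN)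
  exact ⟨n, hn, h x (Subgroup.mem_zpowers x)⟩

/-- N is everything. -/
theorem N_top (H : Hyps D) (hP : ∀ i m, Commute m (D.v i) → m ∈ D.N) : D.N = ⊤ := by
  haveI : Fact (Nat.Prime 2) := ⟨Nat.prime_two⟩
  have hd := D.cd_le R hJ H.isoD hP
  have hz2 := D.z_sq
  have bz : ∀ g, g * z * g⁻¹ ∈ D.N → g ∈ D.N := fun g hg => by
    obtain ⟨n, hn, hc⟩ := D.exists_inv_cent R hJ
      (show g * z * g⁻¹ * (g * z * g⁻¹) = 1 by
        rw [show g * z * g⁻¹ * (g * z * g⁻¹) = g * (z * z) * g⁻¹ by group, hz2]; group) hg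
    have e : n * g * z * (n * g)⁻¹ = n * (g * z * g⁻¹) * n⁻¹ := by group
    have hng : n * g ∈ D.N := by
      by_cases h : n * g * z * (n * g)⁻¹ = z
      · exact D.H_le_N (conj_fix.1 h)
      · obtain ⟨i, j, h'⟩ := H.fusion (n * g) (e ▸ hc) h
        exact D.shift_to hP h'
    have := mul_mem (inv_mem hn) hng
    rwa [inv_mul_cancel_left] at this
  have below : ∀ u, u * u = 1 → (∀ m, Commute m u → m ∈ D.N) → ∀ g, g * u * g⁻¹ ∈ D.N → g ∈ D.N := by
    intro u hu hC g hg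
    obtain ⟨n, hn, hc⟩ := D.exists_inv_cent R hJ
      (show g * u * g⁻¹ * (g * u * g⁻¹) = 1 by
        rw [show g * u * g⁻¹ * (g * u * g⁻¹) = g * (u * u) * g⁻¹ by group, hu]; group) hg
    set k := n * g with hk
    have hc' : Commute (k * u * k⁻¹) z := by
      rwa [show k * u * k⁻¹ = n * (g * u * g⁻¹) * n⁻¹ by simp only [hk]; group]
    have h1 := commute_conj' k hc'.symm
    have h2 : k⁻¹ * z * k⁻¹⁻¹ ∈ D.N := by rw [inv_inv]; exact hC _ h1
    have h3 := mul_mem (inv_mem hn) (inv_mem (bz _ h2))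
    rwa [inv_inv, hk, inv_mul_cancel_left] at h3
  have up : ∀ u, (∀ g, g * u * g⁻¹ ∈ D.N → g ∈ D.N) →
      ∀ a ∈ {a : G | ∃ x, x * u * x⁻¹ = a}, a ∈ D.N → ∀ g, g * a * g⁻¹ ∈ D.N → g ∈ D.N := by
    rintro u hb _ ⟨x, rfl⟩ hx g hg
    have h1 := hb x hx
    have h2 := hb (g * x) (by rwa [show g * x * u * (g * x)⁻¹ = g * (x * u * x⁻¹) * g⁻¹ by group])
    have := mul_mem h2 (inv_mem h1)
    rwa [mul_inv_cancel_right] at this
  have hv2 : D.v 0 * D.v 0 = 1 := D.v_sq 0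
  have hd2 : z * D.v 0 * (z * D.v 0) = 1 := D.Zs_sq (Or.inr (Or.inr ⟨0, Or.inr rfl⟩))
  have sq : ∀ {u : G}, u * u = 1 → ∀ a ∈ {a : G | ∃ x, x * u * x⁻¹ = a}, a * a = 1 := by
    rintro u hu _ ⟨x, rfl⟩
    rw [show x * u * x⁻¹ * (x * u * x⁻¹) = x * (u * u) * x⁻¹ by group, hu]; group
  have cl : ∀ u g : G, ∀ a ∈ {a : G | ∃ x, x * u * x⁻¹ = a}, g * a * g⁻¹ ∈ {a : G | ∃ x, x * u * x⁻¹ = a} := by
    rintro u g _ ⟨x, rfl⟩
    exact ⟨g * x, by group⟩
  refine control D.N {a | ∃ x, x * z * x⁻¹ = a} {a | ∃ x, x * D.v 0 * x⁻¹ = a}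
    {a | ∃ x, x * (z * D.v 0) * x⁻¹ = a} (sq hz2) (sq hv2) ?_ (cl z) (cl _) (cl _) (up z bz)
    (up _ (below _ hv2 (hP 0))) (up _ (below _ hd2 fun m hm => hd 0 hm)) ?_ ?_
  · rw [Set.disjoint_left]
    rintro _ ⟨x, rfl⟩ ⟨y, e⟩
    refine D.conj_z_ne (Or.inl rfl) (y⁻¹ * x) (i := 0) ?_
    rw [show y⁻¹ * x * z * (y⁻¹ * x)⁻¹ = y⁻¹ * (x * z * x⁻¹) * y by group, ← e]; group
  · rintro _ ⟨x, rfl⟩ _ ⟨y, rfl⟩ hxN hyN -
    have hx := bz x hxN
    obtain ⟨k, hk⟩ := below _ hv2 (hP 0) y hyN 0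
    obtain ⟨l, hl⟩ := (inv_mem hx : x⁻¹ ∈ D.N) k
    obtain ⟨s, hs, es⟩ := D.exists_shift 0 l
    refine ⟨x * s, ?_⟩
    calc x * s * (z * D.v 0) * (x * s)⁻¹ = x * ((s * z * s⁻¹) * (s * D.v 0 * s⁻¹)) * x⁻¹ := by group
      _ = x * (z * D.v l) * x⁻¹ := by rw [conj_fix.2 hs, es]
      _ = x * (D.v l * z) * x⁻¹ := by rw [(D.J_cent _ (D.v_mem l)).eq]
      _ = y * D.v 0 * y⁻¹ * (x * z * x⁻¹) := by rw [hk, ← hl]; group
  · intro T hTN hT
    obtain ⟨n, hn, hc⟩ := D.exists_conj_cent R hJ T hT hTN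
    have hTn : ∀ t : T, n * (t : G) * n⁻¹ ∈ D.N := fun t => mul_mem (mul_mem hn (hTN t.2)) (inv_mem hn)
    let X := {x : G // ∃ i, x = D.v i}
    letI act : MulAction T X :=
      { smul := fun t x => ⟨n * (t : G) * n⁻¹ * x.1 * (n * (t : G) * n⁻¹)⁻¹, by
          obtain ⟨i, e⟩ := x.2
          obtain ⟨k, hk⟩ := hTn t i
          exact ⟨k, by rw [e, hk]⟩⟩
        one_smul := fun x => Subtype.ext (by
          show n * ((1 : T) : G) * n⁻¹ * x.1 * (n * ((1 : T) : G) * n⁻¹)⁻¹ = x.1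
          rw [Subgroup.coe_one]; group)
        mul_smul := fun s t x => Subtype.ext (by
          show n * ((s * t : T) : G) * n⁻¹ * x.1 * (n * ((s * t : T) : G) * n⁻¹)⁻¹ =
            n * (s : G) * n⁻¹ * (n * (t : G) * n⁻¹ * x.1 * (n * (t : G) * n⁻¹)⁻¹) * (n * (s : G) * n⁻¹)⁻¹
          rw [Subgroup.coe_mul]; group) }
    have hX : Nat.card X = 3 := by
      rw [← Nat.card_congr (Equiv.ofBijective (fun i : Fin 3 => (⟨D.v i, i, rfl⟩ : X))
        ⟨fun i k e => D.v_inj (congrArg Subtype.val e), fun ⟨x, i, e⟩ => ⟨i, Subtype.ext e.symm⟩⟩),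
        Nat.card_fin]
    obtain ⟨⟨x, i, rfl⟩, hx⟩ := hT.nonempty_fixed_point_of_prime_not_dvd_card X (by rw [hX]; norm_num)
    refine ⟨n⁻¹ * z * n, ⟨n⁻¹, by group⟩, n⁻¹ * D.v i * n, ?_, ?_, ?_, fun t ht => ⟨?_, ?_⟩⟩
    · obtain ⟨s, -, es⟩ := D.exists_shift 0 i
      exact ⟨n⁻¹ * s, by rw [← es]; group⟩
    · exact mul_mem (mul_mem (inv_mem hn) (D.H_le_N (Commute.refl z))) hn
    · exact mul_mem (mul_mem (inv_mem hn) (D.H_le_N (D.J_cent _ (D.v_mem i)))) hn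
    · have h := commute_conj' n (hc t ht).symm
      exact h
    · have h0 : n * t * n⁻¹ * D.v i * (n * t * n⁻¹)⁻¹ = D.v i := congrArg Subtype.val (hx ⟨t, ht⟩)
      have h := commute_conj' n (conj_fix.1 h0).symm
      exact h

end

end Datum

/-- The theorem. -/
theorem main (z : G) (hz : orderOf z = 2)
    {F : Type v} [Field F] [Fintype F] (hF : Fintype.card F = 3) {K : Type w} [Field K] [Fintype K]
    (hK : Fintype.card K = 4) (R : Raw z) :
    Subgroup.centralizer ({z} : Set G) ⊔ Cfsg.oddCore G = ⊤ ∨ Cfsg.Spor.IsoFi23 G ∨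
      (∃ (W : Subgroup G) (_hW : W.Normal), Nat.card ↥W = 4 ∧ (∀ w ∈ W, w ^ 2 = 1) ∧
        Nonempty ((G ⧸ W) ≃* MulAut (Cfsg.PSU 6 K 2))) := by
  obtain ⟨V⟩ := R.exists_vdata
  obtain ⟨D, hJ, hc⟩ := R.exists_datum V
  rcases D.isoD_or_fi23 R hJ hc hF hK with hD | h
  swap
  · exact Or.inr (Or.inl h)
  have hzc : ∀ i g, g * z * g⁻¹ ≠ D.v i ∧ g * z * g⁻¹ ≠ z * D.v i := fun i g =>
    ⟨D.conj_z_ne (Or.inl rfl) g, D.conj_z_ne (Or.inr rfl) g⟩
  rcases D.centV R hJ hc hF hK hD with ⟨hV, hvn⟩ | hU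
  · have H : Hyps D :=
      ⟨hD, fun i j g => D.vd_ne R hJ hK hD (Or.inl hV) i j g, hzc, hvn, Or.inl hV⟩
    refine Or.inl (centralizer_sup_oddCore ⟨hz, fun g hg => ?_⟩)
    by_contra hne
    obtain ⟨i, j, h⟩ := H.fusion g hg.symm hne
    obtain ⟨s, hs, e⟩ := D.exists_shift i j
    have h1 : Commute (g * s) (D.v i) := Datum.conj_fix.1 (by
      rw [show g * s * D.v i * (g * s)⁻¹ = g * (s * D.v i * s⁻¹) * g⁻¹ by group, e, ← h]; group)
    have e2 : g * s * z * (g * s)⁻¹ = g * z * g⁻¹ := by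
      rw [show g * s * z * (g * s)⁻¹ = g * (s * z * s⁻¹) * g⁻¹ by group, Datum.conj_fix.2 hs]
    exact hne (e2 ▸ Hyps.eq_of_iso (hV i) h1 (e2.symm ▸ hg.symm) D)
  · obtain ⟨hP, θ, hθ, hker⟩ := hU
    have hvn : ∀ i k m, Commute m (D.v i) → Odd (orderOf (m * D.v k * m⁻¹ * (D.v k)⁻¹)) ∨
        Odd (orderOf (D.v i * (m * D.v k * m⁻¹ * (D.v k)⁻¹))) := fun i k m hm => by
      obtain ⟨l, hl⟩ := hP i m hm k
      rw [hl]
      by_cases hlk : l = k
      · left; rw [hlk, mul_inv_cancel, orderOf_one]; exact odd_one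
      · right
        have inj := (MulAut.conj m).injective
        have hki : k ≠ i := fun e => hlk (D.v_inj ((hl.symm.trans (by rw [e, Datum.conj_fix.2 hm]))))
        have hli : l ≠ i := fun e => hki (D.v_inj (inj ((hl.trans (by rw [e])).trans (Datum.conj_fix.2 hm).symm)))
        rw [D.v_inv, D.v_third (i := l) (m := k) (Ne.symm hli) (Ne.symm hki) hlk, D.v_sq, orderOf_one]
        exact odd_one
    have H : Hyps D :=
      ⟨hD, fun i j g => D.vd_ne R hJ hK hD (Or.inr ⟨hP, θ, hθ, hker⟩) i j g, hzc, hvn,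
        Or.inr fun i k m hm => hP i m hm k⟩
    have htop := D.N_top R hJ H (fun i m hm k => hP i m hm k)
    right; right
    let W : Subgroup G :=
      { carrier := {x | x = 1 ∨ ∃ i, x = D.v i}
        one_mem' := Or.inl rfl
        mul_mem' := by
          rintro a b (ha | ⟨i, ha⟩) (hb | ⟨k, hb⟩) <;> rw [ha, hb]
          · exact Or.inl (one_mul 1)
          · exact Or.inr ⟨k, one_mul _⟩
          · exact Or.inr ⟨i, mul_one _⟩
          · by_cases hik : i = k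
            · exact Or.inl (by rw [hik, D.v_sq])
            · obtain ⟨l, l1, l2, -⟩ := fin3 i k hik
              exact Or.inr ⟨l, D.v_third l1 l2 hik⟩
        inv_mem' := by
          rintro a (ha | ⟨i, ha⟩) <;> rw [ha]
          · exact Or.inl inv_one
          · exact Or.inr ⟨i, D.v_inv i⟩ }
    have hWn : W.Normal := ⟨fun x hx g => by
      have hx' : x = 1 ∨ ∃ i, x = D.v i := hx
      rcases hx' with e | ⟨i, e⟩ <;> rw [e]
      · exact Or.inl (by group)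
      · obtain ⟨k, hk⟩ := (htop ▸ Subgroup.mem_top g : g ∈ D.N) i
        exact Or.inr ⟨k, hk⟩⟩
    haveI := hWn
    have hWc : ∀ {m : G}, m ∈ Subgroup.centralizer (W : Set G) → m ∈ D.CW := fun {m} hm i =>
      (Subgroup.mem_centralizer_iff.1 hm _ (Or.inr ⟨i, rfl⟩)).symm
    have hCc : ∀ {m : G}, m ∈ D.CW → m ∈ Subgroup.centralizer (W : Set G) := fun {m} hm => by
      rw [Subgroup.mem_centralizer_iff]
      rintro x hx
      have hx' : x = 1 ∨ ∃ i, x = D.v i := hx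
      rcases hx' with e | ⟨i, e⟩ <;> rw [e]
      · rw [one_mul, mul_one]
      · exact (hm i).symm
    refine ⟨W, hWn, ?_, ?_, ?_⟩
    · have hb : Function.Bijective (fun o : Option (Fin 3) => (match o with
          | none => (1 : W)
          | some i => ⟨D.v i, Or.inr ⟨i, rfl⟩⟩ : W)) := by
        refine ⟨?_, ?_⟩
        · rintro (_ | a) (_ | b) e
          · rfl
          · exact absurd (congrArg Subtype.val e).symm (D.v_one b)
          · exact absurd (congrArg Subtype.val e) (D.v_one a)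
          · rw [D.v_inj (congrArg Subtype.val e)]
        · rintro ⟨x, hx⟩
          have hx' : x = 1 ∨ ∃ i, x = D.v i := hx
          rcases hx' with e | ⟨i, e⟩
          · exact ⟨none, Subtype.ext e.symm⟩
          · exact ⟨some i, Subtype.ext e.symm⟩
      rw [← Nat.card_congr (Equiv.ofBijective _ hb), Nat.card_eq_fintype_card, Fintype.card_option, Fintype.card_fin]
    · intro x hx
      have hx' : x = 1 ∨ ∃ i, x = D.v i := hx
      rcases hx' with e | ⟨i, e⟩ <;> rw [e, pow_two]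
      exacts [one_mul 1, D.v_sq i]
    · let ι : Subgroup.centralizer (W : Set G) →* D.CW :=
        Subgroup.inclusion (fun m hm => hWc hm)
      let ψ := (QuotientGroup.mk' W).subgroupMap (Subgroup.centralizer (W : Set G))
      have hψ : Function.Surjective ψ := (QuotientGroup.mk' W).subgroupMap_surjective _
      have hθι : Function.Surjective (θ.comp ι) := fun s => by
        obtain ⟨⟨m, hm⟩, e⟩ := hθ s
        exact ⟨⟨m, hCc hm⟩, e⟩
      have hk : ψ.ker = (θ.comp ι).ker := by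
        ext ⟨m, hm⟩
        rw [MonoidHom.mem_ker, MonoidHom.mem_ker, MonoidHom.comp_apply, hker, Subtype.ext_iff]
        show (QuotientGroup.mk m : G ⧸ W) = 1 ↔ _
        rw [QuotientGroup.eq_one_iff]
        rfl
      exact D.aut_equiv W (fun x => Iff.rfl) (fun i g => (hzc i g).2) hK
        (((QuotientGroup.quotientKerEquivOfSurjective ψ hψ).symm.trans (QuotientGroup.quotientMulEquivOfEq hk)).trans
          (QuotientGroup.quotientKerEquivOfSurjective (θ.comp ι) hθι))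

end Cfsg.Agent.Fi23ByInvol
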