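/-
The centraliser of type Fi23 in elementary terms, and the three central involutions.

* `Raw z` : J, its two factors, the element of order three, the map onto Aut SU(4,2);
* `exists_raw` : the data from the hypotheses on the centraliser;
* `Raw.exists_vdata` : the central involutions permuted by the centraliser as the symmetric group.
-/
import Cfsg.Agent.Lib.Fi23ByInvol.Fusion
import Cfsg.Agent.Lib.U62Rec.OutMain
import Cfsg.Agent.Lib.Cores.Basic

set_option autoImplicit false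
set_option linter.unusedSectionVars false

namespace Cfsg.Agent.Fi23ByInvol

open Cfsg.Agent.U62Rec Cfsg.Agent.LargeExtraspecial
open scoped commutatorElement

universe u v w

/-- The centraliser in elementary terms. -/
structure Raw {G : Type u} [Group G] (z : G) where
  /-- The largest normal 2-subgroup. -/
  J : Subgroup G
  /-- The four-group factor. -/
  V : Subgroup G
  /-- The extraspecial factor. -/
  E : Subgroup G
  /-- The element of order three. -/
  c : G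
  /-- The action on the simple factor. -/
  π : G → MulAut U4
  z_sq : z * z = 1
  z_ne : z ≠ 1
  z_mem : z ∈ J
  J_cent : ∀ j ∈ J, Commute j z
  J_norm : ∀ h, Commute h z → ∀ j ∈ J, h * j * h⁻¹ ∈ J
  J_cf : ∀ x, Commute x z → (∀ j ∈ J, Commute x j) → x ∈ J
  V_le : V ≤ J
  E_le : E ≤ J
  V_E : ∀ a ∈ V, ∀ b ∈ E, Commute a b
  V_inf : ∀ a ∈ V, a ∈ E → a = 1
  V_card : Nat.card V = 4
  V_sq : ∀ a ∈ V, a * a = 1
  dec : ∀ j ∈ J, ∃ a ∈ V, ∃ b ∈ E, j = a * b
  E_extra : Cfsg.IsExtraspecial 2 ↥E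
  E_card : Nat.card E = 512
  c_z : Commute c z
  c3 : c ^ 3 = 1
  c_ne : c ≠ 1
  J_two : IsPGroup 2 J
  c_fix : ∀ j ∈ J, Commute j c → j = 1 ∨ j = z
  c_norm : ∀ h, Commute h z → h * c * h⁻¹ * c⁻¹ ∈ J ∨ h * c * h⁻¹ * c ∈ J
  invert : ∃ h, Commute h z ∧ h * c * h⁻¹ * c ∈ J
  π_mul : ∀ g h, Commute g z → Commute h z → π (g * h) = π g * π h
  π_ker : ∀ h, Commute h z → (π h = 1 ↔ ∃ k : ℕ, h * c ^ k ∈ J)
  π_surj : ∀ x, ∃ h, Commute h z ∧ π h = x

/-- Central involutions permuted by the centraliser. -/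
structure VData {G : Type u} [Group G] {z : G} (R : Raw z) where
  /-- The involutions. -/
  v : Fin 3 → G
  v_mem : ∀ i, v i ∈ R.J
  v_one : ∀ i, v i ≠ 1
  v_z : ∀ i, v i ≠ z
  v_inj : Function.Injective v
  v_sq : ∀ i, v i * v i = 1
  v_prod : v 0 * v 1 * v 2 = 1
  v_comm : ∀ i, ∀ j ∈ R.J, Commute j (v i)
  v_perm : ∀ h, Commute h z → ∀ i, ∃ k, h * v i * h⁻¹ = v k
  c_v : ∀ i, R.c * v i * R.c⁻¹ = v (i + 1)
  outer : ∃ o, Commute o z ∧ Commute o (v 0) ∧ o * v 1 * o⁻¹ = v 2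
  cent : ∀ j ∈ R.J, (∀ i ∈ R.J, Commute i j) → j = 1 ∨ j = z ∨ ∃ i, j = v i ∨ j = z * v i

namespace Raw

variable {G : Type u} [Group G] [Finite G] {z : G} (R : Raw z)

theorem zeta_eq : ∃ ζ : G, ζ ∈ R.E ∧ ζ ≠ 1 ∧ (∀ b ∈ R.E, (∀ a ∈ R.E, Commute a b) → b = 1 ∨ b = ζ) ∧
    (∀ a ∈ R.E, a * a = 1 ∨ a * a = ζ) ∧ (∀ a ∈ R.E, ∀ b ∈ R.E, a * b = b * a ∨ a * b = b * a * ζ) ∧
    ∀ a ∈ R.E, Commute a ζ := by
  haveI : Fact (Cfsg.IsExtraspecial 2 ↥R.E) := ⟨R.E_extra⟩
  have hc : ∀ a ∈ R.E, Commute a (OutForm.zeta ↥R.E : G) := fun a ha =>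
    (congrArg Subtype.val (Subgroup.mem_center_iff.1 (OutForm.zeta_mem (E := ↥R.E)) ⟨a, ha⟩) :)
  refine ⟨OutForm.zeta ↥R.E, (OutForm.zeta ↥R.E).2, fun e => OutForm.zeta_ne (Subtype.ext e),
    fun b hb h => ?_, fun a ha => ?_, fun a ha b hb => ?_, hc⟩
  · rcases OutForm.zeta_cases (x := (⟨b, hb⟩ : R.E)) (Subgroup.mem_center_iff.2 fun a => Subtype.ext (h a a.2))
      with e | e
    exacts [Or.inl (congrArg Subtype.val e), Or.inr (congrArg Subtype.val e)]
  · rcases OutForm.zeta_cases (OutForm.sq_mem (⟨a, ha⟩ : R.E)) with e | e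
    exacts [Or.inl (congrArg Subtype.val e), Or.inr (congrArg Subtype.val e)]
  · rcases OutForm.zeta_cases (OutForm.comm_mem (⟨a, ha⟩ : R.E) ⟨b, hb⟩) with e | e
    · exact Or.inl (congrArg Subtype.val (commutatorElement_eq_one_iff_mul_comm.1 e))
    · right
      have e' : a * b * a⁻¹ * b⁻¹ = (OutForm.zeta ↥R.E : G) := congrArg Subtype.val e
      calc a * b = a * b * a⁻¹ * b⁻¹ * (b * a) := by group
        _ = b * a * (OutForm.zeta ↥R.E : G) := by rw [e']; exact ((hc _ (mul_mem hb ha)).eq).symm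

theorem V_comm {a b : G} (ha : a ∈ R.V) (hb : b ∈ R.V) : Commute a b := by
  have h := R.V_sq _ (mul_mem ha hb)
  calc a * b = (a * b)⁻¹ := (inv_eq_of_mul_eq_one_right h).symm
    _ = b * a := by
      rw [mul_inv_rev, inv_eq_of_mul_eq_one_right (R.V_sq a ha), inv_eq_of_mul_eq_one_right (R.V_sq b hb)]

/-- Squares and commutators of J lie in `{1, z}`. -/
theorem J_rel : (∀ j ∈ R.J, j * j = 1 ∨ j * j = z) ∧
    (∀ i ∈ R.J, ∀ j ∈ R.J, i * j = j * i ∨ i * j = j * i * z) ∧ z ∈ R.E := by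
  obtain ⟨ζ, hζE, hζ1, -, hsq, hcomm, hζc⟩ := R.zeta_eq
  have hmul : ∀ a ∈ R.V, ∀ b ∈ R.E, ∀ a' ∈ R.V, ∀ b' ∈ R.E, a * b * (a' * b') = a * a' * (b * b') := by
    intro a ha b hb a' ha' b' hb'
    rw [mul_assoc a b, ← mul_assoc b a', ← (R.V_E a' ha' b hb).eq]
    group
  have hJsq : ∀ j ∈ R.J, j * j = 1 ∨ j * j = ζ := fun j hj => by
    obtain ⟨a, ha, b, hb, rfl⟩ := R.dec j hj
    rw [hmul a ha b hb a ha b hb, R.V_sq a ha, one_mul]
    exact hsq b hb
  have hJcomm : ∀ i ∈ R.J, ∀ j ∈ R.J, i * j = j * i ∨ i * j = j * i * ζ := fun i hi j hj => by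
    obtain ⟨a, ha, b, hb, rfl⟩ := R.dec i hi
    obtain ⟨a', ha', b', hb', rfl⟩ := R.dec j hj
    rw [hmul a ha b hb a' ha' b' hb', hmul a' ha' b' hb' a ha b hb, (R.V_comm ha ha').eq]
    rcases hcomm b hb b' hb' with e | e
    · exact Or.inl (by rw [e])
    · exact Or.inr (by rw [e]; group)
  have hζJ := R.E_le hζE
  -- ζ is fixed by c
  obtain ⟨a, ha, b, hb, hab⟩ : ∃ a ∈ R.E, ∃ b ∈ R.E, a * b ≠ b * a := by
    by_contra! h
    have h1 : commutator ↥R.E = ⊥ := by
      rw [commutator_eq_closure, Subgroup.closure_eq_bot_iff]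
      rintro _ ⟨x, y, rfl⟩
      exact Set.mem_singleton_iff.2 (commutatorElement_eq_one_iff_mul_comm.2 (Subtype.ext (h _ x.2 _ y.2)))
    have h2 : Nat.card (Subgroup.center ↥R.E) = 2 := R.E_extra.2
    rw [← R.E_extra.1.2.2, h1, Subgroup.card_bot] at h2
    omega
  have e1 : a * b = b * a * ζ := (hcomm a ha b hb).resolve_left hab
  set t : G → G := fun x => R.c * x * R.c⁻¹
  have htm : ∀ x y, t (x * y) = t x * t y := fun x y => by simp only [t]; group
  have e2 : t a * t b = t b * t a * t ζ := by rw [← htm, e1, htm, htm]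
  have hcz : Commute ζ R.c := by
    rcases hJcomm _ (R.J_norm _ R.c_z a (R.E_le ha)) _ (R.J_norm _ R.c_z b (R.E_le hb)) with e | e
    · refine absurd ?_ hζ1
      have : t ζ = 1 := mul_eq_left.1 (e2.symm.trans e)
      exact conj_eq_one_iff.1 this
    · have : t ζ = ζ := mul_left_cancel (e2.symm.trans e)
      exact (Datum.conj_fix.1 this).symm
  have hζz : ζ = z := (R.c_fix ζ hζJ hcz).resolve_left hζ1
  subst hζz
  exact ⟨hJsq, hJcomm, hζE⟩

theorem card_cent_le (S : Subgroup G) (hS : ∀ j ∈ S, j ∈ R.J ∧ ∀ i ∈ R.J, Commute i j) : Nat.card S ≤ 8 := by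
  classical
  obtain ⟨ζ, hζE, hζ1, hcen, -, -, hζc⟩ := R.zeta_eq
  have hsurj : ∀ j : S, ∃ p : R.V × Bool, (j : G) = p.1 * if p.2 then ζ else 1 := fun j => by
    obtain ⟨a, ha, b, hb, e⟩ := R.dec _ (hS j j.2).1
    rcases hcen b hb fun x hx => by
      have h1 := (hS j j.2).2 x (R.E_le hx)
      rw [e] at h1
      have h2 := (R.V_E a ha x hx).symm.inv_right.mul_right h1
      rwa [inv_mul_cancel_left] at h2 with hb1 | hb1
    · exact ⟨(⟨a, ha⟩, false), by simp [e, hb1]⟩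
    · exact ⟨(⟨a, ha⟩, true), by simp [e, hb1]⟩
  choose f hf using hsurj
  have h := Nat.card_le_card_of_injective f fun i j e => Subtype.ext (by rw [hf i, hf j, e])
  rwa [Nat.card_prod, R.V_card, Nat.card_eq_fintype_card (α := Bool), Fintype.card_bool] at h

theorem exists_vdata : Nonempty (VData R) := by
  classical
  obtain ⟨hsq, hcomm, hzE⟩ := R.J_rel
  have hc3 : ∀ x, R.c * (R.c * (R.c * x * R.c⁻¹) * R.c⁻¹) * R.c⁻¹ = x := fun x => by
    rw [show R.c * (R.c * (R.c * x * R.c⁻¹) * R.c⁻¹) * R.c⁻¹ = R.c * R.c * R.c * x * (R.c * R.c * R.c)⁻¹ by group,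
      show R.c * R.c * R.c = R.c ^ 3 by rw [pow_succ, pow_succ, pow_one], R.c3]
    group
  let S : Subgroup G :=
    { carrier := {j | j ∈ R.J ∧ ∀ i ∈ R.J, Commute i j}
      one_mem' := ⟨one_mem _, fun i _ => Commute.one_right i⟩
      mul_mem' := fun {a b} ha hb => ⟨mul_mem ha.1 hb.1, fun i hi => (ha.2 i hi).mul_right (hb.2 i hi)⟩
      inv_mem' := fun {a} ha => ⟨inv_mem ha.1, fun i hi => (ha.2 i hi).inv_right⟩ }
  have hSmem : ∀ {j}, j ∈ S ↔ j ∈ R.J ∧ ∀ i ∈ R.J, Commute i j := Iff.rfl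
  have hzS : z ∈ S := ⟨R.z_mem, fun i hi => R.J_cent i hi⟩
  have hVS : ∀ a ∈ R.V, a ∈ S := fun a ha => ⟨R.V_le ha, fun i hi => by
    obtain ⟨a', ha', b, hb, rfl⟩ := R.dec i hi
    exact (R.V_comm ha' ha).mul_left (R.V_E a ha b hb).symm⟩
  have hnorm : ∀ h, Commute h z → ∀ j ∈ S, h * j * h⁻¹ ∈ S := fun h hh j hj =>
    ⟨R.J_norm h hh j hj.1, fun i hi => by
      have h1 := R.J_norm h⁻¹ hh.inv_left i hi
      have h2 := commute_conj h (hj.2 _ h1)
      rwa [inv_inv, show h * (h⁻¹ * i * h) * h⁻¹ = i by group] at h2⟩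
  have hS2 : ∀ j ∈ S, j * j = 1 := fun j hj => by
    obtain ⟨a, ha, b, hb, rfl⟩ := R.dec j hj.1
    have hb' : Commute b a := (R.V_E a ha b hb).symm
    obtain ⟨ζ, -, -, hcen, -, -, -⟩ := R.zeta_eq
    have hz' : z = 1 ∨ z = ζ := hcen z hzE fun x hx => R.J_cent x (R.E_le hx)
    have hbz : b = 1 ∨ b = z := by
      rcases hcen b hb fun x hx => by
        have h1 := hj.2 x (R.E_le hx)
        have h2 := (R.V_E a ha x hx).symm.inv_right.mul_right h1
        rwa [inv_mul_cancel_left] at h2 with e | e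
      · exact Or.inl e
      · exact Or.inr (by rw [e, hz'.resolve_left R.z_ne])
    rw [mul_assoc, ← mul_assoc b a, hb'.eq, ← mul_assoc, ← mul_assoc, R.V_sq a ha, one_mul]
    rcases hbz with e | e <;> rw [e]
    exacts [one_mul 1, R.z_sq]
  set δ : G → G := fun x => x⁻¹ * (R.c * x * R.c⁻¹) with hδ
  have hSc : ∀ x ∈ S, R.c * x * R.c⁻¹ ∈ S := hnorm R.c R.c_z
  -- an element not fixed by c
  obtain ⟨x0, hx0, hx0c⟩ : ∃ x ∈ S, ¬ Commute x R.c := by
    by_contra! h
    have h2 : ∀ a : R.V, (a : G) = 1 ∨ (a : G) = z := fun a => R.c_fix a (R.V_le a.2) (h a (hVS a a.2))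
    have := Nat.card_le_card_of_injective (fun a : R.V => decide ((a : G) = 1)) fun a b e => Subtype.ext (by
      rcases h2 a with ea | ea <;> rcases h2 b with eb | eb <;> simp [ea, eb, R.z_ne] at e ⊢)
    rw [R.V_card, Nat.card_eq_fintype_card, Fintype.card_bool] at this
    omega
  set u := δ x0
  have huS : u ∈ S := mul_mem (inv_mem hx0) (hSc x0 hx0)
  have hu1 : u ≠ 1 := fun e => hx0c (Datum.conj_fix.1 (inv_mul_eq_one.1 e).symm).symm
  have hz1 : ∀ n : ℕ, z ^ n = 1 ∨ z ^ n = z := fun n => by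
    induction n with
    | zero => exact Or.inl (pow_zero z)
    | succ n ih => rcases ih with e | e <;> rw [pow_succ, e] <;> simp [R.z_sq]
  have hδz : ∀ x ∈ S, δ x ≠ z := fun x hx e => R.z_ne (by
    have e1 : R.c * x * R.c⁻¹ = x * z := inv_mul_eq_iff_eq_mul.1 e
    have h3 := hc3 x
    rw [e1, show R.c * (R.c * (x * z) * R.c⁻¹) * R.c⁻¹ = R.c * (R.c * x * R.c⁻¹ * (R.c * z * R.c⁻¹)) * R.c⁻¹ by group,
      Datum.conj_fix.2 R.c_z, e1, mul_assoc x, R.z_sq, mul_one, e1] at h3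
    exact mul_eq_left.1 h3)
  set v : Fin 3 → G := ![u, R.c * u * R.c⁻¹, R.c * (R.c * u * R.c⁻¹) * R.c⁻¹] with hv
  have hvS : ∀ i, v i ∈ S := fun i => by
    fin_cases i
    exacts [huS, hSc _ huS, hSc _ (hSc _ huS)]
  have hcv : ∀ i, R.c * v i * R.c⁻¹ = v (i + 1) := fun i => by
    fin_cases i
    exacts [rfl, rfl, hc3 u]
  have hvδ : ∀ i, ∃ x ∈ S, v i = δ x := fun i => by
    fin_cases i
    · exact ⟨x0, hx0, rfl⟩
    · exact ⟨_, hSc _ hx0, by simp only [hv, u, hδ]; simp [mul_assoc]⟩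
    · exact ⟨_, hSc _ (hSc _ hx0), by simp only [hv, u, hδ]; simp [mul_assoc]⟩
  have hv1 : ∀ i, v i ≠ 1 := fun i => by
    fin_cases i
    · exact hu1
    · exact fun e => hu1 (conj_eq_one_iff.1 e)
    · exact fun e => hu1 (conj_eq_one_iff.1 (conj_eq_one_iff.1 e))
  have hvz : ∀ i, v i ≠ z := fun i e => by
    obtain ⟨x, hx, e'⟩ := hvδ i
    exact hδz x hx (e'.symm.trans e)
  have hvne : ∀ i, v (i + 1) ≠ v i := fun i e => by
    rw [← hcv] at e
    rcases R.c_fix _ (hvS i).1 (Datum.conj_fix.1 e).symm with h | h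
    exacts [hv1 i h, hvz i h]
  have hinj : Function.Injective v := fun i j e => by
    by_contra hne
    rcases (fin3_next i j).2 hne with h | h
    · exact hvne i (h ▸ e.symm)
    · exact hvne j (by rw [h, show i + 2 + 1 = i by rw [add_assoc, show (2 : Fin 3) + 1 = 0 from rfl, add_zero]]; rw [e, h])
  have hprod : v 0 * v 1 * v 2 = 1 := by
    show u * (R.c * u * R.c⁻¹) * (R.c * (R.c * u * R.c⁻¹) * R.c⁻¹) = 1
    simp only [u, hδ]
    set y := R.c * x0 * R.c⁻¹
    set y' := R.c * y * R.c⁻¹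
    have e1 : R.c * (x0⁻¹ * y) * R.c⁻¹ = y⁻¹ * y' := by simp only [y, y']; group
    have e2 : R.c * (y⁻¹ * y') * R.c⁻¹ = y'⁻¹ * x0 := by
      rw [show R.c * (y⁻¹ * y') * R.c⁻¹ = (R.c * y * R.c⁻¹)⁻¹ * (R.c * y' * R.c⁻¹) by group]
      simp only [y, y']
      rw [hc3]
    rw [e1, e2]
    group
  have hfour : ∀ j ∈ S, j = 1 ∨ j = z ∨ ∃ i, j = v i ∨ j = z * v i := by
    have hzv : ∀ i k, z * v i ≠ v k := fun i k e => by
      by_cases hik : k = i
      · exact R.z_ne (mul_eq_right.1 (hik ▸ e))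
      · obtain ⟨m, m1, m2, -⟩ := fin3 i k (Ne.symm hik)
        have h3 : v k * v i = v m := mul_third (fun i => hS2 _ (hvS i))
          (fun i m => (hvS m).2 _ (hvS i).1) hprod m2 m1 hik
        have : z = v m := by
          rw [← h3, ← e, mul_assoc, hS2 _ (hvS i), mul_one]
        exact hvz m this.symm
    let f : Fin 3 × Bool ⊕ Bool → S := Sum.elim
      (fun p => if p.2 then ⟨z * v p.1, mul_mem hzS (hvS p.1)⟩ else ⟨v p.1, hvS p.1⟩)
      fun b => if b then ⟨z, hzS⟩ else 1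
    have hf : Function.Injective f := by
      rintro (⟨i, _ | _⟩ | _ | _) (⟨k, _ | _⟩ | _ | _) e <;>
        have e' := congrArg Subtype.val e <;> simp [f] at e' ⊢
      all_goals
        first
          | exact hinj e'
          | exact absurd e' (hzv i k)
          | exact absurd e'.symm (hzv k i)
          | exact absurd e' (hv1 i)
          | exact absurd e' (hv1 k)
          | exact absurd e'.symm (hv1 k)
          | exact absurd e' (hvz i)
          | exact absurd e'.symm (hvz k)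
          | exact absurd e' R.z_ne
          | exact absurd e'.symm R.z_ne
          | exact absurd (mul_eq_left.1 e') (hv1 i)
          | exact absurd (mul_eq_left.1 e'.symm) (hv1 k)
          | exact absurd (mul_right_eq_self.1 e') (hv1 i)
          | exact absurd ((inv_eq_of_mul_eq_one_right e').symm.trans (inv_eq_of_mul_eq_one_right R.z_sq)) (hvz i)
          | exact absurd ((inv_eq_of_mul_eq_one_right e'.symm).symm.trans (inv_eq_of_mul_eq_one_right R.z_sq)) (hvz k)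
    have hcard : Nat.card (Fin 3 × Bool ⊕ Bool) = 8 := by
      rw [Nat.card_eq_fintype_card]; rfl
    have hle := R.card_cent_le S fun j hj => hj
    have hge := Nat.card_le_card_of_injective f hf
    rw [hcard] at hge
    have hbij := (Nat.bijective_iff_injective_and_card f).2 ⟨hf, by rw [hcard]; omega⟩
    intro j hj
    obtain ⟨(⟨i, _ | _⟩ | _ | _), e⟩ := hbij.2 ⟨j, hj⟩ <;> have e' := congrArg Subtype.val e <;> simp [f] at e'
    exacts [Or.inr (Or.inr ⟨i, Or.inl e'.symm⟩), Or.inr (Or.inr ⟨i, Or.inr e'.symm⟩), Or.inl e'.symm,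
      Or.inr (Or.inl e'.symm)]
  -- conjugation preserves the three
  have hδv : ∀ x ∈ S, δ x = 1 ∨ ∃ k, δ x = v k := by
    intro x hx
    have hmul : ∀ a b, a ∈ S → b ∈ S → δ (a * b) = δ a * δ b := fun a b ha hb => by
      simp only [hδ, mul_inv_rev]
      have := ((hSc a ha).2 _ (inv_mem hb).1).eq
      calc b⁻¹ * a⁻¹ * (R.c * (a * b) * R.c⁻¹)
          = b⁻¹ * a⁻¹ * (R.c * a * R.c⁻¹) * (R.c * b * R.c⁻¹) := by group
        _ = a⁻¹ * (b⁻¹ * (R.c * a * R.c⁻¹)) * (R.c * b * R.c⁻¹) := by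
            rw [((inv_mem ha : a⁻¹ ∈ S).2 _ (inv_mem hb).1).eq]; group
        _ = _ := by rw [this]; group
    rcases hfour _ (mul_mem (inv_mem hx) (hSc x hx)) with e | e | ⟨k, e | e⟩
    · exact Or.inl e
    · exact absurd e (hδz x hx)
    · exact Or.inr ⟨k, e⟩
    · exfalso
      obtain ⟨y, hy, ey⟩ := hvδ k
      refine hδz (x * y) (mul_mem hx hy) ?_
      rw [hmul x y hx hy, show δ x = z * v k from e, ← ey, mul_assoc, hS2 _ (hvS k), mul_one]
  have hperm : ∀ h, Commute h z → ∀ i, ∃ k, h * v i * h⁻¹ = v k := by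
    intro h hh i
    have hne : h * v i * h⁻¹ ≠ 1 := fun e => hv1 i (conj_eq_one_iff.1 e)
    obtain ⟨x, hx, ex⟩ := hvδ i
    set x' := h * x * h⁻¹
    have hx' : x' ∈ S := hnorm h hh x hx
    have e0 : h * v i * h⁻¹ = x'⁻¹ * ((h * R.c * h⁻¹) * x' * (h * R.c * h⁻¹)⁻¹) := by
      rw [ex]; simp only [hδ, x']; group
    have hJS : ∀ j ∈ R.J, ∀ s ∈ S, j * s * j⁻¹ = s := fun j hj s hs => Datum.conj_fix.2 (hs.2 j hj)
    rcases R.c_norm h hh with hj | hj
    · have e1 : h * v i * h⁻¹ = δ x' := by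
        rw [e0, hδ]
        congr 1
        conv_rhs => rw [← hJS _ hj _ (hSc _ hx')]
        group
      rcases hδv x' hx' with e | ⟨k, e⟩
      · exact absurd (e1.trans e) hne
      · exact ⟨k, e1.trans e⟩
    · have hc' : R.c⁻¹ * x' * R.c ∈ S := by
        have := hnorm R.c⁻¹ R.c_z.inv_left x' hx'
        rwa [inv_inv] at this
      have e1 : h * v i * h⁻¹ = x'⁻¹ * (R.c⁻¹ * x' * R.c) := by
        rw [e0]
        congr 1
        conv_rhs => rw [← hJS _ hj _ hc']
        group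
      have e2 : δ (R.c⁻¹ * x' * R.c) = (h * v i * h⁻¹)⁻¹ := by
        rw [e1]; simp only [hδ]; group
      rw [inv_eq_of_mul_eq_one_right (hS2 _ (hnorm h hh _ (hvS i)))] at e2
      rcases hδv _ hc' with e | ⟨k, e⟩
      · exact absurd (e2.symm.trans e) hne
      · exact ⟨k, e2.symm.trans e⟩
  -- an element inverting c acts as a transposition
  have hout : ∃ o, Commute o z ∧ Commute o (v 0) ∧ o * v 1 * o⁻¹ = v 2 := by
    obtain ⟨h, hh, hj⟩ := R.invert
    set j := h * R.c * h⁻¹ * R.c with hjdef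
    have step : ∀ i k, h * v i * h⁻¹ = v k → h * v (i + 1) * h⁻¹ = v (k + 2) := fun i k e => by
      rw [← hcv i, show h * (R.c * v i * R.c⁻¹) * h⁻¹ = (h * R.c * h⁻¹) * (h * v i * h⁻¹) * (h * R.c * h⁻¹)⁻¹ by
        group, e, show h * R.c * h⁻¹ = j * R.c⁻¹ by rw [hjdef]; group,
        show j * R.c⁻¹ * v k * (j * R.c⁻¹)⁻¹ = j * (R.c⁻¹ * v k * R.c) * j⁻¹ by group]
      have hk : R.c⁻¹ * v k * R.c = v (k + 2) := by
        have h1 := hcv (k + 2)
        rw [show k + 2 + 1 = k by rw [add_assoc, show (2 : Fin 3) + 1 = 0 from rfl, add_zero]] at h1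
        rw [← h1]; group
      rw [hk]
      exact Datum.conj_fix.2 ((hvS _).2 j hj)
    obtain ⟨k0, e0⟩ := hperm h hh 0
    have e1 := step 0 k0 e0
    have e2 := step 1 _ e1
    have hkey : ∀ k0 : Fin 3, ∃ a : Fin 3, (![k0, k0 + 2, k0 + 2 + 2] : Fin 3 → Fin 3) a = a ∧
        (![k0, k0 + 2, k0 + 2 + 2] : Fin 3 → Fin 3) (a + 1) = a + 2 := by decide
    obtain ⟨m, hm1, hm2⟩ := hkey k0
    have hall : ∀ i, h * v i * h⁻¹ = v ((![k0, k0 + 2, k0 + 2 + 2] : Fin 3 → Fin 3) i) := fun i => by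
      fin_cases i
      exacts [e0, e1, e2]
    obtain ⟨s, hsz, hs⟩ : ∃ s, Commute s z ∧ ∀ i, s * v i * s⁻¹ = v (i + m) := by
      have hc2 : ∀ i, R.c * R.c * v i * (R.c * R.c)⁻¹ = v (i + 2) := fun i => by
        rw [show R.c * R.c * v i * (R.c * R.c)⁻¹ = R.c * (R.c * v i * R.c⁻¹) * R.c⁻¹ by group, hcv, hcv,
          add_assoc]
        rfl
      fin_cases m
      exacts [⟨1, Commute.one_left z, fun i => by simp⟩, ⟨R.c, R.c_z, hcv⟩,
        ⟨R.c * R.c, R.c_z.mul_left R.c_z, hc2⟩]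
    have hback : ∀ i k, v k = s * v i * s⁻¹ → s⁻¹ * v k * s = v i := fun i k e => by rw [e]; group
    refine ⟨s⁻¹ * h * s, (hsz.inv_left.mul_left hh).mul_left hsz, Datum.conj_fix.1 ?_, ?_⟩
    · rw [show s⁻¹ * h * s * v 0 * (s⁻¹ * h * s)⁻¹ = s⁻¹ * (h * (s * v 0 * s⁻¹) * h⁻¹) * s by group, hs,
        zero_add, hall, hm1]
      exact hback 0 m (by rw [hs, zero_add])
    · rw [show s⁻¹ * h * s * v 1 * (s⁻¹ * h * s)⁻¹ = s⁻¹ * (h * (s * v 1 * s⁻¹) * h⁻¹) * s by group, hs,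
        add_comm 1 m, hall, hm2]
      exact hback 2 (m + 2) (by rw [hs, add_comm])
  exact ⟨⟨v, fun i => (hvS i).1, hv1, hvz, hinj, fun i => hS2 _ (hvS i), hprod, fun i j hj => (hvS i).2 j hj,
    hperm, hcv, hout, fun j hj h => hfour j ⟨hj, h⟩⟩⟩

end Raw

/-- The data from the hypotheses on the centraliser. -/
theorem exists_raw {G : Type u} [Group G] [Finite G] (z : G) (hz : orderOf z = 2)
    {F : Type v} [Field F] [Fintype F] (hF : Fintype.card F = 3)
    (V E : Subgroup ↥(Subgroup.centralizer ({z} : Set G)))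
    (hVE : Cfsg.IsInternalDirectProduct V E (Cfsg.pCore 2 ↥(Subgroup.centralizer ({z} : Set G))))
    (hV : Nat.card ↥V = 4) (hV2 : ∀ v ∈ V, v ^ 2 = 1) (hE : Cfsg.IsExtraspecial 2 ↥E)
    (hEc : Nat.card ↥E = 2 ^ 9)
    (hCJ : Subgroup.centralizer ((Cfsg.pCore 2 ↥(Subgroup.centralizer ({z} : Set G))) :
      Set ↥(Subgroup.centralizer ({z} : Set G))) ≤ Cfsg.pCore 2 ↥(Subgroup.centralizer ({z} : Set G)))
    (zc c : ↥(Subgroup.centralizer ({z} : Set G))) (hzc : (zc : G) = z) (hc : orderOf c = 3)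
    [hJc : (Cfsg.pCore 2 ↥(Subgroup.centralizer ({z} : Set G)) ⊔ Subgroup.zpowers c).Normal]
    (e : (↥(Subgroup.centralizer ({z} : Set G)) ⧸
      (Cfsg.pCore 2 ↥(Subgroup.centralizer ({z} : Set G)) ⊔ Subgroup.zpowers c)) ≃* MulAut (Cfsg.PSp 2 F))
    [hcz : ((Subgroup.zpowers c ⊔ Subgroup.zpowers zc).subgroupOf
      (Subgroup.centralizer ({c} : Set ↥(Subgroup.centralizer ({z} : Set G))))).Normal]
    (e' : (↥(Subgroup.centralizer ({c} : Set ↥(Subgroup.centralizer ({z} : Set G)))) ⧸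
      (Subgroup.zpowers c ⊔ Subgroup.zpowers zc).subgroupOf
        (Subgroup.centralizer ({c} : Set ↥(Subgroup.centralizer ({z} : Set G))))) ≃* Cfsg.PSp 2 F) :
    ∃ R : Raw z, R.J = (Cfsg.pCore 2 ↥(Subgroup.centralizer ({z} : Set G))).map
      (Subgroup.centralizer ({z} : Set G)).subtype := by
  classical
  obtain ⟨f⟩ := exists_U4_equiv F hF
  let H := Subgroup.centralizer ({z} : Set G)
  set J := Cfsg.pCore 2 ↥H with hJdef
  haveI hJn : J.Normal := Cores.pCore_normal 2 _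
  have hJp : IsPGroup 2 J := Cores.isPGroup_pCore 2 _
  have hzz : z * z = 1 := by rw [← sq, ← hz, pow_orderOf_eq_one]
  have hzc2 : zc * zc = 1 := Subtype.ext (by rw [Subgroup.coe_mul, hzc, hzz, Subgroup.coe_one])
  have hzcen : ∀ x : H, Commute x zc := fun x => Subtype.ext (by
    rw [Subgroup.coe_mul, Subgroup.coe_mul, hzc]; exact Subgroup.mem_centralizer_singleton_iff.1 x.2)
  have hzJ : zc ∈ J := hCJ (Subgroup.mem_centralizer_iff.2 fun j _ => (hzcen j).eq)
  have hc3 : c ^ 3 = 1 := hc ▸ pow_orderOf_eq_one c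
  have hcne : c ≠ 1 := fun e0 => by rw [e0, orderOf_one] at hc; omega
  have odd3 : ∀ x : H, x ∈ J → x ^ 3 = 1 → x = 1 := fun x hx h3 => by
    obtain ⟨n, hn⟩ := (IsPGroup.iff_orderOf.1 hJp) ⟨x, hx⟩
    rw [← Subgroup.orderOf_coe] at hn
    exact orderOf_eq_one_iff.1 (Nat.Coprime.eq_one_of_dvd (by rw [hn]; exact Nat.Coprime.pow_left n (by norm_num))
      (orderOf_dvd_of_pow_eq_one h3))
  have hcJ : c ∉ J := fun h => hcne (odd3 c h hc3)
  have hKmem : ∀ x, x ∈ J ⊔ Subgroup.zpowers c ↔ ∃ k : ℕ, x * c ^ k ∈ J := by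
    intro x
    constructor
    · intro hx
      obtain ⟨a, ha, b, hb, rfl⟩ := Subgroup.mem_sup_of_normal_left.1 hx
      obtain ⟨n, rfl⟩ := (isOfFinOrder_of_finite c).mem_powers_iff_mem_zpowers.2 hb
      exact ⟨2 * n, by
        show a * c ^ n * c ^ (2 * n) ∈ J
        rw [mul_assoc, ← pow_add, show n + 2 * n = 3 * n by omega, pow_mul, hc3, one_pow, mul_one]
        exact ha⟩
    · rintro ⟨k, hk⟩
      rw [show x = x * c ^ k * (c ^ k)⁻¹ by group]
      exact Subgroup.mul_mem_sup hk (inv_mem (Subgroup.npow_mem_zpowers c k))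
  have hcent_fix : ∀ j : H, j ∈ J → Commute j c → j = 1 ∨ j = zc := by
    intro j hj hjc
    haveI hs : IsSimpleGroup (Cfsg.PSp 2 F) := by
      haveI := simple_U4
      exact MulEquiv.isSimpleGroup f
    set C := Subgroup.centralizer ({c} : Set ↥H)
    set Kc := (Subgroup.zpowers c ⊔ Subgroup.zpowers zc).subgroupOf C
    let q : C →* Cfsg.PSp 2 F := e'.toMonoidHom.comp (QuotientGroup.mk' Kc)
    have hq : Function.Surjective q := e'.surjective.comp (QuotientGroup.mk'_surjective Kc)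
    haveI : (J.subgroupOf C).Normal := Subgroup.Normal.subgroupOf hJn C
    haveI hqn : ((J.subgroupOf C).map q).Normal := Subgroup.Normal.map inferInstance q hq
    have hp : IsPGroup 2 ((J.subgroupOf C).map q) :=
      (hJp.comap_of_injective C.subtype C.subtype_injective).map q
    have hbot : (J.subgroupOf C).map q = ⊥ := by
      refine (hs.eq_bot_or_eq_top_of_normal _ hqn).resolve_right fun htop => ?_
      rw [htop] at hp
      haveI : Fact (Nat.Prime 2) := ⟨Nat.prime_two⟩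
      obtain ⟨n, hn⟩ := hp.exists_card_eq
      rw [Subgroup.card_top, Nat.card_congr f.toEquiv, card_SU4] at hn
      have h5 : (5 : ℕ) ∣ 2 ^ n := by rw [← hn]; norm_num
      exact absurd ((Nat.prime_dvd_prime_iff_eq (by norm_num) Nat.prime_two).1
        ((Nat.prime_iff.1 (by norm_num : Nat.Prime 5)).dvd_of_dvd_pow h5)) (by norm_num)
    have hj1 : (⟨j, Subgroup.mem_centralizer_singleton_iff.2 hjc.eq⟩ : C) ∈ Kc := by
      rw [← QuotientGroup.eq_one_iff, ← map_eq_one_iff e' e'.injective]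
      exact (Subgroup.mem_bot.1 (hbot ▸ Subgroup.mem_map_of_mem q
        (show (⟨j, Subgroup.mem_centralizer_singleton_iff.2 hjc.eq⟩ : C) ∈ J.subgroupOf C from hj)) :)
    have hKc : j ∈ Subgroup.zpowers c ⊔ Subgroup.zpowers zc := hj1
    haveI hzn : (Subgroup.zpowers zc).Normal := ⟨fun n hn g => by
      obtain ⟨k, rfl⟩ := Subgroup.mem_zpowers_iff.1 hn
      rw [((hzcen g).zpow_right k).eq, mul_inv_cancel_right]
      exact Subgroup.zpow_mem_zpowers zc k⟩
    obtain ⟨a, ha, b, hb, hab⟩ := Subgroup.mem_sup_of_normal_right.1 hKc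
    have haJ : a ∈ J := by
      rw [show a = j * b⁻¹ by rw [← hab]; group]
      exact mul_mem hj (inv_mem ((Subgroup.zpowers_le.2 hzJ) hb))
    have ha1 : a = 1 := by
      refine odd3 a haJ ?_
      obtain ⟨n, rfl⟩ := Subgroup.mem_zpowers_iff.1 ha
      rw [← zpow_natCast, ← zpow_mul, mul_comm, zpow_mul, zpow_natCast, hc3, one_zpow]
    rw [ha1, one_mul] at hab
    rw [← hab]
    exact mem_zpowers_two hzc2 hb
  -- conjugates of c
  have hcn : ∀ h : H, h * c * h⁻¹ * c⁻¹ ∈ J ∨ h * c * h⁻¹ * c ∈ J := fun h => by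
    obtain ⟨k, hk⟩ := (hKmem _).1 (hJc.conj_mem c (Subgroup.mem_sup_right (Subgroup.mem_zpowers c)) h)
    have hk3 : c ^ k = c ^ (k % 3) := by rw [← hc, pow_mod_orderOf]
    have hk3' : k % 3 = 0 ∨ k % 3 = 1 ∨ k % 3 = 2 := by omega
    rcases hk3' with e0 | e0 | e0 <;> rw [hk3, e0] at hk
    · rw [pow_zero, mul_one] at hk
      exact absurd (hJn.conj_mem _ hk h⁻¹) (by
        rw [show h⁻¹ * (h * c * h⁻¹) * h⁻¹⁻¹ = c by group]; exact hcJ)
    · exact Or.inr (by rwa [pow_one] at hk)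
    · left
      rwa [show c⁻¹ = c ^ 2 from inv_eq_of_mul_eq_one_right (by rw [← pow_succ', hc3])]
  let ψ : ↥H →* MulAut U4 := (MulAut.congr f).toMonoidHom.comp (e.toMonoidHom.comp (QuotientGroup.mk' _))
  have hψ : Function.Surjective ψ :=
    (MulAut.congr f).surjective.comp (e.surjective.comp (QuotientGroup.mk'_surjective _))
  have hψker : ∀ x, ψ x = 1 ↔ ∃ k : ℕ, x * c ^ k ∈ J := fun x => by
    rw [← hKmem]
    show (MulAut.congr f) (e (QuotientGroup.mk x)) = 1 ↔ _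
    rw [map_eq_one_iff _ (MulAut.congr f).injective, MulEquiv.map_eq_one_iff, QuotientGroup.eq_one_iff]
  have hinv : ∃ h : H, h * c * h⁻¹ * c ∈ J := by
    by_contra! hno
    set C := Subgroup.centralizer ({c} : Set ↥H)
    have hcov : ∀ x : MulAut U4, ∃ g : C, ψ g = x := fun x => by
      obtain ⟨h, rfl⟩ := hψ x
      have hj := (hcn h).resolve_right (hno h)
      set K : Subgroup ↥H := J ⊔ Subgroup.zpowers c
      have h1 : h * c * h⁻¹ ∈ K := hJc.conj_mem c (Subgroup.mem_sup_right (Subgroup.mem_zpowers c)) h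
      haveI : Fact (Nat.Prime 3) := ⟨Nat.prime_three⟩
      have hKcard : Nat.card K = Nat.card J * 3 := by
        have h3 : Nat.card (Subgroup.zpowers c) = 3 := by rw [Nat.card_zpowers, hc]
        refine le_antisymm ?_ (Nat.le_of_dvd Nat.card_pos ?_)
        · have hsur : Function.Surjective (fun p : J × Subgroup.zpowers c =>
              (⟨(p.1 : H) * p.2, Subgroup.mul_mem_sup p.1.2 p.2.2⟩ : K)) := fun ⟨y, hy⟩ => by
            obtain ⟨a, ha, b, hb, rfl⟩ := Subgroup.mem_sup_of_normal_left.1 hy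
            exact ⟨(⟨a, ha⟩, ⟨b, hb⟩), rfl⟩
          have := Nat.card_le_card_of_surjective _ hsur
          rwa [Nat.card_prod, h3] at this
        · refine Nat.Coprime.mul_dvd_of_dvd_of_dvd ?_ (Subgroup.card_dvd_of_le le_sup_left)
            (h3 ▸ Subgroup.card_dvd_of_le le_sup_right)
          obtain ⟨n, hn⟩ := hJp.exists_card_eq (p := 2)
          rw [hn]
          exact Nat.Coprime.pow_left n (by norm_num)
      have hindex : ∀ y : H, (hy : y ∈ K) → orderOf y = 3 → ¬ 3 ∣ (Subgroup.zpowers (⟨y, hy⟩ : K)).index := by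
        intro y hy hy3 hdvd
        have hprod := (Subgroup.zpowers (⟨y, hy⟩ : K)).card_mul_index
        rw [Nat.card_zpowers, Subgroup.orderOf_mk, hy3, hKcard] at hprod
        obtain ⟨n, hn⟩ := hJp.exists_card_eq (p := 2)
        rw [hn] at hprod
        have e9 : (Subgroup.zpowers (⟨y, hy⟩ : K)).index = 2 ^ n := by omega
        rw [e9] at hdvd
        exact absurd (Nat.prime_three.dvd_of_dvd_pow hdvd) (by norm_num)
      have hp3 : ∀ y : H, (hy : y ∈ K) → orderOf y = 3 → IsPGroup 3 (Subgroup.zpowers (⟨y, hy⟩ : K)) :=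
        fun y hy hy3 => IsPGroup.of_card (n := 1) (by rw [Nat.card_zpowers, Subgroup.orderOf_mk, hy3, pow_one])
      have ho : orderOf (h * c * h⁻¹) = 3 := by
        rw [← hc]; exact orderOf_injective (MulAut.conj h).toMonoidHom (MulAut.conj h).injective c
      have hcK : c ∈ K := Subgroup.mem_sup_right (Subgroup.mem_zpowers c)
      let P : Sylow 3 K := (hp3 c hcK hc).toSylow (hindex c hcK hc)
      let Q : Sylow 3 K := (hp3 _ h1 ho).toSylow (hindex _ h1 ho)
      obtain ⟨k, hk⟩ := MulAction.exists_smul_eq K P Q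
      have hmem : k * ⟨c, hcK⟩ * k⁻¹ ∈ (Q : Subgroup K) := by
        rw [← hk, Sylow.coe_subgroup_smul]
        exact ⟨⟨c, hcK⟩, Subgroup.mem_zpowers _, rfl⟩
      obtain ⟨a, ha, b, hb, hkab⟩ := Subgroup.mem_sup_of_normal_left.1 (show (k : H) ∈ K from k.2)
      have hbc : Commute b c := by
        obtain ⟨n, rfl⟩ := Subgroup.mem_zpowers_iff.1 hb
        exact (Commute.refl c).zpow_left n
      obtain ⟨n, hn⟩ := Subgroup.mem_zpowers_iff.1 hmem
      have hn' : (h * c * h⁻¹) ^ n = a * c * a⁻¹ := by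
        have := congrArg Subtype.val hn
        rw [SubgroupClass.coe_zpow, Subgroup.coe_mul, Subgroup.coe_mul, Subgroup.coe_inv, ← hkab] at this
        rw [this, show a * b * c * (a * b)⁻¹ = a * (b * c * b⁻¹) * a⁻¹ by group, Datum.conj_fix.2 hbc]
      have hmk : ∀ {u w : H}, u * w⁻¹ ∈ J → (u : H ⧸ J) = w := fun {u w} hu => by
        rw [eq_comm, QuotientGroup.eq]
        have := hJn.conj_mem _ hu w⁻¹
        simpa [mul_assoc] using this
      have q1 : ((h * c * h⁻¹ : H) : H ⧸ J) = (c : H ⧸ J) := hmk hj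
      have q2 : ((a * c * a⁻¹ : H) : H ⧸ J) = (c : H ⧸ J) := by
        rw [QuotientGroup.mk_mul, QuotientGroup.mk_mul, QuotientGroup.mk_inv,
          (QuotientGroup.eq_one_iff a).2 ha, one_mul, inv_one, mul_one]
      have q3 : (c : H ⧸ J) ^ n = (c : H ⧸ J) := by
        rw [← q1, ← QuotientGroup.mk_zpow, hn', q2, q1]
      have q4 : c ^ (n - 1) = 1 := by
        have hm : ((c ^ (n - 1) : H) : H ⧸ J) = 1 := by
          rw [QuotientGroup.mk_zpow, zpow_sub_one, q3, mul_inv_cancel]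
        refine odd3 _ ((QuotientGroup.eq_one_iff _).1 hm) ?_
        rw [← zpow_natCast, ← zpow_mul, mul_comm, zpow_mul, zpow_natCast, hc3, one_zpow]
      have hn1 : (h * c * h⁻¹) ^ n = h * c * h⁻¹ := by
        have e3 : c ^ n = c := by
          have := congrArg (· * c) q4
          simpa [zpow_sub_one] using this
        rw [conj_zpow, e3]
      rw [hn1] at hn'
      refine ⟨⟨a⁻¹ * h, Subgroup.mem_centralizer_singleton_iff.2 (Datum.conj_fix.1 ?_).eq⟩, ?_⟩
      · rw [show a⁻¹ * h * c * (a⁻¹ * h)⁻¹ = a⁻¹ * (h * c * h⁻¹) * a by group, hn']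
        group
      · show ψ (a⁻¹ * h) = ψ h
        rw [map_mul, (hψker a⁻¹).2 ⟨0, by rw [pow_zero, mul_one]; exact inv_mem ha⟩, one_mul]
    set Kc := (Subgroup.zpowers c ⊔ Subgroup.zpowers zc).subgroupOf C
    have hker : Kc ≤ (ψ.comp C.subtype).ker := fun x hx => by
      have hx' : (x : H) ∈ Subgroup.zpowers c ⊔ Subgroup.zpowers zc := hx
      have hle : Subgroup.zpowers c ⊔ Subgroup.zpowers zc ≤ ψ.ker :=
        sup_le (Subgroup.zpowers_le.2 ((hψker c).2 ⟨2, by rw [← pow_succ', hc3]; exact one_mem _⟩))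
          (Subgroup.zpowers_le.2 ((hψker zc).2 ⟨0, by rw [pow_zero, mul_one]; exact hzJ⟩))
      exact hle hx'
    have hs := Nat.card_le_card_of_surjective (QuotientGroup.lift Kc (ψ.comp C.subtype) hker)
      (fun x => by
        obtain ⟨g, hg⟩ := hcov x
        exact ⟨QuotientGroup.mk g, hg⟩)
    rw [Nat.card_congr e'.toEquiv, Nat.card_congr f.toEquiv] at hs
    have hi : (MulAut.conj : U4 →* MulAut U4).range.index = 2 := index_conj_range
    have hm := (MulAut.conj : U4 →* MulAut U4).range.card_mul_index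
    rw [hi, ← Nat.card_congr (MonoidHom.ofInjective (f := (MulAut.conj : U4 →* MulAut U4))
      fun a b h => conj_inj h).toEquiv] at hm
    have := card_SU4
    omega
  have hdec : ∀ y ∈ J, ∃ a ∈ V, ∃ b ∈ E, a * b = y := by
    let P : Subgroup ↥H :=
      { carrier := {y | ∃ a ∈ V, ∃ b ∈ E, a * b = y}
        one_mem' := ⟨1, one_mem _, 1, one_mem _, mul_one 1⟩
        mul_mem' := by
          rintro _ _ ⟨a, ha, b, hb, rfl⟩ ⟨a', ha', b', hb', rfl⟩
          refine ⟨a * a', mul_mem ha ha', b * b', mul_mem hb hb', ?_⟩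
          rw [mul_assoc a, ← mul_assoc a', hVE.2.2.1 a' ha' b hb]
          group
        inv_mem' := by
          rintro _ ⟨a, ha, b, hb, rfl⟩
          exact ⟨a⁻¹, inv_mem ha, b⁻¹, inv_mem hb,
            by rw [mul_inv_rev, hVE.2.2.1 _ (inv_mem ha) _ (inv_mem hb)]⟩ }
    have hle : V ⊔ E ≤ P :=
      sup_le (fun a ha => ⟨a, ha, 1, one_mem _, mul_one a⟩) fun b hb => ⟨1, one_mem _, b, hb, one_mul b⟩
    exact fun y hy => hle (hVE.2.2.2.2.symm ▸ hy)
  -- transfer to the group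
  have hmem : ∀ {x : G}, Commute x z → x ∈ H := fun {x} hx => Subgroup.mem_centralizer_singleton_iff.2 hx.eq
  have hcomm : ∀ x : H, Commute (x : G) z := fun x => Subgroup.mem_centralizer_singleton_iff.1 x.2
  have hin : ∀ {K : Subgroup ↥H} {x : G} (hx : x ∈ H), x ∈ K.map H.subtype ↔ (⟨x, hx⟩ : H) ∈ K :=
    fun {K x} hx => ⟨fun ⟨y, hy, hye⟩ => (Subtype.ext hye : y = ⟨x, hx⟩) ▸ hy, fun h => ⟨_, h, rfl⟩⟩
  refine ⟨{
    J := J.map H.subtype
    V := V.map H.subtype
    E := E.map H.subtype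
    c := c
    π := fun x => if hx : x ∈ H then ψ ⟨x, hx⟩ else 1
    z_sq := hzz
    z_ne := fun e0 => by rw [e0, orderOf_one] at hz; omega
    z_mem := ⟨zc, hzJ, hzc⟩
    J_cent := by rintro _ ⟨y, -, rfl⟩; exact hcomm y
    J_norm := fun h hh => by
      rintro _ ⟨y, hy, rfl⟩
      exact ⟨⟨h, hmem hh⟩ * y * ⟨h, hmem hh⟩⁻¹, hJn.conj_mem y hy _, rfl⟩
    J_cf := fun x hx h => ⟨⟨x, hmem hx⟩, hCJ (Subgroup.mem_centralizer_iff.2 fun j hj =>
      Subtype.ext (h j ⟨j, hj, rfl⟩).eq.symm), rfl⟩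
    V_le := Subgroup.map_mono hVE.1
    E_le := Subgroup.map_mono hVE.2.1
    V_E := by
      rintro _ ⟨a, ha, rfl⟩ _ ⟨b, hb, rfl⟩
      exact congrArg Subtype.val (hVE.2.2.1 a ha b hb)
    V_inf := by
      rintro _ ⟨a, ha, rfl⟩ ⟨b, hb, hba⟩
      have hab : b = a := Subtype.ext hba
      have : a ∈ V ⊓ E := ⟨ha, hab ▸ hb⟩
      rw [hVE.2.2.2.1, Subgroup.mem_bot] at this
      rw [this]; rfl
    V_card := by rw [Subgroup.card_map_of_injective H.subtype_injective, hV]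
    V_sq := by
      rintro _ ⟨a, ha, rfl⟩
      have := congrArg Subtype.val (hV2 a ha)
      rwa [pow_two] at this
    dec := by
      rintro _ ⟨y, hy, rfl⟩
      obtain ⟨a, ha, b, hb, rfl⟩ := hdec y hy
      exact ⟨a, ⟨a, ha, rfl⟩, b, ⟨b, hb, rfl⟩, rfl⟩
    E_extra := isExtraspecial_congr (Subgroup.equivMapOfInjective E H.subtype H.subtype_injective) hE
    E_card := by rw [Subgroup.card_map_of_injective H.subtype_injective, hEc]; norm_num
    c_z := hcomm c
    c3 := congrArg Subtype.val hc3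
    c_ne := fun e0 => hcne (Subtype.ext e0)
    J_two := hJp.map H.subtype
    c_fix := by
      rintro _ ⟨y, hy, rfl⟩ hyc
      rcases hcent_fix y hy (Subtype.ext hyc.eq) with e0 | e0
      exacts [Or.inl (by rw [e0]; rfl), Or.inr (by rw [e0]; exact hzc)]
    c_norm := fun h hh => (hcn ⟨h, hmem hh⟩).imp (fun h1 => ⟨_, h1, rfl⟩) fun h1 => ⟨_, h1, rfl⟩
    invert := by
      obtain ⟨h, h1⟩ := hinv
      exact ⟨h, hcomm h, _, h1, rfl⟩
    π_mul := fun g h hg hh => by
      rw [dif_pos (hmem hg), dif_pos (hmem hh), dif_pos (mul_mem (hmem hg) (hmem hh)), ← map_mul]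
      rfl
    π_ker := fun h hh => by
      rw [dif_pos (hmem hh), hψker]
      exact exists_congr fun k => ⟨fun h1 => ⟨_, h1, rfl⟩,
        fun h1 => (hin (mul_mem (hmem hh) (pow_mem c.2 k))).1 h1⟩
    π_surj := fun x => by
      obtain ⟨h, rfl⟩ := hψ x
      exact ⟨h, hcomm h, by rw [dif_pos h.2]⟩ }, rfl⟩

end Cfsg.Agent.Fi23ByInvol
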