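/-
Coordinates for the centraliser of type Fi23.

* `exists_scalar` : an additive map commuting with SU(4,2) is a scalar;
* `not_red` : the module has natural shape when an element without fixed points commutes with the action;
* `Raw.exists_datum` : the data of `Datum`.
-/
import Cfsg.Agent.Lib.Fi23ByInvol.Raw

set_option autoImplicit false
set_option linter.unusedSectionVars false
set_option linter.constructorNameAsVariable false

namespace Cfsg.Agent.Fi23ByInvol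

open Cfsg.Agent.ThreeTransSU Cfsg.Agent.U62Rec Cfsg.Agent.U62Cover Cfsg.Agent.LargeExtraspecial
open scoped commutatorElement

universe u v

/-- An additive map commuting with the group is a scalar. -/
theorem exists_scalar (T : V4 →+ V4) (hT : ∀ a x, T (act a x) = act a (T x)) :
    ∃ k : K, ∀ x, T x = k • x := by
  obtain ⟨f, g, hfr⟩ := U62Rec.exists_frame std_pair
  have line : ∀ {p q f g : V4}, Frame p q f g → ∀ c : K, T (c • p) = (c * hf (T p) f) • p := by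
    intro p q f g hfr c
    have h0 : ∀ e, hf e e = 0 → hf p e = 0 → e ≠ 0 → hf (T p) e = 0 := fun e he hpe hne => by
      have h := hT (t4 e) p
      rw [act_tv_of_orth cardK he hpe, act_tv cardK he] at h
      exact (smul_eq_zero.1 (left_eq_add.1 h)).resolve_right hne
    have e1 := hfr.expand (T p)
    rw [h0 p hfr.pp hfr.pp hfr.iso_p.1, h0 q hfr.qq hfr.pq hfr.iso_q.1, h0 g hfr.gg hfr.pg hfr.iso_g.1,
      zero_smul, zero_smul, zero_smul, add_zero, add_zero, add_zero] at e1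
    obtain ⟨x, hx, -⟩ := hfr.exists_diag k_om.1
    have e2 : T (om • p) = (om * hf (T p) f) • p := by
      rw [← hx, hT]
      conv_lhs => rw [e1, act_smul, hx, smul_smul, mul_comm]
    rcases k_span om c k_om.1 k_om.2.1 with rfl | rfl | rfl | rfl
    · simp
    · rw [one_smul, one_mul]; exact e1
    · exact e2
    · rw [add_smul, one_smul, map_add, e2, add_mul, one_mul, add_smul, ← e1]
  have link : ∀ {p q f g : V4}, Frame p q f g → hf (T q) g = hf (T p) f := by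
    intro p q f g hfr
    obtain ⟨a, ha, -, -⟩ := hfr.exists_swap (m := 1) one_ne_zero
    rw [one_smul] at ha
    have e := line hfr 1
    rw [one_smul, one_mul] at e
    have e' : T q = hf (T p) f • q := by
      rw [← ha, hT]
      conv_lhs => rw [e, act_smul]
    rw [e', sl, hfr.qg, mul_one]
  set k := hf (T p₀) f
  have h2 : Frame p₀ g f q₀ :=
    ⟨hfr.pp, hfr.gg, hfr.ff, hfr.qq, hfr.pg, hfr.fq, hfr.fp, hfr.qg, hfr.fg, hfr.qp⟩
  have h4 : Frame f g p₀ q₀ :=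
    ⟨hfr.ff, hfr.gg, hfr.pp, hfr.qq, hfr.fg, hfr.pq, hfr.pf, hfr.qg, hfr.pg, hfr.qf⟩
  have kq : hf (T q₀) g = k := link hfr
  have kg : hf (T g) q₀ = k := link h2
  have kf : hf (T f) p₀ = k := (link h4).symm.trans kg
  refine ⟨k, fun x => ?_⟩
  conv_lhs => rw [hfr.expand x]
  conv_rhs => rw [hfr.expand x]
  rw [map_add, map_add, map_add, line hfr, line hfr.swap, line h4, line h4.swap, kq, kg, kf]
  simp only [smul_add, smul_smul, mul_comm k]
  rfl

/-- A map without fixed points commuting with the action excludes the reducible shape. -/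
theorem not_red {V : Type u} [AddCommGroup V] (ρ : Rep V) (hR : ρ.IsRed) (T : V →+ V)
    (hT : ∀ a x, T (ρ.act a x) = ρ.act a (T x)) (hfix : ∀ x, T x = x → x = 0)
    (h3 : ∀ x, T (T (T x)) = x) : False := by
  obtain ⟨w, -, hw, -, hw0, -, -⟩ := ρ.mid_ne hR 1
  have hta : ∀ b x, T (ρ.ta b x) = ρ.ta b (T x) := fun b x => hT _ x
  have hTW : T w ∈ ρ.W (mid 1) := by
    refine ⟨fun a ha => by rw [← hta, hw.1 a ha], ?_⟩
    show ∑ a : A3, ρ.ta a (T w) = 0
    rw [Finset.sum_congr rfl fun a _ => (hta a w).symm, ← map_sum,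
      show ∑ a : A3, ρ.ta a w = 0 from hw.2, map_zero]
  have hu := ρ.s₂_W 1 hw
  have hu0 : ρ.act s₂ w ≠ 0 := fun e => hw0 (ρ.act_injective s₂ (e.trans (map_zero _).symm))
  set u := ρ.act s₂ w
  have key : ∀ b, dot b (chr (mid 1)) ≠ 0 → T w ≠ ρ.ta b w := by
    intro b hb e
    have h1 : ρ.act s₂ (T w) = ρ.ta (b + b) u := by
      rw [e, ρ.s₂_comm]
      refine ρ.W_ta hu ?_
      rw [(sw_double b).1, dot_add]
      have hp : ∀ d : ZMod 3, -d = d + d := by decide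
      exact hp _
    have h2 : ρ.act s₂ (T w) = ρ.ta b u := by
      rw [← hT]
      rcases ρ.W_four hR 1 hw hw0 hu with e' | e' | e' | e'
      · exact absurd e' hu0
      · rw [show ρ.act s₂ w = u from rfl, e', e]
      · rw [show ρ.act s₂ w = u from rfl, e', hta, e, ← ρ.ta_add, ← ρ.ta_add, add_comm]
      · rw [show ρ.act s₂ w = u from rfl, e', hta, hta, e, ← ρ.ta_add, ← ρ.ta_add, ← ρ.ta_add, ← ρ.ta_add]
        congr 1
        abel
    refine hu0 (ρ.W_moved hu hb (ρ.act_injective (tor b) ?_))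
    show ρ.ta b (ρ.ta b u) = ρ.ta b u
    rw [← ρ.ta_add, ← h1, h2]
  have hd : dot (ak (mid 1)) (chr (mid 1)) ≠ 0 := by rw [dot_ak]; decide
  rcases ρ.W_four hR 1 hw hw0 hTW with e | e | e | e
  · exact hw0 (by rw [← h3 w, e, map_zero, map_zero])
  · exact hw0 (hfix w e)
  · exact key _ hd e
  · exact key _ (by rw [dot_add, dot_ak]; decide) (by rw [ρ.ta_add]; exact e)

namespace Raw

variable {G : Type u} [Group G] [Finite G] {z : G}

theorem exists_datum (R : Raw z) (D : VData R) : ∃ Δ : Datum z, Δ.J = R.J ∧ Δ.c = R.c := by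
  classical
  obtain ⟨hsq, hcomm, hzE⟩ := R.J_rel
  -- the inner part
  let H0 : Subgroup G :=
    { carrier := {h | Commute h z ∧ ∀ i, Commute h (D.v i)}
      one_mem' := ⟨Commute.one_left _, fun _ => Commute.one_left _⟩
      mul_mem' := fun {a b} ha hb => ⟨ha.1.mul_left hb.1, fun i => (ha.2 i).mul_left (hb.2 i)⟩
      inv_mem' := fun {a} ha => ⟨ha.1.inv_left, fun i => (ha.2 i).inv_left⟩ }
  have hJH : ∀ j ∈ R.J, j ∈ H0 := fun j hj => ⟨R.J_cent j hj, fun i => D.v_comm i j hj⟩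
  have hconj : ∀ h, Commute h z → ∀ x ∈ H0, h * x * h⁻¹ ∈ H0 := fun h hh x hx =>
    ⟨(hh.mul_left hx.1).mul_left hh.inv_left, fun i => by
      obtain ⟨k, e⟩ := D.v_perm h⁻¹ hh.inv_left i
      have h1 := commute_conj h (hx.2 k)
      rwa [← e, show h * (h⁻¹ * D.v i * h⁻¹⁻¹) * h⁻¹ = D.v i by group] at h1⟩
  have hcpow : ∀ n : ℕ, R.c ^ n * D.v 0 * (R.c ^ n)⁻¹ = D.v (Fin.ofNat 3 n) := fun n => by
    induction n with
    | zero => simp [Fin.ofNat]
    | succ n ih =>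
      rw [pow_succ', show R.c * R.c ^ n * D.v 0 * (R.c * R.c ^ n)⁻¹ = R.c * (R.c ^ n * D.v 0 * (R.c ^ n)⁻¹) * R.c⁻¹ by
        group, ih, D.c_v]
      congr 1
      ext
      simp [Fin.ofNat, Fin.add_def, Nat.add_mod]
  have hker : ∀ h ∈ H0, R.π h = 1 → h ∈ R.J := fun h hh e => by
    obtain ⟨k, hk⟩ := (R.π_ker h hh.1).1 e
    have h1 : Commute (R.c ^ k) (D.v 0) := by
      have := (hh.2 0).inv_left.mul_left ((hJH _ hk).2 0)
      rwa [inv_mul_cancel_left] at this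
    have h2 := hcpow k
    rw [Datum.conj_fix.2 h1] at h2
    have hk3 : Fin.ofNat 3 k = 0 := (D.v_inj h2).symm
    have : R.c ^ k = 1 := by
      obtain ⟨m, rfl⟩ : 3 ∣ k := by
        have := congrArg Fin.val hk3
        simp [Fin.ofNat] at this
        exact Nat.dvd_of_mod_eq_zero this
      rw [pow_mul, R.c3, one_pow]
    rwa [this, mul_one] at hk
  have hπJ : ∀ j ∈ R.J, R.π j = 1 := fun j hj => (R.π_ker j (R.J_cent j hj)).2 ⟨0, by rwa [pow_zero, mul_one]⟩
  have hπ1 : R.π 1 = 1 := hπJ 1 (one_mem _)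
  have hπc : ∀ n : ℕ, R.π (R.c ^ n) = 1 := fun n => (R.π_ker _ (R.c_z.pow_left n)).2 ⟨2 * n, by
    rw [← pow_add, show n + 2 * n = 3 * n by omega, pow_mul, R.c3, one_pow]; exact one_mem _⟩
  have hπinv : ∀ h, Commute h z → R.π h⁻¹ = (R.π h)⁻¹ := fun h hh =>
    eq_inv_of_mul_eq_one_left (by rw [← R.π_mul _ _ hh.inv_left hh, inv_mul_cancel, hπ1])
  let P : Subgroup (MulAut U4) :=
    { carrier := {x | ∃ h ∈ H0, R.π h = x}
      one_mem' := ⟨1, one_mem _, hπ1⟩
      mul_mem' := by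
        rintro _ _ ⟨a, ha, rfl⟩ ⟨b, hb, rfl⟩
        exact ⟨a * b, mul_mem ha hb, R.π_mul a b ha.1 hb.1⟩
      inv_mem' := by
        rintro _ ⟨a, ha, rfl⟩
        exact ⟨a⁻¹, inv_mem ha, hπinv a ha.1⟩ }
  obtain ⟨o, hoz, ho0, ho1⟩ := D.outer
  have hvm : ∀ {i m k : Fin 3}, k ≠ i → k ≠ m → i ≠ m → D.v i * D.v m = D.v k := fun h1 h2 h3 =>
    mul_third D.v_sq (fun i m => D.v_comm m _ (D.v_mem i)) D.v_prod h1 h2 h3
  have hH0of : ∀ h, Commute h z → Commute h (D.v 0) → Commute h (D.v 1) → h ∈ H0 := fun h hz h0 h1 =>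
    ⟨hz, fun i => by
      fin_cases i
      exacts [h0, h1, (hvm (i := 0) (m := 1) (k := 2) (by decide) (by decide) (by decide)) ▸ h0.mul_right h1]⟩
  have hosq : o * o ∈ H0 := hH0of _ (hoz.mul_left hoz) (ho0.mul_left ho0) (Datum.conj_fix.1 (by
    rw [show o * o * D.v 1 * (o * o)⁻¹ = o * (o * D.v 1 * o⁻¹) * o⁻¹ by group, ho1,
      ← hvm (i := 0) (m := 1) (k := 2) (by decide) (by decide) (by decide),
      show o * (D.v 0 * D.v 1) * o⁻¹ = (o * D.v 0 * o⁻¹) * (o * D.v 1 * o⁻¹) by group, ho1,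
      Datum.conj_fix.2 ho0]
    exact hvm (by decide) (by decide) (by decide)))
  have hoP : R.π o ∉ P := by
    rintro ⟨h, hh, e⟩
    have e1 : R.π (h⁻¹ * o) = 1 := by rw [R.π_mul _ _ hh.1.inv_left hoz, hπinv h hh.1, e, inv_mul_cancel]
    obtain ⟨k, hk⟩ := (R.π_ker _ (hh.1.inv_left.mul_left hoz)).1 e1
    have hok : o * R.c ^ k ∈ H0 := by
      have := mul_mem hh (hJH _ hk)
      rwa [show h * (h⁻¹ * o * R.c ^ k) = o * R.c ^ k by group] at this
    have h1 : Commute (R.c ^ k) (D.v 0) := by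
      have := ho0.inv_left.mul_left (hok.2 0)
      rwa [inv_mul_cancel_left] at this
    have hk3 : Fin.ofNat 3 k = 0 := by
      have h2 := hcpow k
      rw [Datum.conj_fix.2 h1] at h2
      exact (D.v_inj h2).symm
    obtain ⟨m, rfl⟩ : 3 ∣ k := by
      have := congrArg Fin.val hk3
      simp [Fin.ofNat] at this
      exact Nat.dvd_of_mod_eq_zero this
    rw [pow_mul, R.c3, one_pow, mul_one] at hok
    rw [Datum.conj_fix.2 (hok.2 1)] at ho1
    exact absurd (D.v_inj ho1) (by decide)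
  have hcover : ∀ x, x ∈ P ∨ ∃ p ∈ P, x = R.π o * p := by
    intro x
    obtain ⟨h, hh, rfl⟩ := R.π_surj x
    obtain ⟨k, e⟩ := D.v_perm h⁻¹ hh.inv_left 0
    set h' := h * R.c ^ k.val
    have hh' : Commute h' z := hh.mul_left (R.c_z.pow_left _)
    have hπ' : R.π h' = R.π h := by rw [R.π_mul _ _ hh (R.c_z.pow_left _), hπc, mul_one]
    have h0 : Commute h' (D.v 0) := Datum.conj_fix.1 (by
      rw [show h' * D.v 0 * h'⁻¹ = h * (R.c ^ k.val * D.v 0 * (R.c ^ k.val)⁻¹) * h⁻¹ by simp only [h']; group,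
        hcpow, show Fin.ofNat 3 k.val = k from Fin.ext (Nat.mod_eq_of_lt k.2), ← e]
      group)
    obtain ⟨m, em⟩ := D.v_perm h' hh' 1
    by_cases hm : m = 1
    · exact Or.inl ⟨h', hH0of h' hh' h0 (Datum.conj_fix.1 (hm ▸ em)), hπ'⟩
    · have hm2 : m = 2 := by
        have hm0 : m ≠ 0 := fun e0 => by
          rw [e0] at em
          exact absurd (D.v_inj ((MulAut.conj h').injective (em.trans (Datum.conj_fix.2 h0).symm))) (by decide)
        exact (show ∀ m : Fin 3, m ≠ 1 → m ≠ 0 → m = 2 by decide) m hm hm0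
      refine Or.inr ⟨R.π (o⁻¹ * h'), ⟨_, hH0of _ (hoz.inv_left.mul_left hh') (ho0.inv_left.mul_left h0)
        (Datum.conj_fix.1 ?_), rfl⟩, ?_⟩
      · rw [show o⁻¹ * h' * D.v 1 * (o⁻¹ * h')⁻¹ = o⁻¹ * (h' * D.v 1 * h'⁻¹) * o by group, em, hm2, ← ho1]
        group
      · rw [R.π_mul _ _ hoz.inv_left hh', hπinv o hoz, mul_inv_cancel_left, hπ']
  have hPidx : P.index = 2 := by
    have key : ∀ {a p : MulAut U4}, a = R.π o → p ∈ P → a * p * a ∈ P := by
      rintro a p rfl ⟨h, hh, rfl⟩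
      refine ⟨o * h * o⁻¹ * (o * o), mul_mem (hconj o hoz h hh) hosq, ?_⟩
      rw [show o * h * o⁻¹ * (o * o) = o * h * o by group, R.π_mul _ _ (hoz.mul_left hh.1) hoz,
        R.π_mul _ _ hoz hh.1]
    refine Subgroup.index_eq_two_iff.2 ⟨R.π o, fun b => ?_⟩
    by_cases hb : b ∈ P
    · exact Or.inr ⟨hb, fun h => hoP ((P.mul_mem_cancel_left hb).1 h)⟩
    · obtain ⟨p, hp, rfl⟩ := (hcover b).resolve_left hb
      exact Or.inl ⟨key rfl hp, hb⟩
  have hPr : P = (MulAut.conj : U4 →* MulAut U4).range := by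
    haveI : P.Normal := Subgroup.normal_of_index_eq_two hPidx
    have hle : (MulAut.conj : U4 →* MulAut U4).range ≤ P := by
      rintro _ ⟨a, rfl⟩
      let χ : U4 →* ℤˣ := (IndexTwo.signHom P hPidx).comp MulAut.conj
      exact (IndexTwo.signHom_eq_one (h := hPidx)).1 (U4_hom_trivial χ a)
    refine (Subgroup.eq_of_le_of_card_ge hle ?_).symm
    have h1 := P.card_mul_index
    have h2 := (MulAut.conj : U4 →* MulAut U4).range.card_mul_index
    rw [hPidx] at h1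
    rw [index_conj_range] at h2
    omega
  have hφex : ∀ h : H0, ∃ a : U4, MulAut.conj a = R.π h := fun h =>
    hPr.le ⟨(h : G), h.2, rfl⟩
  let φ0 : H0 →* U4 := MonoidHom.mk' (fun h => (hφex h).choose) fun g h => conj_inj (by
    rw [(hφex _).choose_spec, map_mul, (hφex g).choose_spec, (hφex h).choose_spec]
    exact R.π_mul _ _ g.2.1 h.2.1)
  have hφ0 : ∀ h : H0, MulAut.conj (φ0 h) = R.π h := fun h => (hφex h).choose_spec
  have hφker : ∀ h : H0, φ0 h = 1 ↔ (h : G) ∈ R.J := fun h => by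
    refine ⟨fun e => hker _ h.2 (by rw [← hφ0, e, map_one]), fun hh => conj_inj ?_⟩
    rw [hφ0, hπJ _ hh, map_one]
  have hφsurj : Function.Surjective φ0 := fun a => by
    obtain ⟨h, hh, e⟩ := hPr.ge ⟨a, rfl⟩
    exact ⟨⟨h, hh⟩, conj_inj ((hφ0 _).trans e)⟩
  -- modulo the four-group
  let W : Subgroup H0 :=
    { carrier := {x | (x : G) = 1 ∨ ∃ i, (x : G) = D.v i}
      one_mem' := Or.inl rfl
      mul_mem' := by
        rintro a b (ha | ⟨i, ha⟩) (hb | ⟨m, hb⟩)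
        · exact Or.inl (by rw [Subgroup.coe_mul, ha, hb, one_mul])
        · exact Or.inr ⟨m, by rw [Subgroup.coe_mul, ha, hb, one_mul]⟩
        · exact Or.inr ⟨i, by rw [Subgroup.coe_mul, ha, hb, mul_one]⟩
        · by_cases him : i = m
          · exact Or.inl (by rw [Subgroup.coe_mul, ha, hb, him, D.v_sq])
          · obtain ⟨k, k1, k2, -⟩ := fin3 i m him
            exact Or.inr ⟨k, by rw [Subgroup.coe_mul, ha, hb, hvm k1 k2 him]⟩
      inv_mem' := by
        rintro a (ha | ⟨i, ha⟩)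
        · exact Or.inl (by rw [Subgroup.coe_inv, ha, inv_one])
        · exact Or.inr ⟨i, by rw [Subgroup.coe_inv, ha, inv_eq_of_mul_eq_one_right (D.v_sq i)]⟩ }
  haveI hWn : W.Normal := ⟨fun n hn g => by
    have hc : Commute (g : G) (n : G) := by
      rcases hn with e | ⟨i, e⟩ <;> rw [e]
      exacts [Commute.one_right _, g.2.2 i]
    rw [show g * n = n * g from Subtype.ext hc.eq, mul_inv_cancel_right]
    exact hn⟩
  have hWJ : ∀ x ∈ W, (x : G) ∈ R.J := fun x hx => by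
    rcases hx with e | ⟨i, e⟩ <;> rw [e]
    exacts [one_mem _, D.v_mem i]
  have hWz : ∀ x ∈ W, (x : G) ≠ z := fun x hx e => by
    rcases hx with e' | ⟨i, e'⟩
    · exact R.z_ne (e.symm.trans e')
    · exact D.v_z i (e'.symm.trans e)
  have hWz2 : ∀ x : H0, (x : G) = 1 ∨ (x : G) = z → x ∈ W → x = 1 := fun x hx hW =>
    Subtype.ext (hx.resolve_right (hWz x hW))
  let zH : H0 := ⟨z, hJH z R.z_mem⟩
  set zb : H0 ⧸ W := QuotientGroup.mk zH
  let J0 : Subgroup (H0 ⧸ W) := (R.J.subgroupOf H0).map (QuotientGroup.mk' W)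
  have hmem0 : ∀ x : H0, (QuotientGroup.mk x : H0 ⧸ W) ∈ J0 ↔ (x : G) ∈ R.J := fun x => by
    refine ⟨?_, fun hx => ⟨x, hx, rfl⟩⟩
    rintro ⟨y, hy, e⟩
    have hw := QuotientGroup.eq.1 e
    rw [show x = y * (y⁻¹ * x) by group]
    exact mul_mem (s := R.J) hy (hWJ _ hw)
  -- the extraspecial factor maps onto it
  let θ : R.E →* J0 :=
    { toFun := fun b => ⟨QuotientGroup.mk ⟨b, hJH _ (R.E_le b.2)⟩, (hmem0 _).2 (R.E_le b.2)⟩
      map_one' := rfl
      map_mul' := fun a b => rfl }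
  have hθi : Function.Injective θ := by
    refine (injective_iff_map_eq_one θ).2 fun b hb => ?_
    have hbW : (⟨b, hJH _ (R.E_le b.2)⟩ : H0) ∈ W := (QuotientGroup.eq_one_iff _).1 (congrArg Subtype.val hb)
    obtain ⟨ζ, -, -, hcen, -, -, -⟩ := R.zeta_eq
    have hb' : (b : G) = 1 ∨ (b : G) = ζ := hcen b b.2 fun a ha => by
      rcases hbW with e | ⟨i, e⟩
      · rw [show (b : G) = 1 from e]; exact Commute.one_right a
      · rw [show (b : G) = D.v i from e]; exact D.v_comm i a (R.E_le ha)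
    have hζ : z = ζ := ((hcen z hzE fun a ha => R.J_cent a (R.E_le ha)).resolve_left R.z_ne)
    rw [← hζ] at hb'
    exact Subtype.ext (congrArg Subtype.val (hWz2 _ hb' hbW) : (b : G) = 1)
  have hθs : Function.Surjective θ := by
    rintro ⟨y, hy⟩
    obtain ⟨x, hx, rfl⟩ := hy
    obtain ⟨a, ha, b, hb, e⟩ := R.dec _ hx
    have haS : ∀ i ∈ R.J, Commute i a := fun i hi => by
      obtain ⟨a', ha', b', hb', rfl⟩ := R.dec i hi
      exact (R.V_comm ha' ha).mul_left (R.V_E a ha b' hb').symm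
    rcases D.cent a (R.V_le ha) haS with e' | e' | ⟨i, e' | e'⟩
    · exact ⟨⟨b, hb⟩, Subtype.ext (congrArg (QuotientGroup.mk' W) (Subtype.ext (by
        rw [show (x : G) = a * b from e, e', one_mul]) : (⟨b, _⟩ : H0) = x))⟩
    · exact ⟨⟨z * b, mul_mem hzE hb⟩, Subtype.ext (congrArg (QuotientGroup.mk' W) (Subtype.ext (by
        rw [show (x : G) = a * b from e, e']) : (⟨z * b, _⟩ : H0) = x))⟩
    · refine ⟨⟨b, hb⟩, Subtype.ext (QuotientGroup.eq.2 (Or.inr ⟨i, ?_⟩))⟩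
      show b⁻¹ * (x : G) = D.v i
      rw [show (x : G) = a * b from e, e', ← (D.v_comm i b (R.E_le hb)).eq, inv_mul_cancel_left]
    · refine ⟨⟨z * b, mul_mem hzE hb⟩, Subtype.ext (QuotientGroup.eq.2 (Or.inr ⟨i, ?_⟩))⟩
      show (z * b)⁻¹ * (x : G) = D.v i
      rw [show (x : G) = a * b from e, e', mul_assoc z, ← (D.v_comm i b (R.E_le hb)).eq, ← mul_assoc z,
        inv_mul_cancel_left]
  let θe : R.E ≃* J0 := MulEquiv.ofBijective θ ⟨hθi, hθs⟩
  have hextra : Cfsg.IsExtraspecial 2 ↥J0 := isExtraspecial_congr θe R.E_extra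
  have hcard : Nat.card J0 = 512 := by rw [← Nat.card_congr θe.toEquiv, R.E_card]
  have hzH2 : zH * zH = 1 := Subtype.ext R.z_sq
  have hzcomm : ∀ q : H0 ⧸ W, q * zb = zb * q := fun q => by
    obtain ⟨g, rfl⟩ := QuotientGroup.mk_surjective q
    exact congrArg QuotientGroup.mk (Subtype.ext g.2.1.eq : g * zH = zH * g)
  -- elements centralising J modulo the four-group
  have hcentJ : ∀ x : H0, (∀ j ∈ R.J, ∀ hj : j ∈ H0, x * ⟨j, hj⟩ * x⁻¹ * (⟨j, hj⟩ : H0)⁻¹ ∈ W) →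
      (x : G) ∈ R.J := by
    intro x0 hx0
    let Kx : Subgroup H0 :=
      { carrier := {x | ∀ j ∈ R.J, ∀ hj : j ∈ H0, x * ⟨j, hj⟩ * x⁻¹ * (⟨j, hj⟩ : H0)⁻¹ ∈ W}
        one_mem' := fun j _ hj => by rw [one_mul, inv_one, mul_one, mul_inv_cancel]; exact one_mem _
        mul_mem' := fun {a b} ha hb j hjJ hj => by
          have h1 := mul_mem (hWn.conj_mem _ (hb j hjJ hj) a) (ha j hjJ hj)
          rwa [show a * (b * ⟨j, hj⟩ * b⁻¹ * (⟨j, hj⟩ : H0)⁻¹) * a⁻¹ *
            (a * ⟨j, hj⟩ * a⁻¹ * (⟨j, hj⟩ : H0)⁻¹) = a * b * ⟨j, hj⟩ * (a * b)⁻¹ * (⟨j, hj⟩ : H0)⁻¹ by group] at h1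
        inv_mem' := fun {a} ha j hjJ hj => by
          have h1 := hWn.conj_mem _ (inv_mem (ha j hjJ hj)) a⁻¹
          rwa [show a⁻¹ * (a * ⟨j, hj⟩ * a⁻¹ * (⟨j, hj⟩ : H0)⁻¹)⁻¹ * a⁻¹⁻¹
            = a⁻¹ * ⟨j, hj⟩ * a⁻¹⁻¹ * (⟨j, hj⟩ : H0)⁻¹ by group] at h1 }
    haveI : Kx.Normal := ⟨fun n hn g j hjJ hj => by
      have hj' := R.J_norm _ g.2.1.inv_left j hjJ
      have h1 := hWn.conj_mem _ (hn _ hj' (hJH _ hj')) g
      rwa [show (⟨(g : G)⁻¹ * j * (g : G)⁻¹⁻¹, hJH _ hj'⟩ : H0) = g⁻¹ * ⟨j, hj⟩ * g⁻¹⁻¹ from rfl,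
        show g * (n * (g⁻¹ * ⟨j, hj⟩ * g⁻¹⁻¹) * n⁻¹ * (g⁻¹ * ⟨j, hj⟩ * g⁻¹⁻¹)⁻¹) * g⁻¹
          = g * n * g⁻¹ * ⟨j, hj⟩ * (g * n * g⁻¹)⁻¹ * (⟨j, hj⟩ : H0)⁻¹ by group] at h1⟩
    haveI := Subgroup.Normal.map (inferInstance : Kx.Normal) φ0 hφsurj
    rcases simple_U4.eq_bot_or_eq_top_of_normal (Kx.map φ0) inferInstance with h | h
    · exact (hφker x0).1 (Subgroup.mem_bot.1 (h ▸ Subgroup.mem_map_of_mem φ0 (show x0 ∈ Kx from hx0)))
    · exfalso
      -- the commutators of two such elements centralise J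
      have hkk : ∀ a ∈ Kx, ∀ b ∈ Kx, φ0 a * φ0 b = φ0 b * φ0 a := by
        intro a ha b hb
        have hc : ∀ j ∈ R.J, Commute ((a * b * a⁻¹ * b⁻¹ : H0) : G) j := fun j hjJ => by
          have hj := hJH j hjJ
          set J1 : H0 := ⟨j, hj⟩
          have hw : ∀ w ∈ W, ∀ g : H0, g * w * g⁻¹ = w := fun w hw' g => by
            rw [show g * w = w * g from Subtype.ext (by
              rcases hw' with e | ⟨i, e⟩ <;> rw [Subgroup.coe_mul, Subgroup.coe_mul, e]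
              exacts [(Commute.one_right (g : G)).eq, (g.2.2 i).eq]), mul_inv_cancel_right]
          set wa := a * J1 * a⁻¹ * J1⁻¹
          set wb := b * J1 * b⁻¹ * J1⁻¹
          have hwa : wa ∈ W := ha j hjJ hj
          have hwb : wb ∈ W := hb j hjJ hj
          have hab : wa * wb = wb * wa := by
            have := hw wb hwb wa
            rwa [mul_inv_eq_iff_eq_mul] at this
          have e1 : a * b * J1 * (a * b)⁻¹ = wb * wa * J1 := by
            rw [show a * b * J1 * (a * b)⁻¹ = (a * wb * a⁻¹) * (a * J1 * a⁻¹) by simp only [wb]; group,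
              hw wb hwb a]
            simp only [wa]; group
          have e2 : b * a * J1 * (b * a)⁻¹ = wa * wb * J1 := by
            rw [show b * a * J1 * (b * a)⁻¹ = (b * wa * b⁻¹) * (b * J1 * b⁻¹) by simp only [wa]; group,
              hw wa hwa b]
            simp only [wb]; group
          have e3 : b * a * J1 * (b * a)⁻¹ = a * b * J1 * (a * b)⁻¹ := by rw [e1, e2, hab]
          refine Datum.conj_fix.1 (congrArg Subtype.val (show a * b * a⁻¹ * b⁻¹ * J1 * (a * b * a⁻¹ * b⁻¹)⁻¹ = J1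
            from ?_))
          rw [show a * b * a⁻¹ * b⁻¹ * J1 * (a * b * a⁻¹ * b⁻¹)⁻¹
              = (a * b) * ((b * a)⁻¹ * J1 * (b * a)) * (a * b)⁻¹ by group]
          have e4 : (b * a)⁻¹ * J1 * (b * a) = (a * b)⁻¹ * J1 * (a * b) := by
            rw [show (b * a)⁻¹ * J1 * (b * a) = a⁻¹ * b⁻¹ * J1 * b⁻¹⁻¹ * a⁻¹⁻¹ by group,
              show (a * b)⁻¹ * J1 * (a * b) = b⁻¹ * a⁻¹ * J1 * a⁻¹⁻¹ * b⁻¹⁻¹ by group]
            have ga := (inv_mem ha : a⁻¹ ∈ Kx) j hjJ hj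
            have gb := (inv_mem hb : b⁻¹ ∈ Kx) j hjJ hj
            set ua := a⁻¹ * J1 * a⁻¹⁻¹ * J1⁻¹
            set ub := b⁻¹ * J1 * b⁻¹⁻¹ * J1⁻¹
            have hu : ua * ub = ub * ua := by
              have := hw ub gb ua
              rwa [mul_inv_eq_iff_eq_mul] at this
            rw [show a⁻¹ * b⁻¹ * J1 * b⁻¹⁻¹ * a⁻¹⁻¹ = (a⁻¹ * ub * a⁻¹⁻¹) * (a⁻¹ * J1 * a⁻¹⁻¹) by
                simp only [ub]; group,
              show b⁻¹ * a⁻¹ * J1 * a⁻¹⁻¹ * b⁻¹⁻¹ = (b⁻¹ * ua * b⁻¹⁻¹) * (b⁻¹ * J1 * b⁻¹⁻¹) by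
                simp only [ua]; group,
              hw ub gb, hw ua ga, show ub * (a⁻¹ * J1 * a⁻¹⁻¹) = ub * ua * J1 by simp only [ua]; group,
              show ua * (b⁻¹ * J1 * b⁻¹⁻¹) = ua * ub * J1 by simp only [ub]; group, hu]
          rw [e4]
          group
        have h1 := (hφker _).2 (R.J_cf _ (a * b * a⁻¹ * b⁻¹).2.1 hc)
        rw [map_mul, map_mul, map_mul, map_inv, map_inv, mul_inv_eq_one, mul_inv_eq_iff_eq_mul] at h1
        exact h1
      have hab : ∀ x y : U4, x * y = y * x := fun x y => by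
        obtain ⟨a, ha, rfl⟩ := (h ▸ Subgroup.mem_top x : x ∈ Kx.map φ0)
        obtain ⟨b, hb, rfl⟩ := (h ▸ Subgroup.mem_top y : y ∈ Kx.map φ0)
        exact hkk a ha b hb
      have hc : commutator U4 = ⊥ := by
        rw [commutator_eq_closure, Subgroup.closure_eq_bot_iff]
        rintro _ ⟨x, y, rfl⟩
        exact Set.mem_singleton_iff.2 (commutatorElement_eq_one_iff_mul_comm.2 (hab x y))
      rw [commutator_U4] at hc
      have := simple_U4.toNontrivial
      exact top_ne_bot hc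
  let Dat : LargeExtraspecial.Data J0 zb :=
    { z_mem := (hmem0 zH).2 R.z_mem
      z_ne := fun e => hWz zH ((QuotientGroup.eq_one_iff _).1 e) rfl
      z_sq := by rw [← QuotientGroup.mk_mul, hzH2]; rfl
      z_central := fun q _ => hzcomm q
      cent := fun x hx => by
        obtain ⟨x, rfl⟩ := QuotientGroup.mk_surjective x
        have hall : ∀ j ∈ R.J, ∀ hj : j ∈ H0, x * ⟨j, hj⟩ * x⁻¹ * (⟨j, hj⟩ : H0)⁻¹ ∈ W := fun j hjJ hj => by
          rw [← QuotientGroup.eq_one_iff, QuotientGroup.mk_mul, QuotientGroup.mk_mul, QuotientGroup.mk_mul,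
            QuotientGroup.mk_inv, QuotientGroup.mk_inv,
            ← hx _ ((hmem0 ⟨j, hj⟩).2 hjJ), mul_inv_cancel_right, mul_inv_cancel]
        have hxJ := hcentJ x hall
        have hxc : ∀ i ∈ R.J, Commute i (x : G) := fun i hi => by
          have hw := hall i hi (hJH i hi)
          rcases hcomm _ hxJ i hi with e | e
          · exact e.symm
          · refine absurd ?_ (hWz _ hw)
            show (x : G) * i * (x : G)⁻¹ * i⁻¹ = z
            rw [e, mul_assoc (i * (x : G)), ← (R.J_cent _ (inv_mem hxJ)).eq, ← mul_assoc, mul_inv_cancel_right,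
              (R.J_cent i hi).eq, mul_inv_cancel_right]
        rcases D.cent _ hxJ hxc with e | e | ⟨i, e | e⟩
        · exact Or.inl ((QuotientGroup.eq_one_iff _).2 (Or.inl e))
        · exact Or.inr (congrArg QuotientGroup.mk (Subtype.ext e : x = zH))
        · exact Or.inl ((QuotientGroup.eq_one_iff _).2 (Or.inr ⟨i, e⟩))
        · refine Or.inr (QuotientGroup.eq.2 (Or.inr ⟨i, ?_⟩))
          show (x : G)⁻¹ * z = D.v i
          rw [e, mul_inv_rev, mul_assoc, inv_mul_cancel, mul_one, inv_eq_of_mul_eq_one_right (D.v_sq i)]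
      comm := by
        intro a ha b hb
        obtain ⟨a, rfl⟩ := QuotientGroup.mk_surjective a
        obtain ⟨b, rfl⟩ := QuotientGroup.mk_surjective b
        rcases hcomm _ ((hmem0 a).1 ha) _ ((hmem0 b).1 hb) with e | e
        · refine Or.inl (commutatorElement_eq_one_iff_mul_comm.2 ?_)
          exact congrArg QuotientGroup.mk (Subtype.ext e : a * b = b * a)
        · right
          have e' : a * b * a⁻¹ * b⁻¹ = zH := Subtype.ext (by
            show (a : G) * b * (a : G)⁻¹ * (b : G)⁻¹ = z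
            rw [e, mul_assoc ((b : G) * a), ← (R.J_cent _ (inv_mem ((hmem0 a).1 ha))).eq, ← mul_assoc,
              mul_inv_cancel_right, (R.J_cent _ ((hmem0 b).1 hb)).eq, mul_inv_cancel_right])
          exact congrArg QuotientGroup.mk e'
      norm := fun g _ q hq => by
        obtain ⟨g, rfl⟩ := QuotientGroup.mk_surjective g
        obtain ⟨q, rfl⟩ := QuotientGroup.mk_surjective q
        exact (hmem0 (g * q * g⁻¹)).2 (R.J_norm _ g.2.1 _ ((hmem0 q).1 hq)) }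
  have hWk : ∀ w ∈ W, φ0 w = 1 := fun w hw => (hφker w).2 (hWJ w hw)
  let φ1 : H0 ⧸ W →* U4 := QuotientGroup.lift W φ0 hWk
  let Pr0 : U62Rec.Pre zb :=
    { J := J0
      φ := φ1
      D := Dat
      extra := hextra
      card := hcard
      φ_mul := fun g h _ _ => map_mul φ1 g h
      φ_ker := fun h _ => by
        obtain ⟨x, rfl⟩ := QuotientGroup.mk_surjective h
        rw [hmem0]; exact hφker x
      φ_surj := fun a => by
        obtain ⟨h, e⟩ := hφsurj a
        exact ⟨QuotientGroup.mk h, hzcomm _, e⟩ }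
  obtain ⟨V, _, ⟨M⟩⟩ := Pr0.exists_modl
  -- coordinates on G and the scalar
  let vc : G → V := fun j => if hj : j ∈ H0 then M.vc (QuotientGroup.mk ⟨j, hj⟩) else 0
  have hvc : ∀ (j : G) (hj : j ∈ R.J), vc j = M.vc (QuotientGroup.mk ⟨j, hJH j hj⟩) := fun j hj => by
    simp only [vc]; rw [dif_pos (hJH j hj)]
  have hmJ : ∀ (j : G) (hj : j ∈ R.J), (QuotientGroup.mk ⟨j, hJH j hj⟩ : H0 ⧸ W) ∈ Pr0.J := fun j hj =>
    (hmem0 _).2 hj
  have vmul : ∀ i ∈ R.J, ∀ j ∈ R.J, vc (i * j) = vc i + vc j := fun i hi j hj => by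
    rw [hvc _ hi, hvc _ hj, hvc _ (mul_mem hi hj), ← M.vc_mul _ (hmJ i hi) _ (hmJ j hj)]
    rfl
  have vsurj : ∀ x : V, ∃ j ∈ R.J, vc j = x := fun x => by
    obtain ⟨q, hq, rfl⟩ := M.vc_surj x
    obtain ⟨q, rfl⟩ := QuotientGroup.mk_surjective q
    exact ⟨q, (hmem0 q).1 hq, hvc _ ((hmem0 q).1 hq)⟩
  have vz : vc z = 0 := by rw [hvc z R.z_mem]; exact M.vc_z
  have vv0 : ∀ i, vc (D.v i) = 0 := fun i => by
    have e : (QuotientGroup.mk ⟨D.v i, hJH _ (D.v_mem i)⟩ : H0 ⧸ W) = 1 :=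
      (QuotientGroup.eq_one_iff _).2 (Or.inr ⟨i, rfl⟩)
    rw [hvc _ (D.v_mem i), e]
    exact left_eq_add.1 (by rw [← M.vc_mul 1 (one_mem _) 1 (one_mem _), mul_one] : M.vc 1 = M.vc 1 + M.vc 1)
  have vker : ∀ j ∈ R.J, vc j = 0 → j = 1 ∨ j = z ∨ ∃ i, j = D.v i ∨ j = z * D.v i := fun j hj e => by
    rw [hvc j hj] at e
    rcases M.vc_ker _ (hmJ j hj) e with h | h
    · rcases (QuotientGroup.eq_one_iff _).1 h with e' | ⟨i, e'⟩
      exacts [Or.inl e', Or.inr (Or.inr ⟨i, Or.inl e'⟩)]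
    · rcases QuotientGroup.eq.1 h.symm with e' | ⟨i, e'⟩
      · exact Or.inr (Or.inl (inv_mul_eq_one.1 e' : z = j).symm)
      · exact Or.inr (Or.inr ⟨i, Or.inr (inv_mul_eq_iff_eq_mul.1 e')⟩)
  have vsq : ∀ j ∈ R.J, (j * j = 1 ↔ M.rep.q (vc j) = 0) := fun j hj => by
    rw [hvc j hj, ← M.sq_iff _ (hmJ j hj)]
    refine ⟨fun e => congrArg QuotientGroup.mk (Subtype.ext e : (⟨j, _⟩ * ⟨j, _⟩ : H0) = 1), fun e => ?_⟩
    have hw := (QuotientGroup.eq_one_iff _).1 e
    exact congrArg Subtype.val (hWz2 _ (hsq j hj) hw)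
  have vcomm : ∀ i ∈ R.J, ∀ j ∈ R.J, (Commute i j ↔ M.rep.β (vc i) (vc j) = 0) := fun i hi j hj => by
    rw [hvc i hi, hvc j hj, ← M.comm_iff _ (hmJ i hi) _ (hmJ j hj)]
    refine ⟨fun e => congrArg QuotientGroup.mk (Subtype.ext e.eq : (⟨i, _⟩ * ⟨j, _⟩ : H0) = ⟨j, _⟩ * ⟨i, _⟩),
      fun e => (hcomm i hi j hj).resolve_right fun e' => ?_⟩
    have hw : (⟨j, hJH j hj⟩ * ⟨i, hJH i hi⟩ : H0)⁻¹ * (⟨i, hJH i hi⟩ * ⟨j, hJH j hj⟩) ∈ W :=
      QuotientGroup.eq.1 e.eq.symm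
    refine hWz _ hw ?_
    show (j * i)⁻¹ * (i * j) = z
    rw [e', inv_mul_cancel_left]
  have vconj : ∀ h : H0, ∀ j ∈ R.J, vc (h * j * (h : G)⁻¹) = M.rep.act (φ0 h) (vc j) := fun h j hj => by
    rw [hvc _ (R.J_norm _ h.2.1 j hj), hvc j hj]
    exact M.vc_conj (QuotientGroup.mk h) (hzcomm _) _ (hmJ j hj)
  choose lift hliftJ hlift using vsurj
  have veq : ∀ i ∈ R.J, ∀ j ∈ R.J, vc i = vc j → ∀ h, Commute h z → vc (h * i * h⁻¹) = vc (h * j * h⁻¹) := by
    intro i hi j hj e h hh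
    have h0 : vc (i⁻¹ * j) = 0 := by
      rw [vmul _ (inv_mem hi) _ hj, ← e, ← vmul _ (inv_mem hi) _ hi, inv_mul_cancel]
      exact left_eq_add.1 (by rw [← vmul 1 (one_mem _) 1 (one_mem _), mul_one] : vc 1 = vc 1 + vc 1)
    have h1 : vc (h * (i⁻¹ * j) * h⁻¹) = 0 := by
      have hz' : h * z * h⁻¹ = z := Datum.conj_fix.2 hh
      rcases vker _ (mul_mem (inv_mem hi) hj) h0 with e' | e' | ⟨k, e' | e'⟩ <;> rw [e']
      · rw [mul_one, mul_inv_cancel]
        exact left_eq_add.1 (by rw [← vmul 1 (one_mem _) 1 (one_mem _), mul_one] : vc 1 = vc 1 + vc 1)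
      · rw [hz']; exact vz
      · obtain ⟨l, el⟩ := D.v_perm h hh k
        rw [el]; exact vv0 l
      · obtain ⟨l, el⟩ := D.v_perm h hh k
        rw [show h * (z * D.v k) * h⁻¹ = (h * z * h⁻¹) * (h * D.v k * h⁻¹) by group, hz', el,
          vmul _ R.z_mem _ (D.v_mem l), vz, vv0, add_zero]
    rw [show h * j * h⁻¹ = (h * i * h⁻¹) * (h * (i⁻¹ * j) * h⁻¹) by group,
      vmul _ (R.J_norm h hh i hi) _ (R.J_norm h hh _ (mul_mem (inv_mem hi) hj)), h1, add_zero]
  let Tc : V →+ V := AddMonoidHom.mk' (fun x => vc (R.c * lift x * R.c⁻¹)) fun x y => by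
    rw [veq _ (hliftJ (x + y)) _ (mul_mem (hliftJ x) (hliftJ y))
      (by rw [hlift, vmul _ (hliftJ x) _ (hliftJ y), hlift, hlift]) _ R.c_z,
      show R.c * (lift x * lift y) * R.c⁻¹ = R.c * lift x * R.c⁻¹ * (R.c * lift y * R.c⁻¹) by group,
      vmul _ (R.J_norm _ R.c_z _ (hliftJ x)) _ (R.J_norm _ R.c_z _ (hliftJ y))]
  have hTc : ∀ j ∈ R.J, Tc (vc j) = vc (R.c * j * R.c⁻¹) := fun j hj =>
    veq _ (hliftJ _) _ hj (hlift _) _ R.c_z
  have hTact : ∀ a x, Tc (M.rep.act a x) = M.rep.act a (Tc x) := fun a x => by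
    obtain ⟨h, rfl⟩ := hφsurj a
    rw [← hlift x, ← vconj h _ (hliftJ x), hTc _ (R.J_norm _ h.2.1 _ (hliftJ x)), hTc _ (hliftJ x)]
    let h' : H0 := ⟨R.c * h * R.c⁻¹, hconj _ R.c_z _ h.2⟩
    have e : φ0 h' = φ0 h := conj_inj (by
      rw [hφ0, hφ0]
      show R.π (R.c * h * R.c⁻¹) = R.π h
      have hc1 := hπc 1
      rw [pow_one] at hc1
      rw [R.π_mul _ _ (R.c_z.mul_left h.2.1) R.c_z.inv_left, R.π_mul _ _ R.c_z h.2.1, hπinv _ R.c_z, hc1,
        one_mul, inv_one, mul_one])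
    rw [← e, ← vconj h' _ (R.J_norm _ R.c_z _ (hliftJ x))]
    congr 1
    simp only [h']
    group
  have hT3 : ∀ x, Tc (Tc (Tc x)) = x := fun x => by
    rw [← hlift x, hTc _ (hliftJ x), hTc _ (R.J_norm _ R.c_z _ (hliftJ x)),
      hTc _ (R.J_norm _ R.c_z _ (R.J_norm _ R.c_z _ (hliftJ x)))]
    congr 1
    have hc3 : R.c * R.c * R.c = 1 := by rw [← R.c3, pow_succ, pow_succ, pow_one]
    rw [show R.c * (R.c * (R.c * lift x * R.c⁻¹) * R.c⁻¹) * R.c⁻¹
      = R.c * R.c * R.c * lift x * (R.c * R.c * R.c)⁻¹ by group, hc3]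
    group
  have hTfix : ∀ x, Tc x = x → x = 0 := fun x hx => by
    set j := lift x
    have hj := hliftJ x
    set j1 := R.c * j * R.c⁻¹
    set j2 := R.c * j1 * R.c⁻¹
    have hj1 : j1 ∈ R.J := R.J_norm _ R.c_z j hj
    have hj2 : j2 ∈ R.J := R.J_norm _ R.c_z _ hj1
    have v1 : vc j1 = x := by rw [← hTc j hj, hlift, hx]
    have v2 : vc j2 = x := by rw [← hTc j1 hj1, v1, hx]
    set t := j * j1 * j2
    have ht : t ∈ R.J := mul_mem (mul_mem hj hj1) hj2
    have vt : vc t = x := by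
      rw [vmul _ (mul_mem hj hj1) _ hj2, vmul _ hj _ hj1, hlift, v1, v2, M.rep.self, zero_add]
    have hcom : Commute t j := (vcomm t ht j hj).2 (by
      rw [vt, hlift]
      exact (vcomm j hj j hj).1 (Commute.refl j) |> fun e => by rwa [hlift] at e)
    have hfix : R.c * t * R.c⁻¹ = t := by
      have e3 : R.c * j2 * R.c⁻¹ = j := by
        have hc3 : R.c * R.c * R.c = 1 := by rw [← R.c3, pow_succ, pow_succ, pow_one]
        rw [show R.c * j2 * R.c⁻¹ = R.c * R.c * R.c * j * (R.c * R.c * R.c)⁻¹ by simp only [j2, j1]; group, hc3]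
        group
      rw [show R.c * t * R.c⁻¹ = j1 * j2 * (R.c * j2 * R.c⁻¹) by simp only [t, j2, j1]; group, e3,
        show j1 * j2 * j = j⁻¹ * (t * j) by simp only [t]; group, hcom.eq, inv_mul_cancel_left]
    rcases R.c_fix t ht (Datum.conj_fix.1 hfix).symm with e | e <;> rw [← vt, e]
    · exact left_eq_add.1 (by rw [← vmul 1 (one_mem _) 1 (one_mem _), mul_one] : vc 1 = vc 1 + vc 1)
    · exact vz
  have hN : M.rep.IsNat := M.rep.dichotomy.resolve_right fun hR => not_red M.rep hR Tc hTact hTfix hT3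
  obtain ⟨f, ψ, hfb, hfa, hfc, hfq⟩ := M.rep.exists_natural hN
  let fe : V ≃+ V4 := { Equiv.ofBijective f hfb with map_add' := hfa }
  let T' : V4 →+ V4 := (fe.toAddMonoidHom.comp Tc).comp fe.symm.toAddMonoidHom
  have hT'act : ∀ a y, T' (act a y) = act a (T' y) := fun a y => by
    show fe (Tc (fe.symm (act a y))) = act a (fe (Tc (fe.symm y)))
    have e : fe.symm (act a y) = M.rep.act (ψ.symm a) (fe.symm y) := by
      apply fe.injective
      rw [AddEquiv.apply_symm_apply]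
      show _ = f _
      rw [hfc, MulEquiv.apply_symm_apply]
      show act a y = act a (fe (fe.symm y))
      rw [AddEquiv.apply_symm_apply]
    rw [e, hTact]
    show f _ = act a (f _)
    rw [hfc, MulEquiv.apply_symm_apply]
  obtain ⟨k, hk⟩ := exists_scalar T' hT'act
  have hkx : ∀ x, f (Tc x) = k • f x := fun x => by
    have h := hk (fe x)
    show fe (Tc x) = k • fe x
    rw [← h]
    show fe (Tc x) = fe (Tc (fe.symm (fe x)))
    rw [AddEquiv.symm_apply_apply]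
  have hf0 : f 0 = 0 := fe.map_zero
  obtain ⟨x0, hx0⟩ : ∃ x : V, x ≠ 0 := by
    obtain ⟨x, hx⟩ := hfb.2 p₀
    exact ⟨x, fun e => std_pair.1.1 (by rw [← hx, e, hf0])⟩
  have hk0 : k ≠ 0 := fun e => hx0 (by
    have h := hkx x0
    rw [e, zero_smul, ← hf0] at h
    rw [← hT3 x0, hfb.1 h, map_zero, map_zero])
  have hk1 : k ≠ 1 := fun e => hx0 (hTfix x0 (hfb.1 (by rw [hkx, e, one_smul])))
  let φ' : G → U4 := fun h => if hh : h ∈ H0 then ψ (φ0 ⟨h, hh⟩) else 1
  have hφ' : ∀ h (hh : h ∈ H0), φ' h = ψ (φ0 ⟨h, hh⟩) := fun h hh => by simp only [φ']; rw [dif_pos hh]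
  have hBz : ∀ i ∈ R.J, ∀ j ∈ R.J, (B (f (vc i)) (f (vc j)) = 0 ↔ Commute i j) := fun i hi j hj => by
    rw [vcomm i hi j hj]
    have hsum : hf (f (vc i + vc j)) (f (vc i + vc j))
        = hf (f (vc i)) (f (vc i)) + hf (f (vc j)) (f (vc j)) + B (f (vc i)) (f (vc j)) := by
      rw [hfa]
      simp only [hl, hr, B, hs (f (vc i)) (f (vc j))]
      ring
    have hs' : ∀ x : V4, hf x x = 0 ∨ hf x x = 1 := fun x => k_cases _ ((herm cardK).self_fixed x)
    have h1 := hfq (vc i)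
    have h2 := hfq (vc j)
    have h3 := hfq (vc i + vc j)
    rw [M.rep.q_add, hsum] at h3
    have h11 : (1 : K) + 1 = 0 := k_add_self 1
    have h11' : (1 : ZMod 2) + 1 = 0 := by decide
    rcases U62Rec.two_cases (M.rep.q (vc i)) with p | p <;> rcases U62Rec.two_cases (M.rep.q (vc j)) with r | r <;>
      rcases U62Rec.two_cases (M.rep.β (vc i) (vc j)) with s | s <;> rcases hs' (f (vc i)) with x | x <;>
      rcases hs' (f (vc j)) with y | y <;> rcases B_val (f (vc i)) (f (vc j)) with w | w <;>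
      simp [p, r, s, x, y, w, h11, h11'] at h1 h2 h3 ⊢
  refine ⟨{
    J := R.J
    vec := fun j => f (vc j)
    φ := φ'
    v := D.v
    c := R.c
    lam := k
    z_sq := R.z_sq
    z_ne := R.z_ne
    z_mem := R.z_mem
    J_cent := R.J_cent
    J_norm := R.J_norm
    v_mem := D.v_mem
    v_one := D.v_one
    v_z := D.v_z
    v_inj := D.v_inj
    v_sq := D.v_sq
    v_prod := D.v_prod
    v_comm := D.v_comm
    v_perm := D.v_perm
    vec_mul := fun i hi j hj => by rw [vmul i hi j hj, hfa]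
    vec_surj := fun y => by
      obtain ⟨x, rfl⟩ := hfb.2 y
      exact ⟨lift x, hliftJ x, by rw [hlift]⟩
    vec_ker := fun j hj e => vker j hj (hfb.1 (e.trans hf0.symm))
    vec_z := by rw [vz, hf0]
    vec_v := fun i => by rw [vv0, hf0]
    sq_one := fun j hj e => (vsq j hj).2 ((hfq _).2 e)
    sq_z := fun j hj e => (hsq j hj).resolve_left fun e' => e ((hfq _).1 ((vsq j hj).1 e'))
    comm_zero := fun i hi j hj e => (hBz i hi j hj).1 e
    comm_ne := fun i hi j hj e => (hcomm i hi j hj).resolve_left fun e' => e ((hBz i hi j hj).2 e')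
    φ_mul := fun g h gz gv hz hv => by
      rw [hφ' g ⟨gz, gv⟩, hφ' h ⟨hz, hv⟩, hφ' (g * h) (mul_mem (⟨gz, gv⟩ : g ∈ H0) ⟨hz, hv⟩), ← map_mul,
        ← map_mul]
      rfl
    φ_ker := fun h hz hv => by
      rw [hφ' h ⟨hz, hv⟩, MulEquiv.map_eq_one_iff]
      exact hφker _
    φ_surj := fun a => by
      obtain ⟨h, e⟩ := hφsurj (ψ.symm a)
      exact ⟨h, h.2.1, h.2.2, by rw [hφ' _ h.2, e, MulEquiv.apply_symm_apply]⟩
    vec_conj := fun h hz hv j hj => by
      rw [vconj ⟨h, hz, hv⟩ j hj, hfc, hφ' h ⟨hz, hv⟩]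
    c_z := R.c_z
    c_v := D.c_v
    lam0 := hk0
    lam1 := hk1
    c_vec := fun j hj => by rw [← hTc j hj, hkx]
    c_norm := R.c_norm
    outer := ⟨o, hoz, ho0, fun hc => by
      rw [Datum.conj_fix.2 hc] at ho1
      exact absurd (D.v_inj ho1) (by decide)⟩ }, rfl, rfl⟩

end Raw

end Cfsg.Agent.Fi23ByInvol
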